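import Mathlib
import Cfsg.Prelude.Def_LieTypeDatum
import Cfsg.Agent.ClassicalGeometry.AutPSL.Main
import Cfsg.Agent.H198.SplitCount

/-!
# Graph automorphisms of `PSL_n(F)` as bilinear forms (helper999)

`Cj : GL_n(F) →* Aut(PSL_n(F))` (conjugation), `It` = inverse transpose, `gam B = Cj B⁻¹ * It` the graph automorphism
attached to the invertible Gram matrix `B`.

* `isInnDiag_iff`, `isInvTr_iff`, `inndiag_eq`, `isGraph_iff` : the predicates of `Def_LieTypeDatum`;
* `Cj_eq_one_iff` : the kernel of `Cj` is the scalars;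
* `orderOf_gam` : `gam B` has order 2 iff `Bᵀ = B` or `Bᵀ = -B`;
* `isConj_iff` : `gam B` and `gam B'` are conjugate under `Inndiag` iff `B' = c Pᵀ B P`;
* `mem_centralizer_iff` : `Cj P` commutes with `gam B` iff `Pᵀ B P = c B`;
* `centEquiv` : `C_Inndiag(gam B)` is the projective similarity group of the bilinear form with Gram matrix `B`;
* `projQuot_transfer` : similarity groups of forms that correspond under a linear isomorphism;
* `split_eq` : the number of `Inn`-classes in the `Inndiag`-class of any automorphism as an index in `Fˣ / (Fˣ)^n`.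
-/

set_option autoImplicit false
set_option linter.unusedSectionVars false

namespace Cfsg.Agent.H999.PslGraph

open Matrix
open Cfsg.Agent.ClassicalGeometry.AutPSL.Root
open Cfsg.Agent.ClassicalGeometry.AutPSL.Auto
open Cfsg.Agent.ClassicalGeometry.AutPSL.Main

section basic

variable {ι F : Type*} [Fintype ι] [DecidableEq ι] [Field F]

/-- Conjugation by `GL` as automorphisms of `PSL`. -/
noncomputable def Cj : GL ι F →* MulAut (Matrix.ProjectiveSpecialLinearGroup ι F) := lift.comp cj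

/-- Inverse transpose as an automorphism of `PSL`. -/
noncomputable def It : MulAut (Matrix.ProjectiveSpecialLinearGroup ι F) := lift itr

/-- The inverse transpose of an invertible matrix. -/
def ct (g : GL ι F) : GL ι F where
  val := ((g⁻¹ : GL ι F) : Matrix ι ι F)ᵀ
  inv := (g : Matrix ι ι F)ᵀ
  val_inv := by rw [← transpose_mul, ← Units.val_mul, mul_inv_cancel, Units.val_one, transpose_one]
  inv_val := by rw [← transpose_mul, ← Units.val_mul, inv_mul_cancel, Units.val_one, transpose_one]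

theorem coe_ct (g : GL ι F) : (ct g : Matrix ι ι F) = ((g⁻¹ : GL ι F) : Matrix ι ι F)ᵀ := rfl

theorem coe_ct_inv (g : GL ι F) : (((ct g)⁻¹ : GL ι F) : Matrix ι ι F) = (g : Matrix ι ι F)ᵀ := rfl

theorem ct_mul (g h : GL ι F) : ct (g * h) = ct g * ct h := by
  apply Units.ext
  rw [Units.val_mul, coe_ct, coe_ct, coe_ct, _root_.mul_inv_rev, Units.val_mul, transpose_mul]

theorem ct_ct (g : GL ι F) : ct (ct g) = g := by
  apply Units.ext
  rw [coe_ct, coe_ct_inv, transpose_transpose]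

theorem ct_inv (g : GL ι F) : ct g⁻¹ = (ct g)⁻¹ := by
  apply Units.ext
  rw [coe_ct, coe_ct_inv, inv_inv]

theorem It_mul_It : (It * It : MulAut (Matrix.ProjectiveSpecialLinearGroup ι F)) = 1 := by
  rw [It, ← map_mul, itr_mul_itr, map_one]

theorem It_mul_Cj (g : GL ι F) : It * Cj g = Cj (ct g) * It := by
  have h : (itr * cj g : MulAut (Matrix.SpecialLinearGroup ι F)) = cj (ct g) * itr := by
    apply MulEquiv.ext
    intro x
    apply Subtype.ext
    rw [MulAut.mul_apply, MulAut.mul_apply, coe_itr, ← map_inv, coe_cj, coe_cj, coe_itr, coe_ct,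
      coe_ct_inv, transpose_mul, transpose_mul, mul_assoc]
  rw [It, Cj, MonoidHom.comp_apply, MonoidHom.comp_apply, ← map_mul, ← map_mul, h]

theorem Cj_apply_pr (g : GL ι F) (x : Matrix.SpecialLinearGroup ι F) : Cj g (pr x) = pr (cj g x) := rfl

theorem It_apply_pr (x : Matrix.SpecialLinearGroup ι F) : It (pr x) = pr (itr x) := rfl

theorem Cj_eq_one_iff [Nontrivial ι] {g : GL ι F} :
    Cj g = 1 ↔ ∃ c : F, (g : Matrix ι ι F) = c • (1 : Matrix ι ι F) := by
  constructor
  · intro h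
    have h1 : lift (cj g * fld (RingEquiv.refl F)) = lift (fld (RingEquiv.refl F)) := by
      have h2 : (fld (RingEquiv.refl F) : MulAut (Matrix.SpecialLinearGroup ι F)) = 1 := map_one fld
      rw [h2, mul_one, map_one]
      exact h
    obtain ⟨⟨r, hr⟩, -⟩ := injective_aux h1
    exact ⟨r, by rw [← hr, scalar_apply, smul_one_eq_diagonal]⟩
  · rintro ⟨c, hc⟩
    have := cj_eq_one_of_scalar (C := g) (r := c) (by rw [hc, scalar_apply, smul_one_eq_diagonal])
    rw [Cj, MonoidHom.comp_apply, this, map_one]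

theorem ne_zero_of_coe_eq_smul [Nonempty ι] {g : GL ι F} {c : F} {B : Matrix ι ι F}
    (h : (g : Matrix ι ι F) = c • B) : c ≠ 0 := by
  rintro rfl
  rw [zero_smul] at h
  have h1 : (g : Matrix ι ι F) * ((g⁻¹ : GL ι F) : Matrix ι ι F) = 1 := by
    rw [← Units.val_mul, mul_inv_cancel, Units.val_one]
  rw [h, zero_mul] at h1
  have h2 := congrFun (congrFun h1 (Classical.arbitrary ι)) (Classical.arbitrary ι)
  rw [one_apply_eq, Matrix.zero_apply] at h2
  exact zero_ne_one h2

/-- `Cj g = Cj h` iff `h` is a multiple of `g`. -/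
theorem Cj_eq_iff [Nontrivial ι] {g h : GL ι F} :
    Cj g = Cj h ↔ ∃ c : F, c ≠ 0 ∧ (h : Matrix ι ι F) = c • (g : Matrix ι ι F) := by
  constructor
  · intro e
    have h1 : Cj (g⁻¹ * h) = 1 := by rw [map_mul, map_inv, e, inv_mul_cancel]
    obtain ⟨c, hc⟩ := Cj_eq_one_iff.1 h1
    refine ⟨c, ne_zero_of_coe_eq_smul hc, ?_⟩
    have h2 : (h : Matrix ι ι F) = (g : Matrix ι ι F) * ((g⁻¹ * h : GL ι F) : Matrix ι ι F) := by
      rw [← Units.val_mul, mul_inv_cancel_left]
    rw [h2, hc, Matrix.mul_smul, mul_one]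
  · rintro ⟨c, hc0, hc⟩
    have h1 : Cj (g⁻¹ * h) = 1 := by
      refine Cj_eq_one_iff.2 ⟨c, ?_⟩
      rw [Units.val_mul, hc, Matrix.mul_smul, ← Units.val_mul, inv_mul_cancel, Units.val_one]
    rw [map_mul, map_inv, inv_mul_eq_one] at h1
    exact h1

/-- The graph automorphism attached to the Gram matrix `B`. -/
noncomputable def gam (B : GL ι F) : MulAut (Matrix.ProjectiveSpecialLinearGroup ι F) := Cj B⁻¹ * It

theorem gam_mul_gam (B : GL ι F) : gam B * gam B = Cj (B⁻¹ * (ct B)⁻¹) := by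
  rw [gam, mul_assoc, ← mul_assoc It, It_mul_Cj, mul_assoc (Cj _), It_mul_It, mul_one, ← map_mul, ct_inv]

theorem gam_conj (P B : GL ι F) :
    Cj P * gam B * (Cj P)⁻¹ = gam (ct P * B * P⁻¹) := by
  rw [gam, gam, ← map_inv, mul_assoc, mul_assoc (Cj _) It, It_mul_Cj, ← mul_assoc, ← mul_assoc,
    ← map_mul, ← map_mul, ct_inv]
  congr 2
  group

theorem gam_eq_iff [Nontrivial ι] {B B' : GL ι F} :
    gam B = gam B' ↔ ∃ c : F, c ≠ 0 ∧ (B' : Matrix ι ι F) = c • (B : Matrix ι ι F) := by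
  rw [gam, gam, mul_left_inj, map_inv, map_inv, _root_.inv_inj, Cj_eq_iff]

theorem It_eq_gam : (It : MulAut (Matrix.ProjectiveSpecialLinearGroup ι F)) = gam 1 := by
  rw [gam, inv_one, map_one, one_mul]

theorem gam_ne_one (hι : 3 ≤ Fintype.card ι) (B : GL ι F) : gam B ≠ 1 := by
  intro h
  refine not_graph hι (C := B⁻¹) (σ := RingEquiv.refl F) (τ := RingEquiv.refl F) ?_
  have h2 : (fld (RingEquiv.refl F) : MulAut (Matrix.SpecialLinearGroup ι F)) = 1 := map_one fld
  rw [h2, mul_one, map_one, map_mul]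
  exact h

theorem nontrivial_of_card (hι : 3 ≤ Fintype.card ι) : Nontrivial ι :=
  Fintype.one_lt_card_iff_nontrivial.1 (by omega)

/-- `gam B` has order two iff `B` is symmetric or skew-symmetric. -/
theorem orderOf_gam (hι : 3 ≤ Fintype.card ι) (B : GL ι F) :
    orderOf (gam B) = 2 ↔ (B : Matrix ι ι F)ᵀ = B ∨ (B : Matrix ι ι F)ᵀ = -B := by
  have := nontrivial_of_card hι
  have h1 : orderOf (gam B) = 2 ↔ gam B * gam B = 1 := by
    constructor
    · intro h
      rw [← pow_two, ← h, pow_orderOf_eq_one]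
    · intro h
      exact orderOf_eq_prime (by rw [pow_two, h]) (gam_ne_one hι B)
  rw [h1, gam_mul_gam]
  have h2 : Cj (B⁻¹ * (ct B)⁻¹) = 1 ↔ Cj B = Cj (ct B)⁻¹ := by
    rw [map_mul, map_inv, inv_mul_eq_one]
  rw [h2, Cj_eq_iff]
  constructor
  · rintro ⟨c, hc0, hc⟩
    rw [coe_ct_inv] at hc
    have h3 : (B : Matrix ι ι F) = (c * c) • (B : Matrix ι ι F) := by
      calc (B : Matrix ι ι F) = ((B : Matrix ι ι F)ᵀ)ᵀ := (transpose_transpose _).symm
        _ = (c * c) • (B : Matrix ι ι F) := by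
          rw [hc, transpose_smul, hc, smul_smul]
    have h4 : Cj B = Cj B := rfl
    have h5 : c * c = 1 := by
      by_contra hne
      have h6 : (1 - c * c) • (B : Matrix ι ι F) = 0 := by
        rw [sub_smul, one_smul, ← h3, sub_self]
      have h7 : (B : Matrix ι ι F) = 0 := by
        rcases smul_eq_zero.1 h6 with h8 | h8
        · exact absurd (sub_eq_zero.1 h8).symm hne
        · exact h8
      exact ne_zero_of_coe_eq_smul (g := B) (c := 0) (B := 0) (by rw [h7, smul_zero]) rfl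
    rcases mul_self_eq_one_iff.1 h5 with rfl | rfl
    · exact Or.inl (by rw [hc, one_smul])
    · exact Or.inr (by rw [hc, neg_smul, one_smul])
  · rintro (h | h)
    · exact ⟨1, one_ne_zero, by rw [coe_ct_inv, h, one_smul]⟩
    · exact ⟨-1, neg_ne_zero.2 one_ne_zero, by rw [coe_ct_inv, h, neg_smul, one_smul]⟩

end basic

section predicates

variable {F : Type*} [Field F] {n : ℕ}

theorem isInnDiag_iff {β : MulAut (Matrix.ProjectiveSpecialLinearGroup (Fin n) F)} :
    IsInnerDiagonalAutPSL β ↔ ∃ g : GL (Fin n) F, β = Cj g := by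
  constructor
  · rintro ⟨g, hg⟩
    refine ⟨g, MulEquiv.ext fun x => ?_⟩
    obtain ⟨x, rfl⟩ := pr_surjective x
    exact hg x (cj g x) (coe_cj g x)
  · rintro ⟨g, rfl⟩
    refine ⟨g, fun s s' h => ?_⟩
    change Cj g (pr s) = pr s'
    rw [Cj_apply_pr]
    congr 1
    apply Subtype.ext
    rw [coe_cj, h]

theorem isInvTr_iff {β : MulAut (Matrix.ProjectiveSpecialLinearGroup (Fin n) F)} :
    IsInverseTransposeAutPSL β ↔ β = It := by
  constructor
  · intro h
    refine MulEquiv.ext fun x => ?_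
    obtain ⟨x, rfl⟩ := pr_surjective x
    exact h x (itr x) (coe_itr x)
  · rintro rfl s s' h
    change It (pr s) = pr s'
    rw [It_apply_pr]
    congr 1
    apply Subtype.ext
    rw [coe_itr, h]

theorem inndiag_eq : inndiagPSL n F = (Cj : GL (Fin n) F →* _).range := by
  rw [inndiagPSL, autSubgroupOf]
  have h : {β : MulAut (Matrix.ProjectiveSpecialLinearGroup (Fin n) F) | IsInnerDiagonalAutPSL β} =
      ((Cj : GL (Fin n) F →* _).range : Set _) := by
    ext β
    rw [Set.mem_ofPred_eq, isInnDiag_iff, SetLike.mem_coe, MonoidHom.mem_range]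
    exact ⟨fun ⟨g, hg⟩ => ⟨g, hg.symm⟩, fun ⟨g, hg⟩ => ⟨g, hg.symm⟩⟩
  rw [h, Subgroup.closure_eq]

theorem isGraph_iff (hn : 3 ≤ n) {β : MulAut (Matrix.ProjectiveSpecialLinearGroup (Fin n) F)} :
    IsGraphAutClassPSL β ↔ ∃ B : GL (Fin n) F, β = gam B := by
  constructor
  · rintro ⟨-, δ, γ, hδ, hγ, rfl⟩
    obtain ⟨g, rfl⟩ := isInnDiag_iff.1 hδ
    obtain rfl := isInvTr_iff.1 hγ
    exact ⟨g⁻¹, by rw [gam, inv_inv]⟩
  · rintro ⟨B, rfl⟩
    exact ⟨hn, Cj B⁻¹, It, isInnDiag_iff.2 ⟨_, rfl⟩, isInvTr_iff.2 rfl, rfl⟩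

theorem orderOf_gam' (hn : 3 ≤ n) (B : GL (Fin n) F) :
    orderOf (gam B) = 2 ↔ (B : Matrix (Fin n) (Fin n) F)ᵀ = B ∨ (B : Matrix (Fin n) (Fin n) F)ᵀ = -B :=
  orderOf_gam (by rw [Fintype.card_fin]; exact hn) B

/-- Conjugacy under `Inndiag`. -/
theorem isConj_iff (hn : 2 ≤ n) {B B' : GL (Fin n) F} :
    IsConjUnder (inndiagPSL n F) (gam B) (gam B') ↔
      ∃ (P : GL (Fin n) F) (c : F), c ≠ 0 ∧
        (B' : Matrix (Fin n) (Fin n) F) = c • ((P : Matrix (Fin n) (Fin n) F)ᵀ * B * P) := by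
  have : Nontrivial (Fin n) := Fin.nontrivial_iff_two_le.2 hn
  rw [inndiag_eq]
  constructor
  · rintro ⟨_, ⟨P, rfl⟩, h⟩
    rw [gam_conj] at h
    obtain ⟨c, hc0, hc⟩ := gam_eq_iff.1 h.symm
    refine ⟨P⁻¹, c, hc0, ?_⟩
    rw [hc, Units.val_mul, Units.val_mul, coe_ct]
  · rintro ⟨P, c, hc0, hc⟩
    refine ⟨Cj P⁻¹, ⟨P⁻¹, rfl⟩, ?_⟩
    rw [gam_conj]
    refine (gam_eq_iff.2 ⟨c, hc0, ?_⟩).symm
    rw [hc, Units.val_mul, Units.val_mul, coe_ct, inv_inv]

/-- `Cj P` commutes with `gam B` iff `P` is a similarity of the bilinear form with Gram matrix `B`. -/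
theorem mem_centralizer_iff (hn : 2 ≤ n) {B P : GL (Fin n) F} :
    Cj P ∈ Subgroup.centralizer {gam B} ↔
      ∃ c : F, c ≠ 0 ∧ (P : Matrix (Fin n) (Fin n) F)ᵀ * B * P = c • (B : Matrix (Fin n) (Fin n) F) := by
  have : Nontrivial (Fin n) := Fin.nontrivial_iff_two_le.2 hn
  rw [Subgroup.mem_centralizer_singleton_iff]
  have h1 : Cj P * gam B = gam B * Cj P ↔ Cj P⁻¹ * gam B * (Cj P⁻¹)⁻¹ = gam B := by
    rw [map_inv, inv_inv, mul_assoc, inv_mul_eq_iff_eq_mul]
    exact eq_comm
  rw [h1, gam_conj, eq_comm, gam_eq_iff]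
  simp only [Units.val_mul, coe_ct, inv_inv]

/-- The bilinear form with Gram matrix `B`. -/
def bil {ι : Type*} [Fintype ι] (B : Matrix ι ι F) (u v : ι → F) : F := u ⬝ᵥ (B *ᵥ v)

theorem bil_mulVec {ι κ : Type*} [Fintype ι] [Fintype κ] (B : Matrix ι ι F) (P : Matrix ι κ F) (u v : κ → F) :
    bil B (P *ᵥ u) (P *ᵥ v) = bil (Pᵀ * B * P) u v := by
  rw [bil, bil, ← mulVec_mulVec, ← mulVec_mulVec, dotProduct_mulVec u Pᵀ, vecMul_transpose]

theorem bil_single {ι : Type*} [Fintype ι] [DecidableEq ι] (B : Matrix ι ι F) (i j : ι) :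
    bil B (Pi.single i 1) (Pi.single j 1) = B i j := by
  rw [bil, mulVec_single_one, single_dotProduct, one_mul, col_apply]

theorem bil_ext {ι : Type*} [Fintype ι] [DecidableEq ι] {B C : Matrix ι ι F}
    (h : ∀ u v, bil B u v = bil C u v) : B = C := by
  ext i j
  rw [← bil_single B, h, bil_single]

theorem bil_smul {ι : Type*} [Fintype ι] (c : F) (B : Matrix ι ι F) (u v : ι → F) :
    bil (c • B) u v = c * bil B u v := by
  rw [bil, bil, smul_mulVec, dotProduct_smul, smul_eq_mul]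

theorem mem_similarity_iff {ι : Type} [Fintype ι] [DecidableEq ι] {B : Matrix ι ι F} {P : GL ι F} :
    P ∈ Geo.similarityGroup (bil B) ↔
      ∃ c : F, c ≠ 0 ∧ (P : Matrix ι ι F)ᵀ * B * P = c • B := by
  constructor
  · rintro ⟨c, hc⟩
    refine ⟨c, c.ne_zero, bil_ext fun u v => ?_⟩
    rw [← bil_mulVec, hc, bil_smul]
  · rintro ⟨c, hc0, hc⟩
    refine ⟨Units.mk0 c hc0, fun u v => ?_⟩
    rw [bil_mulVec, hc, bil_smul, Units.val_mk0]

theorem map_similarity_eq (hn : 2 ≤ n) (B : GL (Fin n) F) :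
    (Geo.similarityGroup (bil (B : Matrix (Fin n) (Fin n) F))).map Cj =
      inndiagPSL n F ⊓ Subgroup.centralizer {gam B} := by
  rw [inndiag_eq]
  apply le_antisymm
  · rintro _ ⟨P, hP, rfl⟩
    exact ⟨⟨P, rfl⟩, (mem_centralizer_iff hn).2 (mem_similarity_iff.1 hP)⟩
  · rintro _ ⟨⟨P, rfl⟩, hP⟩
    exact ⟨P, mem_similarity_iff.2 ((mem_centralizer_iff hn).1 hP), rfl⟩

theorem mem_scalars_iff' {ι : Type} [Fintype ι] [DecidableEq ι] [Nonempty ι] {g : GL ι F} :
    g ∈ Geo.scalars ι F ↔ ∃ c : F, (g : Matrix ι ι F) = c • (1 : Matrix ι ι F) := by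
  rw [Geo.mem_scalars_iff]
  exact ⟨fun ⟨c, hc⟩ => ⟨c, hc⟩, fun ⟨c, hc⟩ => ⟨Units.mk0 c (ne_zero_of_coe_eq_smul hc), hc⟩⟩

theorem ker_Cj (hn : 2 ≤ n) : (Cj : GL (Fin n) F →* _).ker = Geo.scalars (Fin n) F := by
  have : Nontrivial (Fin n) := Fin.nontrivial_iff_two_le.2 hn
  ext g
  rw [MonoidHom.mem_ker, Cj_eq_one_iff, mem_scalars_iff']

/-- Image of a subgroup of `GL` in the automorphism group. -/
noncomputable def mapEquiv (hn : 2 ≤ n) (H : Subgroup (GL (Fin n) F)) :
    projQuot H ≃* ↥(H.map (Cj : GL (Fin n) F →* _)) := by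
  have h1 : ((Cj : GL (Fin n) F →* _).comp H.subtype).ker = (Geo.scalars (Fin n) F).subgroupOf H := by
    rw [← MonoidHom.comap_ker, ker_Cj hn]
    rfl
  have h2 : ((Cj : GL (Fin n) F →* _).comp H.subtype).range = H.map Cj := by
    rw [MonoidHom.range_comp, Subgroup.range_subtype]
  exact (QuotientGroup.quotientMulEquivOfEq h1.symm).trans
    ((QuotientGroup.quotientKerEquivRange _).trans (MulEquiv.subgroupCongr h2))

/-- `C_Inndiag(gam B)` is the projective similarity group of `B`. -/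
theorem centEquiv (hn : 2 ≤ n) (B : GL (Fin n) F) :
    Nonempty (↥(inndiagPSL n F ⊓ Subgroup.centralizer {gam B}) ≃*
      projQuot (Geo.similarityGroup (bil (B : Matrix (Fin n) (Fin n) F)))) :=
  ⟨((mapEquiv hn _).trans (MulEquiv.subgroupCongr (map_similarity_eq hn B))).symm⟩

/-- `Inn(PSL)` is the image of the kernel of the determinant modulo `n`-th powers. -/
theorem ker_map_Cj (hn : 2 ≤ n) :
    (((QuotientGroup.mk' (powMonoidHom n : Fˣ →* Fˣ).range).comp
      (Matrix.GeneralLinearGroup.det : GL (Fin n) F →* Fˣ)).ker).map Cj =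
      Inn (Matrix.ProjectiveSpecialLinearGroup (Fin n) F) := by
  have : Nontrivial (Fin n) := Fin.nontrivial_iff_two_le.2 hn
  apply le_antisymm
  · rintro _ ⟨g, hg, rfl⟩
    rw [SetLike.mem_coe, MonoidHom.mem_ker, MonoidHom.comp_apply, QuotientGroup.mk'_apply,
      QuotientGroup.eq_one_iff] at hg
    obtain ⟨c, hc⟩ := hg
    rw [powMonoidHom_apply] at hc
    have h1 : (((c : F)⁻¹ • (g : Matrix (Fin n) (Fin n) F))).det = 1 := by
      rw [det_smul, Fintype.card_fin]
      have h2 : (g : Matrix (Fin n) (Fin n) F).det = (c : F) ^ n := by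
        have := congrArg Units.val hc
        rw [Units.val_pow_eq_pow_val] at this
        rw [this]
        rfl
      rw [h2, ← mul_pow, inv_mul_cancel₀ c.ne_zero, one_pow]
    let s : Matrix.SpecialLinearGroup (Fin n) F := ⟨_, h1⟩
    refine ⟨pr s, ?_⟩
    have h2 : Cj g = Cj (s : GL (Fin n) F) := by
      rw [Cj_eq_iff]
      exact ⟨(c : F)⁻¹, inv_ne_zero c.ne_zero, rfl⟩
    rw [h2]
    refine MulEquiv.ext fun x => ?_
    obtain ⟨x, rfl⟩ := pr_surjective x
    rw [MulAut.conj_apply, ← map_mul, ← map_inv, ← map_mul, Cj_apply_pr]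
    congr 1
  · rintro _ ⟨x, rfl⟩
    obtain ⟨s, rfl⟩ := pr_surjective x
    refine ⟨(s : GL (Fin n) F), ?_, ?_⟩
    · rw [SetLike.mem_coe, MonoidHom.mem_ker, MonoidHom.comp_apply]
      have h1 : Matrix.GeneralLinearGroup.det (s : GL (Fin n) F) = 1 := by
        apply Units.ext
        exact s.2
      rw [h1, map_one]
    · refine MulEquiv.ext fun x => ?_
      obtain ⟨x, rfl⟩ := pr_surjective x
      rw [MulAut.conj_apply, ← map_mul, ← map_inv, ← map_mul, Cj_apply_pr]
      congr 1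

/-- **The number of `Inn`-classes** in the `Inndiag`-class of `gam B`: the index of the determinants of the
similarities of `B`. -/
theorem split_eq (hn : 2 ≤ n) (B : GL (Fin n) F) :
    splitClassCount (inndiagPSL n F) (Inn (Matrix.ProjectiveSpecialLinearGroup (Fin n) F)) (gam B) =
      ((Geo.similarityGroup (bil (B : Matrix (Fin n) (Fin n) F))).map
        Matrix.GeneralLinearGroup.det).index := by
  have : Nontrivial (Fin n) := Fin.nontrivial_iff_two_le.2 hn
  have hdet : Function.Surjective (Matrix.GeneralLinearGroup.det : GL (Fin n) F →* Fˣ) := by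
    intro c
    refine ⟨Matrix.GeneralLinearGroup.mk' (diagonal (Function.update 1 ⟨0, by omega⟩ (c : F)))
      (invertibleOfNonzero ?_), ?_⟩
    · rw [det_diagonal, Finset.prod_update_of_mem (Finset.mem_univ _)]
      simp
    · apply Units.ext
      change (diagonal (Function.update 1 ⟨0, by omega⟩ (c : F)) : Matrix (Fin n) (Fin n) F).det = _
      rw [det_diagonal, Finset.prod_update_of_mem (Finset.mem_univ _)]
      simp
  rw [H198.SplitCount.splitClassCount_eq_index Cj
    ((QuotientGroup.mk' (powMonoidHom n : Fˣ →* Fˣ).range).comp Matrix.GeneralLinearGroup.det)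
    inndiag_eq.symm ((QuotientGroup.mk'_surjective _).comp hdet) (ker_map_Cj hn)]
  · have h1 : (Subgroup.centralizer {gam B}).comap Cj =
        Geo.similarityGroup (bil (B : Matrix (Fin n) (Fin n) F)) := by
      ext P
      rw [Subgroup.mem_comap, mem_centralizer_iff hn, mem_similarity_iff]
    rw [h1, ← Subgroup.map_map]
    have h2 : (powMonoidHom n : Fˣ →* Fˣ).range ≤
        (Geo.similarityGroup (bil (B : Matrix (Fin n) (Fin n) F))).map Matrix.GeneralLinearGroup.det := by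
      rintro _ ⟨c, rfl⟩
      refine ⟨Matrix.GeneralLinearGroup.scalar (Fin n) c, mem_similarity_iff.2 ⟨(c : F) * c,
        mul_ne_zero c.ne_zero c.ne_zero, ?_⟩, ?_⟩
      · have h3 : ((Matrix.GeneralLinearGroup.scalar (Fin n) c : GL (Fin n) F) : Matrix (Fin n) (Fin n) F) =
            (c : F) • 1 := by
          rw [smul_one_eq_diagonal]; rfl
        rw [h3, transpose_smul, transpose_one, Matrix.smul_mul, Matrix.one_mul, Matrix.mul_smul, Matrix.mul_one,
          smul_smul]
      · apply Units.ext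
        change (Matrix.scalar (Fin n) (c : F)).det = _
        rw [scalar_apply, det_diagonal, Finset.prod_const, Finset.card_univ, Fintype.card_fin]
        rfl
    generalize (Geo.similarityGroup (bil (B : Matrix (Fin n) (Fin n) F))).map
      Matrix.GeneralLinearGroup.det = K at h2 ⊢
    rw [← Subgroup.index_comap_of_surjective (K.map _)
      (QuotientGroup.mk'_surjective (powMonoidHom n : Fˣ →* Fˣ).range), Subgroup.comap_map_eq,
      QuotientGroup.ker_mk', sup_eq_left.2 h2]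
  · intro g hg
    obtain ⟨c, hc⟩ := Cj_eq_one_iff.1 hg
    have hc0 := ne_zero_of_coe_eq_smul hc
    rw [MonoidHom.mem_ker, MonoidHom.comp_apply, QuotientGroup.mk'_apply, QuotientGroup.eq_one_iff]
    refine ⟨Units.mk0 c hc0, ?_⟩
    apply Units.ext
    rw [powMonoidHom_apply, Units.val_pow_eq_pow_val, Units.val_mk0]
    change _ = (g : Matrix (Fin n) (Fin n) F).det
    rw [hc, det_smul, det_one, mul_one, Fintype.card_fin]

end predicates

section transfer

variable {F : Type*} [Field F] {ι κ : Type} [Fintype ι] [DecidableEq ι] [Fintype κ] [DecidableEq κ]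

theorem rc_aux (M : Matrix κ ι F) (N : Matrix ι κ F) (h2 : N * M = 1) (a b : Matrix ι ι F) :
    M * a * N * (M * b * N) = M * (a * b) * N := by
  calc M * a * N * (M * b * N) = M * a * (N * M) * b * N := by simp only [Matrix.mul_assoc]
    _ = _ := by rw [h2, Matrix.mul_one, Matrix.mul_assoc M]

theorem rc_aux' (M : Matrix κ ι F) (N : Matrix ι κ F) (h2 : N * M = 1) (a : Matrix ι ι F) :
    N * (M * a * N) * M = a := by
  calc N * (M * a * N) * M = (N * M) * a * (N * M) := by simp only [Matrix.mul_assoc]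
    _ = _ := by rw [h2, Matrix.mul_one, Matrix.one_mul]

/-- Conjugation by a rectangular invertible matrix. -/
def rc (M : Matrix κ ι F) (N : Matrix ι κ F) (h1 : M * N = 1) (h2 : N * M = 1) : GL ι F ≃* GL κ F where
  toFun g :=
    { val := M * (g : Matrix ι ι F) * N
      inv := M * ((g⁻¹ : GL ι F) : Matrix ι ι F) * N
      val_inv := by
        rw [rc_aux M N h2, ← Units.val_mul, mul_inv_cancel, Units.val_one, Matrix.mul_one, h1]
      inv_val := by
        rw [rc_aux M N h2, ← Units.val_mul, inv_mul_cancel, Units.val_one, Matrix.mul_one, h1] }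
  invFun g :=
    { val := N * (g : Matrix κ κ F) * M
      inv := N * ((g⁻¹ : GL κ F) : Matrix κ κ F) * M
      val_inv := by
        rw [rc_aux N M h1, ← Units.val_mul, mul_inv_cancel, Units.val_one, Matrix.mul_one, h2]
      inv_val := by
        rw [rc_aux N M h1, ← Units.val_mul, inv_mul_cancel, Units.val_one, Matrix.mul_one, h2] }
  left_inv g := by
    apply Units.ext
    change N * (M * (g : Matrix ι ι F) * N) * M = g
    rw [rc_aux' M N h2]
  right_inv g := by
    apply Units.ext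
    change M * (N * (g : Matrix κ κ F) * M) * N = g
    rw [rc_aux' N M h1]
  map_mul' g h := by
    apply Units.ext
    change M * ((g * h : GL ι F) : Matrix ι ι F) * N =
      M * (g : Matrix ι ι F) * N * (M * (h : Matrix ι ι F) * N)
    rw [rc_aux M N h2, Units.val_mul]

theorem coe_rc (M : Matrix κ ι F) (N : Matrix ι κ F) (h1 : M * N = 1) (h2 : N * M = 1) (g : GL ι F) :
    (rc M N h1 h2 g : Matrix κ κ F) = M * (g : Matrix ι ι F) * N := rfl

theorem rc_mulVec (M : Matrix κ ι F) (N : Matrix ι κ F) (h1 : M * N = 1) (h2 : N * M = 1) (g : GL ι F)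
    (v : ι → F) : (rc M N h1 h2 g : Matrix κ κ F) *ᵥ (M *ᵥ v) = M *ᵥ ((g : Matrix ι ι F) *ᵥ v) := by
  rw [coe_rc, mulVec_mulVec, Matrix.mul_assoc, h2, Matrix.mul_one, mulVec_mulVec]

/-- `projQuot H ≃* projQuot K` if `K` is the image of `H` under conjugation by an invertible matrix. -/
theorem projQuot_map (M : Matrix κ ι F) (N : Matrix ι κ F) (h1 : M * N = 1) (h2 : N * M = 1)
    (H : Subgroup (GL ι F)) (K : Subgroup (GL κ F)) (hHK : ∀ g, rc M N h1 h2 g ∈ K ↔ g ∈ H) :
    Nonempty (projQuot H ≃* projQuot K) := by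
  have hK : H.map ((rc M N h1 h2 : GL ι F ≃* GL κ F) : GL ι F →* GL κ F) = K := by
    ext g
    constructor
    · rintro ⟨h, hh, rfl⟩
      exact (hHK h).2 hh
    · intro hg
      refine ⟨(rc M N h1 h2).symm g, (hHK _).1 ?_, ?_⟩
      · rw [MulEquiv.apply_symm_apply]; exact hg
      · exact (rc M N h1 h2).apply_symm_apply g
  subst hK
  let e : ↥H ≃* ↥(H.map ((rc M N h1 h2 : GL ι F ≃* GL κ F) : GL ι F →* GL κ F)) :=
    (rc M N h1 h2).subgroupMap H
  refine ⟨QuotientGroup.congr _ _ e ?_⟩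
  have hs : ∀ h : GL ι F, rc M N h1 h2 h ∈ Geo.scalars κ F ↔ h ∈ Geo.scalars ι F := by
    intro h
    rw [Geo.mem_scalars_iff, Geo.mem_scalars_iff]
    constructor
    · rintro ⟨c, hc⟩
      refine ⟨c, ?_⟩
      rw [← rc_aux' M N h2 (h : Matrix ι ι F), ← coe_rc M N h1 h2, hc, Matrix.mul_smul,
        Matrix.mul_one, Matrix.smul_mul, h2]
    · rintro ⟨c, hc⟩
      refine ⟨c, ?_⟩
      rw [coe_rc, hc, Matrix.mul_smul, Matrix.mul_one, Matrix.smul_mul, h1]
  ext x
  constructor
  · rintro ⟨y, hy, rfl⟩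
    exact (hs y).2 hy
  · intro hx
    obtain ⟨y, rfl⟩ := e.surjective x
    exact ⟨y, (hs y).1 hx, rfl⟩

/-- Similarity groups of two-variable forms that correspond under a linear isomorphism. -/
theorem similarity_transfer (T : (ι → F) ≃ₗ[F] (κ → F)) {f : (κ → F) → (κ → F) → F}
    {f' : (ι → F) → (ι → F) → F} {d : F} (hd : d ≠ 0) (hf : ∀ u v, f (T u) (T v) = d * f' u v) :
    Nonempty (projQuot (Geo.similarityGroup f') ≃* projQuot (Geo.similarityGroup f)) := by
  have h1 : LinearMap.toMatrix' (T : (ι → F) →ₗ[F] (κ → F)) *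
      LinearMap.toMatrix' (T.symm : (κ → F) →ₗ[F] (ι → F)) = 1 := by
    rw [← LinearMap.toMatrix'_comp]
    simp
  have h2 : LinearMap.toMatrix' (T.symm : (κ → F) →ₗ[F] (ι → F)) *
      LinearMap.toMatrix' (T : (ι → F) →ₗ[F] (κ → F)) = 1 := by
    rw [← LinearMap.toMatrix'_comp]
    simp
  refine projQuot_map _ _ h1 h2 _ _ fun g => ?_
  have h3 : ∀ v, (rc _ _ h1 h2 g : Matrix κ κ F) *ᵥ (T v) = T ((g : Matrix ι ι F) *ᵥ v) := by
    intro v
    have h4 := rc_mulVec _ _ h1 h2 g v
    simpa only [LinearMap.toMatrix'_mulVec, LinearEquiv.coe_coe] using h4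
  constructor
  · rintro ⟨c, hc⟩
    refine ⟨c, fun u v => ?_⟩
    have h5 := hc (T u) (T v)
    rw [h3, h3, hf, hf] at h5
    apply mul_left_cancel₀ hd
    rw [h5]; ring
  · rintro ⟨c, hc⟩
    refine ⟨c, fun u v => ?_⟩
    obtain ⟨u, rfl⟩ := T.surjective u
    obtain ⟨v, rfl⟩ := T.surjective v
    rw [h3, h3, hf, hf, hc]; ring

/-- Similarity groups of quadratic forms that correspond under a linear isomorphism. -/
theorem quadSimilarity_transfer (T : (ι → F) ≃ₗ[F] (κ → F)) {f : (κ → F) → F}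
    {f' : (ι → F) → F} {d : F} (hd : d ≠ 0) (hf : ∀ u, f (T u) = d * f' u) :
    Nonempty (projQuot (Geo.quadSimilarityGroup (F := F) f') ≃*
      projQuot (Geo.quadSimilarityGroup (F := F) f)) := by
  have h1 : LinearMap.toMatrix' (T : (ι → F) →ₗ[F] (κ → F)) *
      LinearMap.toMatrix' (T.symm : (κ → F) →ₗ[F] (ι → F)) = 1 := by
    rw [← LinearMap.toMatrix'_comp]
    simp
  have h2 : LinearMap.toMatrix' (T.symm : (κ → F) →ₗ[F] (ι → F)) *
      LinearMap.toMatrix' (T : (ι → F) →ₗ[F] (κ → F)) = 1 := by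
    rw [← LinearMap.toMatrix'_comp]
    simp
  refine projQuot_map _ _ h1 h2 _ _ fun g => ?_
  have h3 : ∀ v, (rc _ _ h1 h2 g : Matrix κ κ F) *ᵥ (T v) = T ((g : Matrix ι ι F) *ᵥ v) := by
    intro v
    have h4 := rc_mulVec _ _ h1 h2 g v
    simpa only [LinearMap.toMatrix'_mulVec, LinearEquiv.coe_coe] using h4
  constructor
  · rintro ⟨c, hc⟩
    refine ⟨c, fun u => ?_⟩
    have h5 := hc (T u)
    rw [h3, hf, hf] at h5
    apply mul_left_cancel₀ hd
    rw [h5]; ring
  · rintro ⟨c, hc⟩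
    refine ⟨c, fun u => ?_⟩
    obtain ⟨u, rfl⟩ := T.surjective u
    rw [h3, hf, hf, hc]; ring

end transfer

end Cfsg.Agent.H999.PslGraph
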