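import Mathlib
import Cfsg.Prelude.Def_LieTypeDatum
import Cfsg.Agent.H999.PslGraph
import Cfsg.Agent.ClassicalGeometry.SympIso
import Cfsg.Agent.ClassicalGeometry.Discriminant

/-!
# Symmetric and alternating invertible matrices over a finite field of odd order (helper999)

* `exists_congr_of_disc` : two invertible symmetric matrices whose determinants differ by a square are congruent;
* `exists_symp` : an invertible skew-symmetric matrix is the Gram matrix of `sympForm`;
* `gramPlus`, `gramMinus` : the Gram matrices of `quadFormPlus`, `quadFormMinus`, their determinants;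
* `sim_eq_quad` : the similarity group of a quadratic form is that of its polar form.
-/

set_option autoImplicit false
set_option linter.unusedSectionVars false

namespace Cfsg.Agent.H999.PslGraphOdd

open Matrix
open Cfsg.Agent.H999.PslGraph

section forms

variable {F : Type*} [Field F]

/-- The bilinear form of a matrix, as a bilinear map. -/
theorem bil_eq_toBilin {ι : Type*} [Fintype ι] [DecidableEq ι] (B : Matrix ι ι F) (u v : ι → F) :
    bil B u v = Matrix.toBilin' B u v := by
  rw [bil, Matrix.toBilin'_apply']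

theorem bil_add_left {ι : Type*} [Fintype ι] (B : Matrix ι ι F) (u v w : ι → F) :
    bil B (u + v) w = bil B u w + bil B v w := add_dotProduct _ _ _

theorem bil_add_right {ι : Type*} [Fintype ι] (B : Matrix ι ι F) (u v w : ι → F) :
    bil B u (v + w) = bil B u v + bil B u w := by
  rw [bil, bil, bil, mulVec_add, dotProduct_add]

theorem bil_transpose {ι : Type*} [Fintype ι] (B : Matrix ι ι F) (u v : ι → F) :
    bil Bᵀ u v = bil B v u := by
  rw [bil, bil, mulVec_transpose, dotProduct_comm, ← dotProduct_mulVec]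

theorem bil_polar {ι : Type*} [Fintype ι] {B : Matrix ι ι F} (hB : Bᵀ = B) (u v : ι → F) :
    bil B (u + v) (u + v) = bil B u u + bil B v v + 2 * bil B u v := by
  have h1 : bil B v u = bil B u v := by rw [← bil_transpose, hB]
  rw [bil_add_left, bil_add_right, bil_add_right, h1]; ring

/-- Similarities of a quadratic form are the similarities of its polar form (characteristic not two). -/
theorem sim_eq_quad (h2 : (2 : F) ≠ 0) {ι : Type} [Fintype ι] [DecidableEq ι] {B : Matrix ι ι F}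
    (hB : Bᵀ = B) {Q : (ι → F) → F} (hQ : ∀ v, bil B v v = 2 * Q v) :
    Geo.similarityGroup (bil B) = Geo.quadSimilarityGroup (F := F) Q := by
  ext g
  constructor
  · rintro ⟨c, hc⟩
    refine ⟨c, fun v => ?_⟩
    have h := hc v v
    rw [hQ, hQ] at h
    apply mul_left_cancel₀ h2
    rw [h]; ring
  · rintro ⟨c, hc⟩
    refine ⟨c, fun u v => ?_⟩
    have h1 := bil_polar hB ((g : Matrix ι ι F) *ᵥ u) ((g : Matrix ι ι F) *ᵥ v)
    rw [← mulVec_add, hQ, hQ, hQ, hc, hc, hc] at h1
    have h3 := bil_polar hB u v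
    rw [hQ, hQ, hQ] at h3
    apply mul_left_cancel₀ h2
    linear_combination -h1 + (c : F) * h3

/-- The Gram matrix of `quadFormPlus m`. -/
def gramPlus (m : ℕ) (F : Type*) [Field F] : Matrix (Fin m ⊕ Fin m) (Fin m ⊕ Fin m) F :=
  fromBlocks 0 1 1 0

/-- The Gram matrix of `quadFormMinus m a b`. -/
def gramMinus (m : ℕ) (F : Type*) [Field F] (a b : F) :
    Matrix ((Fin m ⊕ Fin m) ⊕ Fin 2) ((Fin m ⊕ Fin m) ⊕ Fin 2) F :=
  fromBlocks (gramPlus m F) 0 0 !![2, a; a, 2 * b]

theorem gramPlus_transpose (m : ℕ) : (gramPlus m F)ᵀ = gramPlus m F := by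
  rw [gramPlus, fromBlocks_transpose, transpose_zero, transpose_one]

theorem gramMinus_transpose (m : ℕ) (a b : F) : (gramMinus m F a b)ᵀ = gramMinus m F a b := by
  rw [gramMinus, fromBlocks_transpose, transpose_zero, transpose_zero, gramPlus_transpose]
  congr 1
  ext i j
  fin_cases i <;> fin_cases j <;> rfl

theorem det_gramPlus (m : ℕ) : (gramPlus m F).det = (-1) ^ m := by
  rw [gramPlus, Cfsg.Agent.ClassicalGeometry.Discriminant.det_fromBlocks_zero_left, det_one, mul_one, mul_one]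

theorem det_gramMinus (m : ℕ) (a b : F) : (gramMinus m F a b).det = (-1) ^ m * (4 * b - a ^ 2) := by
  rw [gramMinus, det_fromBlocks_zero₁₂, det_gramPlus, det_fin_two_of]
  ring

theorem bil_gramPlus (m : ℕ) (v : Fin m ⊕ Fin m → F) :
    bil (gramPlus m F) v v = 2 * quadFormPlus m F v := by
  rw [bil, quadFormPlus, gramPlus, dotProduct, Fintype.sum_sum_type, Finset.mul_sum, ← Finset.sum_add_distrib]
  refine Finset.sum_congr rfl fun i _ => ?_
  rw [fromBlocks_mulVec]
  simp only [Sum.elim_inl, Sum.elim_inr, zero_mulVec, one_mulVec, zero_add, add_zero, Function.comp_apply]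
  ring

theorem bil_gramMinus (m : ℕ) (a b : F) (v : (Fin m ⊕ Fin m) ⊕ Fin 2 → F) :
    bil (gramMinus m F a b) v v = 2 * quadFormMinus m F a b v := by
  have h1 := bil_gramPlus m (v ∘ Sum.inl)
  rw [bil, dotProduct] at h1
  rw [bil, quadFormMinus, gramMinus, dotProduct, Fintype.sum_sum_type, fromBlocks_mulVec]
  simp only [Sum.elim_inl, Sum.elim_inr, zero_mulVec, zero_add, add_zero]
  rw [mul_add]
  congr 1
  rw [Fin.sum_univ_two]
  simp only [mulVec, dotProduct, Fin.sum_univ_two, Function.comp_apply, of_apply, cons_val', cons_val_zero,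
    cons_val_one, cons_val_fin_one]
  ring

/-- Anisotropic binary forms have nonsquare discriminant. -/
theorem not_isSquare_of_aniso (h2 : (2 : F) ≠ 0) {a b : F}
    (hab : ∀ z₁ z₂ : F, z₁ ^ 2 + a * z₁ * z₂ + b * z₂ ^ 2 = 0 → z₁ = 0 ∧ z₂ = 0) :
    ¬ IsSquare (a ^ 2 - 4 * b) := by
  rintro ⟨r, hr⟩
  have h := hab ((-a + r) / 2) 1 (by field_simp; linear_combination -hr)
  exact one_ne_zero h.2

theorem aniso_of_not_isSquare {ν : F} (hν : ¬ IsSquare ν) :
    ∀ z₁ z₂ : F, z₁ ^ 2 + 0 * z₁ * z₂ + (-ν) * z₂ ^ 2 = 0 → z₁ = 0 ∧ z₂ = 0 := by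
  intro z₁ z₂ h
  by_cases h2 : z₂ = 0
  · subst h2
    refine ⟨?_, rfl⟩
    have : z₁ ^ 2 = 0 := by linear_combination h
    exact pow_eq_zero_iff (two_ne_zero) |>.1 this
  · exact absurd ⟨z₁ / z₂, by field_simp; linear_combination -h⟩ hν

end forms

section reindex

variable {F : Type*} [Field F] {n : ℕ} {κ : Type} [Fintype κ] [DecidableEq κ]

/-- Reindexed invertible matrix. -/
noncomputable def rx (e : Fin n ≃ κ) (C : Matrix κ κ F) (hC : C.det ≠ 0) : GL (Fin n) F :=
  Matrix.GeneralLinearGroup.mkOfDetNeZero (C.submatrix e e) (by rw [det_submatrix_equiv_self]; exact hC)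

theorem coe_rx (e : Fin n ≃ κ) (C : Matrix κ κ F) (hC : C.det ≠ 0) :
    (rx e C hC : Matrix (Fin n) (Fin n) F) = C.submatrix e e := rfl

theorem det_rx (e : Fin n ≃ κ) (C : Matrix κ κ F) (hC : C.det ≠ 0) :
    (rx e C hC : Matrix (Fin n) (Fin n) F).det = C.det := by
  rw [coe_rx, det_submatrix_equiv_self]

theorem rx_transpose (e : Fin n ≃ κ) (C : Matrix κ κ F) (hC : C.det ≠ 0) :
    (rx e C hC : Matrix (Fin n) (Fin n) F)ᵀ = Cᵀ.submatrix e e := by
  rw [coe_rx, transpose_submatrix]

theorem bil_rx (e : Fin n ≃ κ) (C : Matrix κ κ F) (hC : C.det ≠ 0) (u v : Fin n → F) :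
    bil C (LinearEquiv.funCongrLeft F F e.symm u) (LinearEquiv.funCongrLeft F F e.symm v) =
      1 * bil (rx e C hC : Matrix (Fin n) (Fin n) F) u v := by
  rw [one_mul, bil, bil, coe_rx, dotProduct, dotProduct, ← Equiv.sum_comp e]
  refine Finset.sum_congr rfl fun i _ => ?_
  rw [mulVec, mulVec, dotProduct, dotProduct, ← Equiv.sum_comp e]
  simp [LinearEquiv.funCongrLeft_apply]

/-- `C_Inndiag(gam (rx e C))` is the projective similarity group of `C`. -/
theorem cent_rx (hn : 2 ≤ n) (e : Fin n ≃ κ) (C : Matrix κ κ F) (hC : C.det ≠ 0) :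
    Nonempty (↥(inndiagPSL n F ⊓ Subgroup.centralizer {gam (rx e C hC)}) ≃*
      projQuot (Geo.similarityGroup (bil C))) := by
  obtain ⟨e1⟩ := centEquiv hn (rx e C hC)
  obtain ⟨e2⟩ := similarity_transfer (LinearEquiv.funCongrLeft F F e.symm) one_ne_zero (bil_rx e C hC)
  exact ⟨e1.trans e2⟩

end reindex

section classification

variable {F : Type*} [Field F] {n : ℕ}

theorem toBilin'_isSymm {B : Matrix (Fin n) (Fin n) F} (hB : Bᵀ = B) :
    (Matrix.toBilin' B).IsSymm := by
  constructor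
  intro u v
  rw [← bil_eq_toBilin, ← bil_eq_toBilin, ← bil_transpose, hB]

/-- Diagonalisation with prescribed values. -/
theorem exists_diag [Finite F] (h2 : (2 : F) ≠ 0) (B : GL (Fin n) F)
    (hB : (B : Matrix (Fin n) (Fin n) F)ᵀ = B) (c : Fin n → F) (hc : ∀ i, c i ≠ 0) (s : F)
    (hdet : (B : Matrix (Fin n) (Fin n) F).det = s ^ 2 * ∏ i, c i) :
    ∃ P : GL (Fin n) F, (P : Matrix (Fin n) (Fin n) F)ᵀ * B * P = diagonal c := by
  have hnd : (Matrix.toBilin' (B : Matrix (Fin n) (Fin n) F)).Nondegenerate := by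
    rw [Matrix.nondegenerate_toBilin'_iff, Matrix.nondegenerate_iff_det_ne_zero]
    have h := congrArg Matrix.det (show (B : Matrix (Fin n) (Fin n) F) *
      ((B⁻¹ : GL (Fin n) F) : Matrix (Fin n) (Fin n) F) = 1 by
        rw [← Units.val_mul, mul_inv_cancel, Units.val_one])
    rw [det_mul, det_one] at h
    exact left_ne_zero_of_mul_eq_one h
  obtain ⟨v, hv⟩ := Cfsg.Agent.ClassicalGeometry.Discriminant.exists_basis_diag h2
    (Matrix.toBilin' (B : Matrix (Fin n) (Fin n) F)) (toBilin'_isSymm hB) hnd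
    (Pi.basisFun F (Fin n)) c (by simp) hc s
    (by
      rw [← hdet]
      congr 1
      ext i j
      rw [LinearMap.BilinForm.toMatrix_apply, Pi.basisFun_apply, Pi.basisFun_apply, Matrix.toBilin'_single])
  let P : Matrix (Fin n) (Fin n) F := (Pi.basisFun F (Fin n)).toMatrix v
  have hP : IsUnit P.det := by
    have h := congrArg Matrix.det (Module.Basis.toMatrix_mul_toMatrix_flip (Pi.basisFun F (Fin n)) v)
    rw [Matrix.det_mul, Matrix.det_one] at h
    exact IsUnit.of_mul_eq_one _ h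
  refine ⟨Matrix.GeneralLinearGroup.mkOfDetNeZero P hP.ne_zero, ?_⟩
  change Pᵀ * (B : Matrix (Fin n) (Fin n) F) * P = _
  have hcol : ∀ i, P *ᵥ Pi.single i 1 = v i := by
    intro i
    rw [mulVec_single_one]
    ext j
    rw [col_apply]
    simp [P, Module.Basis.toMatrix_apply]
  refine Matrix.ext fun i j => ?_
  rw [← bil_single (Pᵀ * (B : Matrix (Fin n) (Fin n) F) * P), ← bil_mulVec, hcol, hcol, bil_eq_toBilin, hv,
    diagonal_apply]

/-- **Congruence of symmetric matrices** over a finite field of odd order: the discriminant decides. -/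
theorem exists_congr_of_disc [Finite F] (h2 : (2 : F) ≠ 0) (hn : 1 ≤ n) (B B' : GL (Fin n) F)
    (hB : (B : Matrix (Fin n) (Fin n) F)ᵀ = B) (hB' : (B' : Matrix (Fin n) (Fin n) F)ᵀ = B')
    (h : IsSquare ((B : Matrix (Fin n) (Fin n) F).det * (B' : Matrix (Fin n) (Fin n) F).det)) :
    ∃ P : GL (Fin n) F, (B' : Matrix (Fin n) (Fin n) F) = (P : Matrix (Fin n) (Fin n) F)ᵀ * B * P := by
  have hdet : ∀ C : GL (Fin n) F, (C : Matrix (Fin n) (Fin n) F).det ≠ 0 := by
    intro C
    have h := congrArg Matrix.det (show (C : Matrix (Fin n) (Fin n) F) *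
      ((C⁻¹ : GL (Fin n) F) : Matrix (Fin n) (Fin n) F) = 1 by
        rw [← Units.val_mul, mul_inv_cancel, Units.val_one])
    rw [det_mul, det_one] at h
    exact left_ne_zero_of_mul_eq_one h
  let d := (B : Matrix (Fin n) (Fin n) F).det
  let c : Fin n → F := Function.update 1 ⟨0, by omega⟩ d
  have hc : ∀ i, c i ≠ 0 := by
    intro i
    by_cases hi : i = ⟨0, by omega⟩
    · subst hi
      simp only [c, Function.update_self]
      exact hdet B
    · simp only [c, Function.update_of_ne hi, Pi.one_apply]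
      exact one_ne_zero
  have hprod : ∏ i, c i = d := by
    simp only [c]
    rw [Finset.prod_update_of_mem (Finset.mem_univ _)]
    simp
  obtain ⟨P, hP⟩ := exists_diag h2 B hB c hc 1 (by rw [hprod]; ring)
  obtain ⟨s, hs⟩ := h
  obtain ⟨P', hP'⟩ := exists_diag h2 B' hB' c hc (s / d) (by
    have hd : d ≠ 0 := hdet B
    rw [hprod]
    field_simp
    linear_combination hs)
  refine ⟨P * P'⁻¹, ?_⟩
  have h3 : (P' : Matrix (Fin n) (Fin n) F) * ((P'⁻¹ : GL (Fin n) F) : Matrix (Fin n) (Fin n) F) = 1 := by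
    rw [← Units.val_mul, mul_inv_cancel, Units.val_one]
  calc (B' : Matrix (Fin n) (Fin n) F)
      = ((P' : Matrix (Fin n) (Fin n) F) * ((P'⁻¹ : GL (Fin n) F) : Matrix (Fin n) (Fin n) F))ᵀ * B' *
        ((P' : Matrix (Fin n) (Fin n) F) * ((P'⁻¹ : GL (Fin n) F) : Matrix (Fin n) (Fin n) F)) := by
        rw [h3, transpose_one, Matrix.one_mul, Matrix.mul_one]
    _ = ((P'⁻¹ : GL (Fin n) F) : Matrix (Fin n) (Fin n) F)ᵀ * ((P' : Matrix (Fin n) (Fin n) F)ᵀ * B' * P') *
        ((P'⁻¹ : GL (Fin n) F) : Matrix (Fin n) (Fin n) F) := by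
        rw [transpose_mul]; simp only [Matrix.mul_assoc]
    _ = ((P'⁻¹ : GL (Fin n) F) : Matrix (Fin n) (Fin n) F)ᵀ * ((P : Matrix (Fin n) (Fin n) F)ᵀ * B * P) *
        ((P'⁻¹ : GL (Fin n) F) : Matrix (Fin n) (Fin n) F) := by rw [hP', hP]
    _ = _ := by
        rw [Units.val_mul, transpose_mul]; simp only [Matrix.mul_assoc]

theorem eq_zero_of_dotProduct {u : Fin n → F} (h : ∀ w, u ⬝ᵥ w = 0) : u = 0 := by
  ext i
  have := h (Pi.single i 1)
  rwa [dotProduct_single, mul_one] at this

/-- An invertible alternating matrix of size `2m` is the Gram matrix of the standard alternating form. -/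
theorem exists_symp {m : ℕ} (hnm : n = 2 * m) (B : GL (Fin n) F)
    (hB : ∀ v, bil (B : Matrix (Fin n) (Fin n) F) v v = 0) :
    ∃ e : (Fin m ⊕ Fin m → F) ≃ₗ[F] (Fin n → F), ∀ x y,
      bil (B : Matrix (Fin n) (Fin n) F) (e x) (e y) = sympForm m F x y := by
  have hA : (Matrix.toBilin' (B : Matrix (Fin n) (Fin n) F)).IsAlt := by
    intro v
    rw [← bil_eq_toBilin, hB]
  have hnd : ∀ u, (∀ v, (Matrix.toBilin' (B : Matrix (Fin n) (Fin n) F)) u v = 0) → u = 0 := by
    intro u hu
    have h1 : ∀ w, u ⬝ᵥ w = 0 := by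
      intro w
      have h2 := hu (((B⁻¹ : GL (Fin n) F) : Matrix (Fin n) (Fin n) F) *ᵥ w)
      rw [← bil_eq_toBilin, bil, mulVec_mulVec, ← Units.val_mul, mul_inv_cancel, Units.val_one, one_mulVec] at h2
      exact h2
    exact eq_zero_of_dotProduct h1
  obtain ⟨e, he⟩ := Cfsg.Agent.ClassicalGeometry.SympIso.exists_linearEquiv_sympForm
    (Matrix.toBilin' (B : Matrix (Fin n) (Fin n) F)) hA hnd (k := m) (by simp [hnm])
  exact ⟨e, fun x y => by rw [bil_eq_toBilin, he]⟩

end classification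

end Cfsg.Agent.H999.PslGraphOdd
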