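import Mathlib
import Cfsg.Prelude.Def_LieTypeDatum
import Cfsg.Agent.H999.PslGraphOdd

/-!
# The classes of involutory graph automorphisms of `PSL_{2m}(F)`, `|F|` odd (helper999)
-/

set_option autoImplicit false
set_option linter.unusedSectionVars false

namespace Cfsg.Agent.H999.PslGraphClasses

open Matrix
open Cfsg.Agent.H999.PslGraph
open Cfsg.Agent.H999.PslGraphOdd

section general

variable {F : Type*} [Field F] {n : ℕ}

theorem det_ne_zero {ι : Type*} [Fintype ι] [DecidableEq ι] (C : GL ι F) : (C : Matrix ι ι F).det ≠ 0 := by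
  have h := congrArg Matrix.det (show (C : Matrix ι ι F) *
    ((C⁻¹ : GL ι F) : Matrix ι ι F) = 1 by
      rw [← Units.val_mul, mul_inv_cancel, Units.val_one])
  rw [det_mul, det_one] at h
  exact left_ne_zero_of_mul_eq_one h

/-- A linear isomorphism carrying one Gram matrix to another gives a congruence. -/
theorem exists_congr_of_linearEquiv {B B' : Matrix (Fin n) (Fin n) F} (T : (Fin n → F) ≃ₗ[F] (Fin n → F))
    (h : ∀ u v, bil B' u v = bil B (T u) (T v)) :
    ∃ P : GL (Fin n) F, B' = (P : Matrix (Fin n) (Fin n) F)ᵀ * B * P := by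
  have h1 : LinearMap.toMatrix' (T : (Fin n → F) →ₗ[F] (Fin n → F)) *
      LinearMap.toMatrix' (T.symm : (Fin n → F) →ₗ[F] (Fin n → F)) = 1 := by
    rw [← LinearMap.toMatrix'_comp]
    simp
  have h2 : LinearMap.toMatrix' (T.symm : (Fin n → F) →ₗ[F] (Fin n → F)) *
      LinearMap.toMatrix' (T : (Fin n → F) →ₗ[F] (Fin n → F)) = 1 := by
    rw [← LinearMap.toMatrix'_comp]
    simp
  refine ⟨⟨_, _, h1, h2⟩, bil_ext fun u v => ?_⟩
  rw [← bil_mulVec, h]
  simp only [LinearMap.toMatrix'_mulVec, LinearEquiv.coe_coe]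

theorem bil_self_of_skew (h2 : (2 : F) ≠ 0) {ι : Type*} [Fintype ι] {B : Matrix ι ι F} (hB : Bᵀ = -B)
    (v : ι → F) : bil B v v = 0 := by
  have h1 := bil_transpose B v v
  rw [hB] at h1
  have h3 : bil (-B) v v = - bil B v v := by
    rw [bil, bil, neg_mulVec, dotProduct_neg]
  rw [h3] at h1
  have h4 : 2 * bil B v v = 0 := by linear_combination -h1
  exact (mul_eq_zero.1 h4).resolve_left h2

/-- Two invertible alternating matrices are congruent. -/
theorem exists_congr_of_alt {m : ℕ} (hnm : n = 2 * m) (B B' : GL (Fin n) F)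
    (hB : ∀ v, bil (B : Matrix (Fin n) (Fin n) F) v v = 0)
    (hB' : ∀ v, bil (B' : Matrix (Fin n) (Fin n) F) v v = 0) :
    ∃ P : GL (Fin n) F, (B' : Matrix (Fin n) (Fin n) F) = (P : Matrix (Fin n) (Fin n) F)ᵀ * B * P := by
  obtain ⟨e, he⟩ := exists_symp hnm B hB
  obtain ⟨e', he'⟩ := exists_symp hnm B' hB'
  refine exists_congr_of_linearEquiv (e'.symm.trans e) fun u v => ?_
  rw [LinearEquiv.trans_apply, LinearEquiv.trans_apply, he, ← he', LinearEquiv.apply_symm_apply,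
    LinearEquiv.apply_symm_apply]

theorem isConj_of_congr (hn : 2 ≤ n) {B B' : GL (Fin n) F}
    (h : ∃ P : GL (Fin n) F, (B' : Matrix (Fin n) (Fin n) F) = (P : Matrix (Fin n) (Fin n) F)ᵀ * B * P) :
    IsConjUnder (inndiagPSL n F) (gam B) (gam B') := by
  obtain ⟨P, hP⟩ := h
  exact (isConj_iff hn).2 ⟨P, 1, one_ne_zero, by rw [one_smul]; exact hP⟩

/-- The centralizer of a symplectic graph automorphism. -/
theorem cent_alt {m : ℕ} (hn : 2 ≤ n) (hnm : n = 2 * m) (B : GL (Fin n) F)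
    (hB : ∀ v, bil (B : Matrix (Fin n) (Fin n) F) v v = 0) :
    Nonempty (↥(inndiagPSL n F ⊓ Subgroup.centralizer {gam B}) ≃* PGSp m F) := by
  obtain ⟨e, he⟩ := exists_symp hnm B hB
  obtain ⟨e1⟩ := centEquiv hn B
  obtain ⟨e2⟩ := similarity_transfer e (f := bil (B : Matrix (Fin n) (Fin n) F)) (f' := sympForm m F)
    one_ne_zero (fun u v => by rw [he, one_mul])
  exact ⟨e1.trans e2.symm⟩

theorem not_conj_alt_symm (h2 : (2 : F) ≠ 0) (hn : 2 ≤ n) {B B' : GL (Fin n) F}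
    (hB : (B : Matrix (Fin n) (Fin n) F)ᵀ = -B) (hB' : (B' : Matrix (Fin n) (Fin n) F)ᵀ = B') :
    ¬ IsConjUnder (inndiagPSL n F) (gam B) (gam B') := by
  rw [isConj_iff hn]
  rintro ⟨P, c, -, hP⟩
  have h3 : (B' : Matrix (Fin n) (Fin n) F)ᵀ = -B' := by
    rw [hP, transpose_smul, transpose_mul, transpose_mul, transpose_transpose, hB, ← smul_neg]
    congr 1
    rw [Matrix.mul_assoc, Matrix.neg_mul, Matrix.mul_neg]
  rw [hB'] at h3
  have h4 : (2 : F) • (B' : Matrix (Fin n) (Fin n) F) = 0 := by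
    rw [two_smul]
    nth_rewrite 1 [h3]
    rw [neg_add_cancel]
  have h5 : (B' : Matrix (Fin n) (Fin n) F) = 0 := (smul_eq_zero.1 h4).resolve_left h2
  have h6 := det_ne_zero B'
  have : Nonempty (Fin n) := ⟨⟨0, by omega⟩⟩
  rw [h5, det_zero] at h6
  exact h6 rfl

/-- Conjugate graph automorphisms in even dimension have the same discriminant. -/
theorem isSquare_of_conj {m : ℕ} (hn : 2 ≤ n) (hnm : n = 2 * m) {B B' : GL (Fin n) F}
    (h : IsConjUnder (inndiagPSL n F) (gam B) (gam B')) :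
    IsSquare ((B : Matrix (Fin n) (Fin n) F).det * (B' : Matrix (Fin n) (Fin n) F).det) := by
  obtain ⟨P, c, -, hP⟩ := (isConj_iff hn).1 h
  rw [hP, det_smul, Fintype.card_fin, det_mul, det_mul, det_transpose]
  refine ⟨c ^ m * (B : Matrix (Fin n) (Fin n) F).det * (P : Matrix (Fin n) (Fin n) F).det, ?_⟩
  have h1 : c ^ n = c ^ m * c ^ m := by rw [← pow_add, ← two_mul, ← hnm]
  rw [h1]; ring

theorem cent_plus (h2 : (2 : F) ≠ 0) {m : ℕ} (hn : 2 ≤ n) (e : Fin n ≃ Fin m ⊕ Fin m)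
    (hC : (gramPlus m F).det ≠ 0) :
    Nonempty (↥(inndiagPSL n F ⊓ Subgroup.centralizer {gam (rx e (gramPlus m F) hC)}) ≃*
      PGO F (quadFormPlus m F)) := by
  obtain ⟨e1⟩ := cent_rx hn e (gramPlus m F) hC
  have h := sim_eq_quad h2 (gramPlus_transpose m) (bil_gramPlus m (F := F))
  rw [h] at e1
  exact ⟨e1⟩

theorem cent_minus (h2 : (2 : F) ≠ 0) {m : ℕ} (a b : F) (hn : 2 ≤ n)
    (e : Fin n ≃ (Fin m ⊕ Fin m) ⊕ Fin 2) (hC : (gramMinus m F a b).det ≠ 0) :
    Nonempty (↥(inndiagPSL n F ⊓ Subgroup.centralizer {gam (rx e (gramMinus m F a b) hC)}) ≃*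
      PGO F (quadFormMinus m F a b)) := by
  obtain ⟨e1⟩ := cent_rx hn e (gramMinus m F a b) hC
  have h := sim_eq_quad h2 (gramMinus_transpose m a b) (bil_gramMinus m a b)
  rw [h] at e1
  exact ⟨e1⟩

/-- Conjugate automorphisms have isomorphic centralizers. -/
theorem cent_congr {X : Type*} [Group X] {H : Subgroup X} {x y : X} (h : IsConjUnder H x y) :
    Nonempty (↥(H ⊓ Subgroup.centralizer {x}) ≃* ↥(H ⊓ Subgroup.centralizer {y})) := by
  obtain ⟨g, hg, rfl⟩ := h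
  have h1 : (H ⊓ Subgroup.centralizer {x}).map (MulAut.conj g).toMonoidHom =
      H ⊓ Subgroup.centralizer {g * x * g⁻¹} := by
    ext z
    rw [Subgroup.mem_map]
    constructor
    · rintro ⟨w, ⟨hw1, hw2⟩, rfl⟩
      have hw3 : w * x = x * w := Subgroup.mem_centralizer_singleton_iff.1 hw2
      refine ⟨H.mul_mem (H.mul_mem hg hw1) (H.inv_mem hg), ?_⟩
      refine Subgroup.mem_centralizer_singleton_iff.2 ?_
      change g * w * g⁻¹ * (g * x * g⁻¹) = g * x * g⁻¹ * (g * w * g⁻¹)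
      calc g * w * g⁻¹ * (g * x * g⁻¹) = g * (w * x) * g⁻¹ := by group
        _ = _ := by rw [hw3]; group
    · rintro ⟨hz1, hz2⟩
      have hz3 : z * (g * x * g⁻¹) = g * x * g⁻¹ * z := Subgroup.mem_centralizer_singleton_iff.1 hz2
      refine ⟨g⁻¹ * z * g, ⟨H.mul_mem (H.mul_mem (H.inv_mem hg) hz1) hg, ?_⟩, ?_⟩
      · refine Subgroup.mem_centralizer_singleton_iff.2 ?_
        calc g⁻¹ * z * g * x = g⁻¹ * (z * (g * x * g⁻¹)) * g := by group
          _ = _ := by rw [hz3]; group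
      · change g * (g⁻¹ * z * g) * g⁻¹ = z
        group
  rw [← h1]
  exact ⟨(H ⊓ Subgroup.centralizer {x}).equivMapOfInjective _ (MulAut.conj g).injective⟩

end general

section odd

variable {F : Type*} [Field F] [Fintype F]

theorem two_ne_zero_of_odd (hodd : Odd (Fintype.card F)) : (2 : F) ≠ 0 := by
  intro h
  have h1 : CharP F 2 := CharTwo.of_one_ne_zero_of_two_eq_zero one_ne_zero h
  obtain ⟨k, -, hk⟩ := FiniteField.card F 2
  rw [hk] at hodd
  exact (Nat.not_odd_iff_even.2 ((Nat.even_pow.2 ⟨even_two, k.ne_zero⟩))) hodd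

theorem exists_not_isSquare (h2 : (2 : F) ≠ 0) : ∃ ν : F, ¬ IsSquare ν := by
  apply FiniteField.exists_nonsquare
  intro h
  apply h2
  have := ringChar.spec F 2
  rw [h] at this
  exact_mod_cast this.2 dvd_rfl

theorem isSquare_mul_of_not {a b : F} (ha : ¬ IsSquare a) (hb : ¬ IsSquare b) : IsSquare (a * b) := by
  classical
  by_cases hF : ringChar F = 2
  · exact absurd (FiniteField.isSquare_of_char_two hF a) ha
  have ha0 : a ≠ 0 := by rintro rfl; exact ha ⟨0, by simp⟩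
  have hb0 : b ≠ 0 := by rintro rfl; exact hb ⟨0, by simp⟩
  rw [← quadraticChar_one_iff_isSquare (mul_ne_zero ha0 hb0), map_mul,
    (quadraticChar_neg_one_iff_not_isSquare).2 ha, (quadraticChar_neg_one_iff_not_isSquare).2 hb]
  norm_num

/-- The discriminants of the plus and minus forms differ by a nonsquare. -/
theorem not_isSquare_det (h2 : (2 : F) ≠ 0) (k : ℕ) {a b : F}
    (hab : ∀ z₁ z₂ : F, z₁ ^ 2 + a * z₁ * z₂ + b * z₂ ^ 2 = 0 → z₁ = 0 ∧ z₂ = 0) :
    ¬ IsSquare ((gramPlus (k + 1) F).det * (gramMinus k F a b).det) := by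
  rw [det_gramPlus, det_gramMinus]
  have h : (-1 : F) ^ (k + 1) * ((-1) ^ k * (4 * b - a ^ 2)) = a ^ 2 - 4 * b := by
    have : (-1 : F) ^ (k + 1) * (-1) ^ k = -1 := by
      rw [← pow_add, show k + 1 + k = 2 * k + 1 by ring, pow_succ, pow_mul]
      norm_num
    rw [← mul_assoc, this]; ring
  rw [h]
  exact not_isSquare_of_aniso h2 hab

theorem det_gramPlus_ne_zero (m : ℕ) : (gramPlus m F).det ≠ 0 := by
  rw [det_gramPlus]
  exact pow_ne_zero _ (neg_ne_zero.2 one_ne_zero)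

theorem det_gramMinus_ne_zero (h2 : (2 : F) ≠ 0) (k : ℕ) {a b : F}
    (hab : ∀ z₁ z₂ : F, z₁ ^ 2 + a * z₁ * z₂ + b * z₂ ^ 2 = 0 → z₁ = 0 ∧ z₂ = 0) :
    (gramMinus k F a b).det ≠ 0 := by
  intro h
  apply not_isSquare_det h2 k hab
  rw [h, mul_zero]
  exact ⟨0, by simp⟩

/-- A symmetric matrix of even size is congruent to the plus or to the minus form. -/
theorem symm_dichotomy (h2 : (2 : F) ≠ 0) {n k : ℕ} (hn : 2 ≤ n) {a b : F}
    (hab : ∀ z₁ z₂ : F, z₁ ^ 2 + a * z₁ * z₂ + b * z₂ ^ 2 = 0 → z₁ = 0 ∧ z₂ = 0)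
    (e : Fin n ≃ Fin (k + 1) ⊕ Fin (k + 1)) (e' : Fin n ≃ (Fin k ⊕ Fin k) ⊕ Fin 2)
    (B : GL (Fin n) F) (hB : (B : Matrix (Fin n) (Fin n) F)ᵀ = B) :
    (IsSquare ((gramPlus (k + 1) F).det * (B : Matrix (Fin n) (Fin n) F).det) ∧
      ∃ P : GL (Fin n) F, (B : Matrix (Fin n) (Fin n) F) =
        (P : Matrix (Fin n) (Fin n) F)ᵀ * (rx e (gramPlus (k + 1) F) (det_gramPlus_ne_zero _)) * P) ∨
    (IsSquare ((gramMinus k F a b).det * (B : Matrix (Fin n) (Fin n) F).det) ∧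
      ∃ P : GL (Fin n) F, (B : Matrix (Fin n) (Fin n) F) =
        (P : Matrix (Fin n) (Fin n) F)ᵀ * (rx e' (gramMinus k F a b) (det_gramMinus_ne_zero h2 k hab)) * P) := by
  by_cases h : IsSquare ((gramPlus (k + 1) F).det * (B : Matrix (Fin n) (Fin n) F).det)
  · refine Or.inl ⟨h, exists_congr_of_disc h2 (by omega) _ _ ?_ hB ?_⟩
    · rw [rx_transpose, gramPlus_transpose, coe_rx]
    · rw [det_rx]; exact h
  · have h3 : IsSquare ((gramMinus k F a b).det * (B : Matrix (Fin n) (Fin n) F).det) := by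
      have h4 := isSquare_mul_of_not h (not_isSquare_det h2 k hab)
      obtain ⟨r, hr⟩ := h4
      have h5 := det_gramPlus_ne_zero (F := F) (k + 1)
      refine ⟨r / (gramPlus (k + 1) F).det, ?_⟩
      field_simp
      linear_combination hr
    refine Or.inr ⟨h3, exists_congr_of_disc h2 (by omega) _ _ ?_ hB ?_⟩
    · rw [rx_transpose, gramMinus_transpose, coe_rx]
    · rw [det_rx]; exact h3

end odd

end Cfsg.Agent.H999.PslGraphClasses
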