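import Mathlib
import Cfsg.Prelude.Def_LieTypeDatum
import Cfsg.Agent.H999.PslGraphClasses
import Cfsg.Agent.S0271

/-!
# The classes of involutory graph automorphisms of `PSL_{2m}(F)`, `|F|` even (helper999)

* `isoG C` : the isometry group of a bilinear form; `proj_iso` : in characteristic 2 over a finite field it is the
  projective similarity group;
* `isoJ` : `isoG J ≃* Sp`; `isoJw` : `isoG (J + w wᵀ)` is the centralizer in `Sp` of a transvection;
* `exists_form` : an invertible symmetric non-alternating matrix of even size is congruent to `J + w wᵀ`.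
-/

set_option autoImplicit false
set_option linter.unusedSectionVars false

namespace Cfsg.Agent.H999.PslGraphTwo

open Matrix
open Cfsg.Agent.H999.PslGraph
open Cfsg.Agent.H999.PslGraphOdd
open Cfsg.Agent.H999.PslGraphClasses

section sqrt

variable {F : Type*} [Field F] [CharP F 2]

theorem eq_of_sq_eq {a b : F} (h : a ^ 2 = b ^ 2) : a = b := by
  have h1 : (a - b) ^ 2 = 0 := by
    have h2 : (2 : F) = 0 := CharTwo.two_eq_zero
    linear_combination h + (-a * b + b ^ 2) * h2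
  have h3 : a - b = 0 := pow_eq_zero_iff (two_ne_zero) |>.1 h1
  exact sub_eq_zero.1 h3

theorem exists_sqrt [Finite F] (a : F) : ∃ b : F, b ^ 2 = a := by
  have hF : ringChar F = 2 := (ringChar.eq_iff).2 inferInstance
  obtain ⟨b, hb⟩ := FiniteField.isSquare_of_char_two hF a
  exact ⟨b, by rw [hb, pow_two]⟩

end sqrt

section iso

variable {F : Type*} [Field F] {κ : Type} [Fintype κ] [DecidableEq κ]

/-- The isometry group of the bilinear form with Gram matrix `C`. -/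
def isoG (C : Matrix κ κ F) : Subgroup (GL κ F) where
  carrier := {P | (P : Matrix κ κ F)ᵀ * C * P = C}
  mul_mem' {P Q} hP hQ := by
    change ((P * Q : GL κ F) : Matrix κ κ F)ᵀ * C * ((P * Q : GL κ F) : Matrix κ κ F) = C
    calc ((P * Q : GL κ F) : Matrix κ κ F)ᵀ * C * ((P * Q : GL κ F) : Matrix κ κ F)
        = (Q : Matrix κ κ F)ᵀ * ((P : Matrix κ κ F)ᵀ * C * P) * Q := by
          rw [Units.val_mul, transpose_mul]; simp only [Matrix.mul_assoc]
      _ = C := by
          rw [show (P : Matrix κ κ F)ᵀ * C * P = C from hP]; exact hQ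
  one_mem' := by
    change ((1 : GL κ F) : Matrix κ κ F)ᵀ * C * ((1 : GL κ F) : Matrix κ κ F) = C
    rw [Units.val_one, transpose_one, Matrix.one_mul, Matrix.mul_one]
  inv_mem' {P} hP := by
    change ((P⁻¹ : GL κ F) : Matrix κ κ F)ᵀ * C * ((P⁻¹ : GL κ F) : Matrix κ κ F) = C
    have h1 : (P : Matrix κ κ F) * ((P⁻¹ : GL κ F) : Matrix κ κ F) = 1 := by
      rw [← Units.val_mul, mul_inv_cancel, Units.val_one]
    calc ((P⁻¹ : GL κ F) : Matrix κ κ F)ᵀ * C * ((P⁻¹ : GL κ F) : Matrix κ κ F)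
        = ((P⁻¹ : GL κ F) : Matrix κ κ F)ᵀ * ((P : Matrix κ κ F)ᵀ * C * P) *
            ((P⁻¹ : GL κ F) : Matrix κ κ F) := by
          rw [show (P : Matrix κ κ F)ᵀ * C * P = C from hP]
      _ = ((P : Matrix κ κ F) * ((P⁻¹ : GL κ F) : Matrix κ κ F))ᵀ * C *
            ((P : Matrix κ κ F) * ((P⁻¹ : GL κ F) : Matrix κ κ F)) := by
          rw [transpose_mul]; simp only [Matrix.mul_assoc]
      _ = C := by rw [h1, transpose_one, Matrix.one_mul, Matrix.mul_one]

theorem mem_isoG {C : Matrix κ κ F} {P : GL κ F} :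
    P ∈ isoG C ↔ (P : Matrix κ κ F)ᵀ * C * P = C := Iff.rfl

/-- In characteristic two over a finite field, the projective similarity group is the isometry group. -/
theorem proj_iso [CharP F 2] [Finite F] [Nonempty κ] {C : Matrix κ κ F} (hC : C ≠ 0) :
    Nonempty (projQuot (Geo.similarityGroup (bil C)) ≃* ↥(isoG C)) := by
  have hle : isoG C ≤ Geo.similarityGroup (bil C) := fun P hP =>
    mem_similarity_iff.2 ⟨1, one_ne_zero, by rw [one_smul]; exact hP⟩
  let f : ↥(isoG C) →* projQuot (Geo.similarityGroup (bil C)) :=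
    (QuotientGroup.mk' _).comp (Subgroup.inclusion hle)
  have hf : Function.Bijective f := by
    constructor
    · rw [injective_iff_map_eq_one]
      rintro ⟨P, hP⟩ h
      have h1 : (⟨P, hle hP⟩ : ↥(Geo.similarityGroup (bil C))) ∈
        (Geo.scalars κ F).subgroupOf (Geo.similarityGroup (bil C)) := (QuotientGroup.eq_one_iff _).1 h
      obtain ⟨c, hc⟩ := (Geo.mem_scalars_iff _).1 (Subgroup.mem_subgroupOf.1 h1)
      change (P : Matrix κ κ F) = (c : F) • 1 at hc
      have h2 := mem_isoG.1 hP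
      rw [hc, transpose_smul, transpose_one, Matrix.smul_mul, Matrix.one_mul, Matrix.mul_smul, Matrix.mul_one,
        smul_smul] at h2
      have h3 : ((c : F) * c - 1) • C = 0 := by rw [sub_smul, h2, one_smul, sub_self]
      have h4 : (c : F) * c = 1 := sub_eq_zero.1 ((smul_eq_zero.1 h3).resolve_right hC)
      have h5 : (c : F) = 1 := eq_of_sq_eq (by rw [pow_two, h4, one_pow])
      apply Subtype.ext
      apply Units.ext
      change (P : Matrix κ κ F) = 1
      rw [hc, h5, one_smul]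
    · intro x
      obtain ⟨⟨P, hP⟩, rfl⟩ := QuotientGroup.mk'_surjective _ x
      obtain ⟨c, hc0, hc⟩ := mem_similarity_iff.1 hP
      obtain ⟨r, hr⟩ := exists_sqrt c
      have hr0 : r ≠ 0 := by rintro rfl; exact hc0 (by rw [← hr]; ring)
      let u : GL κ F := Matrix.GeneralLinearGroup.scalar κ (Units.mk0 r hr0)⁻¹
      have hu : (u : Matrix κ κ F) = r⁻¹ • 1 := by rw [smul_one_eq_diagonal]; rfl
      have hPu : P * u ∈ isoG C := by
        rw [mem_isoG, Units.val_mul, hu, Matrix.mul_smul, Matrix.mul_one, transpose_smul, Matrix.smul_mul,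
          Matrix.mul_smul, Matrix.smul_mul, hc, smul_smul, smul_smul]
        have : r⁻¹ * r⁻¹ * c = 1 := by rw [← hr]; field_simp
        rw [this, one_smul]
      refine ⟨⟨P * u, hPu⟩, ?_⟩
      change QuotientGroup.mk' _ (Subgroup.inclusion hle ⟨P * u, hPu⟩) = QuotientGroup.mk' _ ⟨P, hP⟩
      rw [QuotientGroup.mk'_apply, QuotientGroup.mk'_apply, eq_comm, QuotientGroup.eq, Subgroup.mem_subgroupOf]
      change P⁻¹ * (P * u) ∈ Geo.scalars κ F
      rw [inv_mul_cancel_left]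
      exact mem_scalars_iff'.2 ⟨_, hu⟩
  exact ⟨(MulEquiv.ofBijective f hf).symm⟩

end iso

section symp

variable {F : Type*} [Field F] {m : ℕ}

/-- The symplectic group as a subgroup of `GL`. -/
noncomputable def isoJ : ↥(isoG (J (Fin m) F)) ≃* ↥(symplecticGroup (Fin m) F) where
  toFun P := ⟨P.1, SymplecticGroup.mem_iff'.2 P.2⟩
  invFun g := ⟨Matrix.GeneralLinearGroup.mkOfDetNeZero (g : Matrix (Fin m ⊕ Fin m) (Fin m ⊕ Fin m) F)
    (by rw [SymplecticGroup.det_eq_one g.2]; exact one_ne_zero), SymplecticGroup.mem_iff'.1 g.2⟩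
  left_inv P := by
    apply Subtype.ext
    apply Units.ext
    rfl
  right_inv g := rfl
  map_mul' P Q := rfl

theorem coe_isoJ (P : ↥(isoG (J (Fin m) F))) :
    ((isoJ P : ↥(symplecticGroup (Fin m) F)) : Matrix (Fin m ⊕ Fin m) (Fin m ⊕ Fin m) F) =
      (P : GL (Fin m ⊕ Fin m) F).1 := rfl

variable [CharP F 2]

theorem neg_eq_self' (A : Matrix (Fin m ⊕ Fin m) (Fin m ⊕ Fin m) F) : -A = A := by
  ext i j
  rw [Matrix.neg_apply, CharTwo.neg_eq]

theorem J_mul_J : J (Fin m) F * J (Fin m) F = 1 := by rw [J_squared, neg_eq_self']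

theorem J_tr : (J (Fin m) F)ᵀ = J (Fin m) F := by rw [J_transpose, neg_eq_self']

theorem dot_J_self (w : Fin m ⊕ Fin m → F) : w ⬝ᵥ (J (Fin m) F *ᵥ w) = 0 := by
  have h := Cfsg.Agent.ClassicalGeometry.SympBasic.sympForm_eq_sum w w
  rw [Cfsg.Agent.ClassicalGeometry.SympBasic.sympForm_def] at h
  rw [h]
  apply Finset.sum_eq_zero
  intro i _
  ring

/-- The transvection attached to the vector `J w`. -/
noncomputable def tw (w : Fin m ⊕ Fin m → F) : ↥(symplecticGroup (Fin m) F) :=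
  ⟨1 + vecMulVec (J (Fin m) F *ᵥ w) w, by
    rw [SymplecticGroup.mem_iff', transpose_add, transpose_one, transpose_vecMulVec]
    have h1 : J (Fin m) F * vecMulVec (J (Fin m) F *ᵥ w) w = vecMulVec w w := by
      rw [mul_vecMulVec, mulVec_mulVec, J_mul_J, one_mulVec]
    have h2 : vecMulVec w (J (Fin m) F *ᵥ w) * J (Fin m) F = vecMulVec w w := by
      rw [vecMulVec_mul, ← mulVec_transpose, J_tr, mulVec_mulVec, J_mul_J, one_mulVec]
    rw [Matrix.add_mul, Matrix.one_mul, h2, Matrix.mul_add, Matrix.mul_one, Matrix.add_mul, h1]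
    have h3 : vecMulVec w w * vecMulVec (J (Fin m) F *ᵥ w) w = 0 := by
      rw [vecMulVec_mul_vecMulVec, dot_J_self]
      simp
    rw [h3, add_zero]
    ext i j
    simp only [Matrix.add_apply]
    have := CharTwo.add_self_eq_zero (vecMulVec w w i j)
    linear_combination this⟩

theorem coe_tw (w : Fin m ⊕ Fin m → F) :
    (tw w : Matrix (Fin m ⊕ Fin m) (Fin m ⊕ Fin m) F) = 1 + vecMulVec (J (Fin m) F *ᵥ w) w := rfl

theorem J_mulVec_ne_zero {w : Fin m ⊕ Fin m → F} (hw : w ≠ 0) : J (Fin m) F *ᵥ w ≠ 0 := by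
  intro h
  apply hw
  have := congrArg (fun v => J (Fin m) F *ᵥ v) h
  simpa only [mulVec_mulVec, J_mul_J, one_mulVec, mulVec_zero] using this

theorem vecMulVec_ne_zero' {ι : Type*} {u w : ι → F} (hu : u ≠ 0) (hw : w ≠ 0) :
    vecMulVec u w ≠ 0 := by
  obtain ⟨i, hi⟩ := Function.ne_iff.1 hu
  obtain ⟨j, hj⟩ := Function.ne_iff.1 hw
  intro h
  have := congrFun (congrFun h i) j
  rw [vecMulVec_apply] at this
  exact mul_ne_zero hi hj this

theorem isTransvection_tw {w : Fin m ⊕ Fin m → F} (hw : w ≠ 0) :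
    IsTransvection (tw w : Matrix (Fin m ⊕ Fin m) (Fin m ⊕ Fin m) F) := by
  have h1 : (tw w : Matrix (Fin m ⊕ Fin m) (Fin m ⊕ Fin m) F) - 1 = vecMulVec (J (Fin m) F *ᵥ w) w := by
    rw [coe_tw, add_sub_cancel_left]
  rw [IsTransvection, h1]
  constructor
  · have h2 := rank_vecMulVec_le (J (Fin m) F *ᵥ w) w
    have h3 : (vecMulVec (J (Fin m) F *ᵥ w) w).rank ≠ 0 := by
      intro h
      rw [Matrix.rank, Submodule.finrank_eq_zero, LinearMap.range_eq_bot] at h
      refine vecMulVec_ne_zero' (J_mulVec_ne_zero hw) hw ?_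
      ext i j
      have h4 := congrFun (LinearMap.congr_fun h (Pi.single j 1)) i
      rwa [mulVecLin_apply, mulVec_single_one, col_apply] at h4
    omega
  · rw [vecMulVec_mul_vecMulVec, dot_J_self]
    simp

/-- `P` is an isometry of `J + w wᵀ` iff it is symplectic and commutes with the transvection. -/
theorem mem_isoG_Jw [Finite F] {w : Fin m ⊕ Fin m → F} (P : GL (Fin m ⊕ Fin m) F) :
    P ∈ isoG (J (Fin m) F + vecMulVec w w) ↔
      P ∈ isoG (J (Fin m) F) ∧ (P : Matrix (Fin m ⊕ Fin m) (Fin m ⊕ Fin m) F)ᵀ *ᵥ w = w := by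
  have key : (P : Matrix (Fin m ⊕ Fin m) (Fin m ⊕ Fin m) F)ᵀ * vecMulVec w w *
      (P : Matrix (Fin m ⊕ Fin m) (Fin m ⊕ Fin m) F) =
      vecMulVec ((P : Matrix (Fin m ⊕ Fin m) (Fin m ⊕ Fin m) F)ᵀ *ᵥ w)
        ((P : Matrix (Fin m ⊕ Fin m) (Fin m ⊕ Fin m) F)ᵀ *ᵥ w) := by
    rw [mul_vecMulVec, vecMulVec_mul, mulVec_transpose]
  constructor
  · intro h
    rw [mem_isoG, Matrix.mul_add, Matrix.add_mul, key] at h
    have h1 : ∀ v : Fin m ⊕ Fin m → F, ((P : Matrix (Fin m ⊕ Fin m) (Fin m ⊕ Fin m) F)ᵀ *ᵥ w) ⬝ᵥ v = w ⬝ᵥ v := by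
      intro v
      have h2 := congrArg (fun A => bil A v v) h
      simp only [bil, add_mulVec, dotProduct_add] at h2
      have h3 : v ⬝ᵥ (((P : Matrix (Fin m ⊕ Fin m) (Fin m ⊕ Fin m) F)ᵀ * J (Fin m) F *
          (P : Matrix (Fin m ⊕ Fin m) (Fin m ⊕ Fin m) F)) *ᵥ v) = 0 := by
        have := bil_mulVec (J (Fin m) F) (P : Matrix (Fin m ⊕ Fin m) (Fin m ⊕ Fin m) F) v v
        rw [bil, bil, dot_J_self] at this
        exact this.symm
      have h4 : v ⬝ᵥ (J (Fin m) F *ᵥ v) = 0 := dot_J_self v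
      rw [h3, h4, zero_add, zero_add, vecMulVec_mulVec, vecMulVec_mulVec] at h2
      simp only [op_smul_eq_smul, dotProduct_smul, smul_eq_mul] at h2
      apply eq_of_sq_eq
      rw [dotProduct_comm v, dotProduct_comm v] at h2
      linear_combination h2
    have h5 : (P : Matrix (Fin m ⊕ Fin m) (Fin m ⊕ Fin m) F)ᵀ *ᵥ w = w := by
      ext i
      have := h1 (Pi.single i 1)
      rwa [dotProduct_single, dotProduct_single, mul_one, mul_one] at this
    refine ⟨?_, h5⟩
    rw [h5] at h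
    rw [mem_isoG]
    exact add_right_cancel h
  · rintro ⟨h1, h2⟩
    rw [mem_isoG, Matrix.mul_add, Matrix.add_mul, key, h2, mem_isoG.1 h1]

theorem fix_iff {w : Fin m ⊕ Fin m → F} (hw : w ≠ 0) (P : ↥(isoG (J (Fin m) F))) :
    ((P : GL (Fin m ⊕ Fin m) F) : Matrix (Fin m ⊕ Fin m) (Fin m ⊕ Fin m) F)ᵀ *ᵥ w = w ↔
      isoJ P ∈ Subgroup.centralizer {tw w} := by
  obtain ⟨P, hP⟩ := P
  have hP' := mem_isoG.1 hP
  rw [Subgroup.mem_centralizer_singleton_iff]
  have h1 : isoJ ⟨P, hP⟩ * tw w = tw w * isoJ ⟨P, hP⟩ ↔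
      vecMulVec ((P : Matrix (Fin m ⊕ Fin m) (Fin m ⊕ Fin m) F) *ᵥ (J (Fin m) F *ᵥ w)) w =
        vecMulVec (J (Fin m) F *ᵥ w) ((P : Matrix (Fin m ⊕ Fin m) (Fin m ⊕ Fin m) F)ᵀ *ᵥ w) := by
    rw [← Subtype.coe_inj]
    change (P : Matrix (Fin m ⊕ Fin m) (Fin m ⊕ Fin m) F) * (1 + vecMulVec (J (Fin m) F *ᵥ w) w) =
      (1 + vecMulVec (J (Fin m) F *ᵥ w) w) * (P : Matrix (Fin m ⊕ Fin m) (Fin m ⊕ Fin m) F) ↔ _
    rw [Matrix.mul_add, Matrix.add_mul, Matrix.mul_one, Matrix.one_mul, add_right_inj, mul_vecMulVec,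
      vecMulVec_mul, mulVec_transpose]
  rw [h1]
  -- `Pᵀ J P = J`, hence `J P J x = ...`
  have h2 : (P : Matrix (Fin m ⊕ Fin m) (Fin m ⊕ Fin m) F)ᵀ *ᵥ
      (J (Fin m) F *ᵥ ((P : Matrix (Fin m ⊕ Fin m) (Fin m ⊕ Fin m) F) *ᵥ (J (Fin m) F *ᵥ w))) = w := by
    rw [mulVec_mulVec, mulVec_mulVec, mulVec_mulVec, hP', J_mul_J, one_mulVec]
  have hinj : Function.Injective (fun x : Fin m ⊕ Fin m → F =>
      (P : Matrix (Fin m ⊕ Fin m) (Fin m ⊕ Fin m) F)ᵀ *ᵥ x) := by
    intro x y hxy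
    have h3 : ((P⁻¹ : GL (Fin m ⊕ Fin m) F) : Matrix (Fin m ⊕ Fin m) (Fin m ⊕ Fin m) F)ᵀ *
        (P : Matrix (Fin m ⊕ Fin m) (Fin m ⊕ Fin m) F)ᵀ = 1 := by
      rw [← transpose_mul, ← Units.val_mul, mul_inv_cancel, Units.val_one, transpose_one]
    have h4 := congrArg (fun z => ((P⁻¹ : GL (Fin m ⊕ Fin m) F) : Matrix (Fin m ⊕ Fin m) (Fin m ⊕ Fin m) F)ᵀ *ᵥ z) hxy
    simpa only [mulVec_mulVec, h3, one_mulVec] using h4
  constructor
  · intro h
    -- `P (J w) = J w`
    have h3 : (P : Matrix (Fin m ⊕ Fin m) (Fin m ⊕ Fin m) F) *ᵥ (J (Fin m) F *ᵥ w) = J (Fin m) F *ᵥ w := by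
      have h4 : J (Fin m) F *ᵥ ((P : Matrix (Fin m ⊕ Fin m) (Fin m ⊕ Fin m) F) *ᵥ (J (Fin m) F *ᵥ w)) = w :=
        hinj (h2.trans h.symm)
      have h5 := congrArg (fun z => J (Fin m) F *ᵥ z) h4
      simpa only [mulVec_mulVec, ← Matrix.mul_assoc, J_mul_J, Matrix.one_mul] using h5
    change vecMulVec ((P : Matrix (Fin m ⊕ Fin m) (Fin m ⊕ Fin m) F) *ᵥ (J (Fin m) F *ᵥ w)) w =
      vecMulVec (J (Fin m) F *ᵥ w) ((P : Matrix (Fin m ⊕ Fin m) (Fin m ⊕ Fin m) F)ᵀ *ᵥ w)
    rw [h3]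
    congr 1
    exact h.symm
  · intro h
    change (P : Matrix (Fin m ⊕ Fin m) (Fin m ⊕ Fin m) F)ᵀ *ᵥ w = w
    set x := (P : Matrix (Fin m ⊕ Fin m) (Fin m ⊕ Fin m) F) *ᵥ (J (Fin m) F *ᵥ w) with hx
    set y := (P : Matrix (Fin m ⊕ Fin m) (Fin m ⊕ Fin m) F)ᵀ *ᵥ w with hy
    obtain ⟨j, hj⟩ := Function.ne_iff.1 hw
    rw [Pi.zero_apply] at hj
    -- `x = c • J w`
    have h3 : x = (y j / w j) • (J (Fin m) F *ᵥ w) := by
      ext i
      have h4 := congrFun (congrFun h i) j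
      rw [vecMulVec_apply, vecMulVec_apply] at h4
      rw [Pi.smul_apply, smul_eq_mul]
      field_simp
      linear_combination h4
    set c := y j / w j with hc
    have h5 : y = c • w := by
      obtain ⟨i, hi⟩ := Function.ne_iff.1 (J_mulVec_ne_zero hw)
      rw [Pi.zero_apply] at hi
      ext k
      have h4 := congrFun (congrFun h i) k
      rw [vecMulVec_apply, vecMulVec_apply, h3, Pi.smul_apply, smul_eq_mul] at h4
      rw [Pi.smul_apply, smul_eq_mul]
      apply mul_left_cancel₀ hi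
      linear_combination -h4
    have h6 : c * c = 1 := by
      rw [h3, mulVec_smul, mulVec_mulVec (M := J (Fin m) F), J_mul_J, one_mulVec, mulVec_smul] at h2
      rw [← hy, h5, smul_smul] at h2
      have h7 := congrFun h2 j
      rw [Pi.smul_apply, smul_eq_mul] at h7
      apply mul_right_cancel₀ hj
      rw [h7, one_mul]
    have h7 : c = 1 := eq_of_sq_eq (by rw [pow_two, h6, one_pow])
    rw [h5, h7, one_smul]

/-- The isometry group of `J + w wᵀ` is the centralizer of a transvection in the symplectic group. -/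
theorem isoJw [Finite F] {w : Fin m ⊕ Fin m → F} (hw : w ≠ 0) :
    Nonempty (↥(isoG (J (Fin m) F + vecMulVec w w)) ≃*
      ↥(Subgroup.centralizer ({tw w} : Set ↥(symplecticGroup (Fin m) F)))) := by
  have h : (Subgroup.centralizer ({tw w} : Set ↥(symplecticGroup (Fin m) F))).comap
      (isoJ (m := m) (F := F)).toMonoidHom =
      (isoG (J (Fin m) F + vecMulVec w w)).subgroupOf (isoG (J (Fin m) F)) := by
    ext P
    rw [Subgroup.mem_comap, Subgroup.mem_subgroupOf, mem_isoG_Jw]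
    exact (fix_iff hw P).symm.trans ⟨fun h => ⟨P.2, h⟩, fun h => h.2⟩
  have hle : isoG (J (Fin m) F + vecMulVec w w) ≤ isoG (J (Fin m) F) := fun P hP =>
    ((mem_isoG_Jw P).1 hP).1
  have e1 := (Subgroup.subgroupOfEquivOfLe hle).symm
  have e2 := MulEquiv.subgroupCongr h.symm
  have e3 : ↥((Subgroup.centralizer ({tw w} : Set ↥(symplecticGroup (Fin m) F))).comap
      (isoJ (m := m) (F := F)).toMonoidHom) ≃*
      ↥(Subgroup.centralizer ({tw w} : Set ↥(symplecticGroup (Fin m) F))) :=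
    { toFun := fun x => ⟨isoJ x.1, x.2⟩
      invFun := fun y => ⟨isoJ.symm y.1, by
        rw [Subgroup.mem_comap]
        change isoJ (isoJ.symm y.1) ∈ _
        rw [MulEquiv.apply_symm_apply]
        exact y.2⟩
      left_inv := fun x => Subtype.ext (isoJ.symm_apply_apply x.1)
      right_inv := fun y => Subtype.ext (isoJ.apply_symm_apply y.1)
      map_mul' := fun x y => Subtype.ext (map_mul isoJ x.1 y.1) }
  exact ⟨(e1.trans e2).trans e3⟩

end symp

section classification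

variable {F : Type*} [Field F] [CharP F 2] {n m : ℕ}

/-- In characteristic two the diagonal of a symmetric form is the square of a linear functional. -/
theorem exists_diag_functional [Finite F] {B : Matrix (Fin n) (Fin n) F} (hB : Bᵀ = B) :
    ∃ l : Fin n → F, ∀ v, bil B v v = (l ⬝ᵥ v) ^ 2 := by
  choose l hl using fun i : Fin n => exists_sqrt (B i i)
  refine ⟨l, fun v => ?_⟩
  have h2 : (2 : F) = 0 := CharTwo.two_eq_zero
  let φ : (Fin n → F) →+ F :=
    { toFun := fun v => bil B v v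
      map_zero' := by simp [bil]
      map_add' := fun u v => by
        change bil B (u + v) (u + v) = bil B u u + bil B v v
        rw [bil_polar hB, h2, zero_mul, add_zero] }
  let ψ : (Fin n → F) →+ F :=
    { toFun := fun v => (l ⬝ᵥ v) ^ 2
      map_zero' := by simp
      map_add' := fun u v => by
        change (l ⬝ᵥ (u + v)) ^ 2 = (l ⬝ᵥ u) ^ 2 + (l ⬝ᵥ v) ^ 2
        rw [dotProduct_add]
        linear_combination (l ⬝ᵥ u) * (l ⬝ᵥ v) * h2 }
  have h : φ = ψ := by
    apply AddMonoidHom.functions_ext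
    intro i x
    change bil B (Pi.single i x) (Pi.single i x) = (l ⬝ᵥ Pi.single i x) ^ 2
    rw [bil, mulVec_single, single_dotProduct, dotProduct_single, mul_pow, hl]
    simp
    ring
  exact DFunLike.congr_fun h v

theorem bil_vecMulVec {ι : Type*} [Fintype ι] (l : ι → F) (u v : ι → F) :
    bil (vecMulVec l l) u v = (l ⬝ᵥ u) * (l ⬝ᵥ v) := by
  rw [bil, vecMulVec_mulVec, op_smul_eq_smul, dotProduct_smul, smul_eq_mul, dotProduct_comm u]
  ring

theorem bil_add {ι : Type*} [Fintype ι] (B C : Matrix ι ι F) (u v : ι → F) :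
    bil (B + C) u v = bil B u v + bil C u v := by
  rw [bil, bil, bil, add_mulVec, dotProduct_add]

/-- Removing the diagonal of an invertible symmetric matrix of even size gives the standard alternating form. -/
theorem exists_symp_two (hnm : n = 2 * m) (B : GL (Fin n) F) (l : Fin n → F)
    (hl : ∀ v, bil (B : Matrix (Fin n) (Fin n) F) v v = (l ⬝ᵥ v) ^ 2) :
    ∃ e : (Fin m ⊕ Fin m → F) ≃ₗ[F] (Fin n → F), ∀ x y,
      bil ((B : Matrix (Fin n) (Fin n) F) + vecMulVec l l) (e x) (e y) = sympForm m F x y := by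
  have h2 : (2 : F) = 0 := CharTwo.two_eq_zero
  have hA : (Matrix.toBilin' ((B : Matrix (Fin n) (Fin n) F) + vecMulVec l l)).IsAlt := by
    intro v
    rw [← bil_eq_toBilin, bil_add, hl, bil_vecMulVec]
    linear_combination (l ⬝ᵥ v) ^ 2 * h2
  obtain ⟨m', k, b, h1, h2', h3, h4⟩ := Cfsg.Agent.S0752.result _ hA
  have hcard : 2 * m' + k = n := by
    have := Module.finrank_eq_card_basis b
    simp at this
    omega
  -- radical vectors are multiples of `B⁻¹ l`
  have hrad : ∀ x : Fin n → F, (∀ v, (Matrix.toBilin' ((B : Matrix (Fin n) (Fin n) F) + vecMulVec l l)) x v = 0) →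
      x = (l ⬝ᵥ x) • (l ᵥ* ((B⁻¹ : GL (Fin n) F) : Matrix (Fin n) (Fin n) F)) := by
    intro x hx
    have h5 : ∀ v, (x - (l ⬝ᵥ x) • (l ᵥ* ((B⁻¹ : GL (Fin n) F) : Matrix (Fin n) (Fin n) F))) ⬝ᵥ v = 0 := by
      intro v
      have h6 := hx (((B⁻¹ : GL (Fin n) F) : Matrix (Fin n) (Fin n) F) *ᵥ v)
      rw [← bil_eq_toBilin, bil_add, bil_vecMulVec, bil, mulVec_mulVec, ← Units.val_mul, mul_inv_cancel,
        Units.val_one, one_mulVec] at h6
      rw [sub_dotProduct, smul_dotProduct, ← dotProduct_mulVec, smul_eq_mul]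
      linear_combination h6 - (l ⬝ᵥ x) * (l ⬝ᵥ (((B⁻¹ : GL (Fin n) F) : Matrix (Fin n) (Fin n) F) *ᵥ v)) * h2
    exact sub_eq_zero.1 (eq_zero_of_dotProduct h5)
  have hk : k = 0 := by
    by_contra hk
    have hk2 : 2 ≤ k := by omega
    have hx := hrad _ (h4 ⟨0, by omega⟩)
    have hy := hrad _ (h4 ⟨1, by omega⟩)
    set x := b (Sum.inr ⟨0, by omega⟩) with hxdef
    set y := b (Sum.inr ⟨1, by omega⟩) with hydef
    have h7 : (l ⬝ᵥ y) • x = (l ⬝ᵥ x) • y := by
      rw [hx, hy]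
      simp only [smul_smul, dotProduct_smul, smul_eq_mul]
      congr 1
      ring
    have h8 : (l ⬝ᵥ y) = 0 := by
      have h9 := congrArg (fun z => b.repr z (Sum.inr ⟨0, by omega⟩)) h7
      simpa [hxdef, hydef] using h9
    have h10 : y = 0 := by rw [hy, h8, zero_smul]
    exact b.ne_zero _ h10
  subst hk
  obtain rfl : m' = m := by omega
  let b' : Module.Basis (Fin m' ⊕ Fin m') F (Fin n → F) :=
    b.reindex ((Equiv.sumEmpty (Fin m' ⊕ Fin m') (Fin 0)).trans (Equiv.sumComm _ _))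
  have hb1 : ∀ i, b' (Sum.inl i) = b (Sum.inl (Sum.inr i)) := fun i => by
    simp [b']
  have hb2 : ∀ i, b' (Sum.inr i) = b (Sum.inl (Sum.inl i)) := fun i => by
    simp [b']
  refine ⟨b'.equivFun.symm, fun x y => ?_⟩
  rw [bil_eq_toBilin]
  refine Cfsg.Agent.ClassicalGeometry.SympIso.apply_eq_sympForm _ hA b' ?_ ?_ ?_ x y
  · intro i j
    rw [hb1, hb2, h1]
  · intro i j
    rw [hb1, hb1, h3]
  · intro i j
    rw [hb2, hb2, h2']

/-- An invertible symmetric non-alternating matrix of even size `2m` in characteristic two is congruent to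
`J + w wᵀ`, for any nonzero `w`. -/
theorem exists_form [Finite F] (hnm : n = 2 * m) (B : GL (Fin n) F)
    (hB : (B : Matrix (Fin n) (Fin n) F)ᵀ = B)
    (hna : ¬ ∀ v, bil (B : Matrix (Fin n) (Fin n) F) v v = 0) {w : Fin m ⊕ Fin m → F} (hw : w ≠ 0) :
    ∃ T : (Fin m ⊕ Fin m → F) ≃ₗ[F] (Fin n → F), ∀ x y,
      bil (B : Matrix (Fin n) (Fin n) F) (T x) (T y) = bil (J (Fin m) F + vecMulVec w w) x y := by
  have h2 : (2 : F) = 0 := CharTwo.two_eq_zero
  obtain ⟨l, hl⟩ := exists_diag_functional hB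
  obtain ⟨e, he⟩ := exists_symp_two hnm B l hl
  let w' : Fin m ⊕ Fin m → F := fun i => l ⬝ᵥ e (Pi.single i 1)
  have hw' : ∀ x, w' ⬝ᵥ x = l ⬝ᵥ e x := by
    intro x
    have h1 : e x = ∑ i, x i • e (Pi.single i 1) := by
      conv_lhs => rw [pi_eq_sum_univ' x]
      rw [map_sum]
      refine Finset.sum_congr rfl fun i _ => ?_
      rw [map_smul]
    rw [h1, dotProduct_sum]
    simp only [dotProduct_smul, smul_eq_mul]
    rw [dotProduct]
    refine Finset.sum_congr rfl fun i _ => ?_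
    rw [mul_comm]
  have hw0 : w' ≠ 0 := by
    intro h
    apply hna
    intro v
    obtain ⟨x, rfl⟩ := e.surjective v
    rw [hl, ← hw', h, zero_dotProduct]
    ring
  obtain ⟨g, hg⟩ := Cfsg.Agent.S0271.result m w' w hw0 hw
  have hgt : (g : Matrix (Fin m ⊕ Fin m) (Fin m ⊕ Fin m) F)ᵀ ∈ symplecticGroup (Fin m) F :=
    SymplecticGroup.transpose_mem g.2
  let T' : (Fin m ⊕ Fin m → F) ≃ₗ[F] (Fin m ⊕ Fin m → F) :=
    LinearEquiv.ofBijective (Matrix.mulVecLin (g : Matrix (Fin m ⊕ Fin m) (Fin m ⊕ Fin m) F)ᵀ) (by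
      have hu : IsUnit ((g : Matrix (Fin m ⊕ Fin m) (Fin m ⊕ Fin m) F)ᵀ) := by
        rw [Matrix.isUnit_iff_isUnit_det, SymplecticGroup.det_eq_one hgt]
        exact isUnit_one
      have h3 : Function.Injective (Matrix.mulVecLin (g : Matrix (Fin m ⊕ Fin m) (Fin m ⊕ Fin m) F)ᵀ) :=
        Matrix.mulVec_injective_iff_isUnit.2 hu
      exact ⟨h3, LinearMap.injective_iff_surjective.1 h3⟩)
  have hT' : ∀ x, T' x = (g : Matrix (Fin m ⊕ Fin m) (Fin m ⊕ Fin m) F)ᵀ *ᵥ x := fun x => rfl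
  refine ⟨T'.trans e, fun x y => ?_⟩
  have h4 : ∀ x, l ⬝ᵥ e (T' x) = w ⬝ᵥ x := by
    intro x
    rw [← hw', hT', dotProduct_mulVec, vecMul_transpose, hg]
  have h5 := he (T' x) (T' y)
  rw [bil_add, bil_vecMulVec, h4, h4] at h5
  have h6 : sympForm m F (T' x) (T' y) = bil (J (Fin m) F) x y := by
    change bil (J (Fin m) F) (T' x) (T' y) = _
    rw [hT', hT', bil_mulVec, SymplecticGroup.mem_iff'.1 hgt]
  rw [LinearEquiv.trans_apply, LinearEquiv.trans_apply, bil_add, bil_vecMulVec, ← h6]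
  linear_combination h5 - (w ⬝ᵥ x) * (w ⬝ᵥ y) * h2

end classification

end Cfsg.Agent.H999.PslGraphTwo
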