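import Mathlib
import Cfsg.Prelude.Def_LieTypeDatum
import Cfsg.Agent.H999.PslGraphTwo
import Cfsg.Agent.S0245
import Cfsg.Agent.S0287
import Cfsg.Agent.S0288

/-!
# Determinants and orders of similarity groups (helper999)

* `det_sympl`, `det_symm`, `det_le_pow` : the determinants of the similarities of an alternating / symmetric /
  (odd dimensional or characteristic two) form;
* `card_proj` : the order of the projective similarity group in terms of the isometry group;
* `not_iso_plus`, `not_iso_minus` : for odd `q`, `PGSp_{2m}(q)` is isomorphic to neither `PGO^+_{2m}(q)` nor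
  `PGO^-_{2m}(q)`.
-/

set_option autoImplicit false
set_option linter.unusedSectionVars false

namespace Cfsg.Agent.H999.PslGraphSplit

open Matrix
open Cfsg.Agent.H999.PslGraph
open Cfsg.Agent.H999.PslGraphOdd
open Cfsg.Agent.H999.PslGraphClasses
open Cfsg.Agent.H999.PslGraphTwo

section dets

variable {F : Type*} [Field F]

theorem coe_det {ι : Type*} [Fintype ι] [DecidableEq ι] (g : GL ι F) :
    ((Matrix.GeneralLinearGroup.det g : Fˣ) : F) = (g : Matrix ι ι F).det := rfl

/-- The square of the determinant of a similarity. -/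
theorem det_sq_of_sim {n : ℕ} {B P : GL (Fin n) F} {c : F}
    (h : (P : Matrix (Fin n) (Fin n) F)ᵀ * B * P = c • (B : Matrix (Fin n) (Fin n) F)) :
    (P : Matrix (Fin n) (Fin n) F).det ^ 2 = c ^ n := by
  have h1 := congrArg Matrix.det h
  rw [det_mul, det_mul, det_transpose, det_smul, Fintype.card_fin] at h1
  apply mul_right_cancel₀ (det_ne_zero B)
  rw [← h1]; ring

/-- The determinant of a symplectic similitude is the `m`-th power of its multiplier. -/
theorem det_GSp {m : ℕ} {P : GL (Fin m ⊕ Fin m) F} {c : F} (hc : c ≠ 0)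
    (h : (P : Matrix (Fin m ⊕ Fin m) (Fin m ⊕ Fin m) F)ᵀ * J (Fin m) F *
      (P : Matrix (Fin m ⊕ Fin m) (Fin m ⊕ Fin m) F) = c • J (Fin m) F) :
    (P : Matrix (Fin m ⊕ Fin m) (Fin m ⊕ Fin m) F).det = c ^ m := by
  let D : Matrix (Fin m ⊕ Fin m) (Fin m ⊕ Fin m) F := fromBlocks (c⁻¹ • 1) 0 0 1
  have hD : Dᵀ * J (Fin m) F * D = c⁻¹ • J (Fin m) F := by
    simp only [D, J, fromBlocks_transpose, fromBlocks_multiply, fromBlocks_smul, transpose_smul, transpose_one,
      transpose_zero]
    congr 1 <;> simp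
  have hdet : D.det = c⁻¹ ^ m := by
    simp only [D]
    rw [det_fromBlocks_zero₁₂, det_smul, det_one, Fintype.card_fin, mul_one, mul_one]
  have h1 : (P : Matrix (Fin m ⊕ Fin m) (Fin m ⊕ Fin m) F) * D ∈ symplecticGroup (Fin m) F := by
    rw [SymplecticGroup.mem_iff', transpose_mul]
    calc Dᵀ * (P : Matrix (Fin m ⊕ Fin m) (Fin m ⊕ Fin m) F)ᵀ * J (Fin m) F *
          ((P : Matrix (Fin m ⊕ Fin m) (Fin m ⊕ Fin m) F) * D)
        = Dᵀ * ((P : Matrix (Fin m ⊕ Fin m) (Fin m ⊕ Fin m) F)ᵀ * J (Fin m) F *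
            (P : Matrix (Fin m ⊕ Fin m) (Fin m ⊕ Fin m) F)) * D := by simp only [Matrix.mul_assoc]
      _ = J (Fin m) F := by
          rw [h, Matrix.mul_smul, Matrix.smul_mul, hD, smul_smul, mul_inv_cancel₀ hc, one_smul]
  have h2 := SymplecticGroup.det_eq_one h1
  rw [det_mul, hdet] at h2
  have h3 : c ^ m ≠ 0 := pow_ne_zero _ hc
  rw [inv_pow] at h2
  field_simp at h2
  exact h2

/-- The determinants of the similarities of an alternating form. -/
theorem det_alt {n m : ℕ} (hnm : n = 2 * m) (B : GL (Fin n) F)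
    (hB : ∀ v, bil (B : Matrix (Fin n) (Fin n) F) v v = 0) :
    (Geo.similarityGroup (bil (B : Matrix (Fin n) (Fin n) F))).map Matrix.GeneralLinearGroup.det =
      (powMonoidHom m : Fˣ →* Fˣ).range := by
  obtain ⟨e, he⟩ := exists_symp hnm B hB
  set M := LinearMap.toMatrix' (e : (Fin m ⊕ Fin m → F) →ₗ[F] (Fin n → F)) with hM
  set N := LinearMap.toMatrix' (e.symm : (Fin n → F) →ₗ[F] (Fin m ⊕ Fin m → F)) with hN
  have h1 : M * N = 1 := by rw [hM, hN, ← LinearMap.toMatrix'_comp]; simp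
  have h2 : N * M = 1 := by rw [hM, hN, ← LinearMap.toMatrix'_comp]; simp
  have h3 : Mᵀ * (B : Matrix (Fin n) (Fin n) F) * M = J (Fin m) F := by
    apply bil_ext
    intro u v
    rw [← bil_mulVec, hM, LinearMap.toMatrix'_mulVec, LinearMap.toMatrix'_mulVec]
    exact he u v
  have h4 : (B : Matrix (Fin n) (Fin n) F) = Nᵀ * J (Fin m) F * N := by
    rw [← h3]
    calc (B : Matrix (Fin n) (Fin n) F) = (M * N)ᵀ * (B : Matrix (Fin n) (Fin n) F) * (M * N) := by
          rw [h1, transpose_one, Matrix.one_mul, Matrix.mul_one]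
      _ = _ := by rw [transpose_mul]; simp only [Matrix.mul_assoc]
  apply le_antisymm
  · rintro _ ⟨P, hP, rfl⟩
    obtain ⟨c, hc0, hc⟩ := mem_similarity_iff.1 hP
    have h5 : ((rc N M h2 h1 P : GL (Fin m ⊕ Fin m) F) : Matrix (Fin m ⊕ Fin m) (Fin m ⊕ Fin m) F)ᵀ *
        J (Fin m) F * ((rc N M h2 h1 P : GL (Fin m ⊕ Fin m) F) : Matrix (Fin m ⊕ Fin m) (Fin m ⊕ Fin m) F) =
        c • J (Fin m) F := by
      rw [coe_rc, transpose_mul, transpose_mul]
      calc Mᵀ * ((P : Matrix (Fin n) (Fin n) F)ᵀ * Nᵀ) * J (Fin m) F * (N * (P : Matrix (Fin n) (Fin n) F) * M)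
          = Mᵀ * ((P : Matrix (Fin n) (Fin n) F)ᵀ * (Nᵀ * J (Fin m) F * N) * (P : Matrix (Fin n) (Fin n) F)) * M := by
            simp only [Matrix.mul_assoc]
        _ = c • J (Fin m) F := by
            rw [← h4, hc, Matrix.mul_smul, Matrix.smul_mul, h3]
    have h6 := det_GSp hc0 h5
    rw [coe_rc, det_conj_of_mul_eq_one h2 h1] at h6
    refine ⟨Units.mk0 c hc0, ?_⟩
    apply Units.ext
    rw [powMonoidHom_apply, Units.val_pow_eq_pow_val, Units.val_mk0, coe_det, h6]
  · rintro _ ⟨c, rfl⟩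
    let D : Matrix (Fin m ⊕ Fin m) (Fin m ⊕ Fin m) F := fromBlocks ((c : F) • 1) 0 0 1
    have hD : Dᵀ * J (Fin m) F * D = (c : F) • J (Fin m) F := by
      simp only [D, J, fromBlocks_transpose, fromBlocks_multiply, fromBlocks_smul, transpose_smul,
        transpose_one, transpose_zero]
      congr 1 <;> simp
    have hdet : D.det = (c : F) ^ m := by
      simp only [D]
      rw [det_fromBlocks_zero₁₂, det_smul, det_one, Fintype.card_fin, mul_one, mul_one]
    let D' : GL (Fin m ⊕ Fin m) F := Matrix.GeneralLinearGroup.mkOfDetNeZero D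
      (by rw [hdet]; exact pow_ne_zero _ c.ne_zero)
    have hD' : (D' : Matrix (Fin m ⊕ Fin m) (Fin m ⊕ Fin m) F) = D := rfl
    refine ⟨rc M N h1 h2 D', mem_similarity_iff.2 ⟨c, c.ne_zero, ?_⟩, ?_⟩
    · rw [coe_rc, transpose_mul, transpose_mul, hD']
      calc Nᵀ * (Dᵀ * Mᵀ) * (B : Matrix (Fin n) (Fin n) F) * (M * D * N)
          = Nᵀ * (Dᵀ * (Mᵀ * (B : Matrix (Fin n) (Fin n) F) * M) * D) * N := by
            simp only [Matrix.mul_assoc]
        _ = _ := by rw [h3, hD, Matrix.mul_smul, Matrix.smul_mul, ← h4]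
    · apply Units.ext
      rw [coe_det, coe_rc, det_conj_of_mul_eq_one h1 h2, hD', hdet, powMonoidHom_apply, Units.val_pow_eq_pow_val]

/-- The determinants of the similarities of a symmetric form of even dimension over a finite field of odd order. -/
theorem det_symm [Finite F] (h2 : (2 : F) ≠ 0) {n m : ℕ} (hn : 1 ≤ n) (hnm : n = 2 * m) (B : GL (Fin n) F)
    (hB : (B : Matrix (Fin n) (Fin n) F)ᵀ = B) :
    (Geo.similarityGroup (bil (B : Matrix (Fin n) (Fin n) F))).map Matrix.GeneralLinearGroup.det =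
      ((powMonoidHom n : Fˣ →* Fˣ).range).comap (powMonoidHom 2) := by
  -- an isometry of determinant `-1`
  obtain ⟨S, hS1, hS2⟩ : ∃ S : GL (Fin n) F,
      (S : Matrix (Fin n) (Fin n) F)ᵀ * B * S = B ∧ (S : Matrix (Fin n) (Fin n) F).det = -1 := by
    let d := (B : Matrix (Fin n) (Fin n) F).det
    have hd : d ≠ 0 := det_ne_zero B
    let z : Fin n := ⟨0, by omega⟩
    let a : Fin n → F := Function.update 1 z d
    have ha : ∀ i, a i ≠ 0 := by
      intro i
      by_cases hi : i = z
      · subst hi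
        simp only [a, Function.update_self]
        exact hd
      · simp only [a, Function.update_of_ne hi, Pi.one_apply]
        exact one_ne_zero
    have hprod : ∏ i, a i = d := by
      simp only [a]
      rw [Finset.prod_update_of_mem (Finset.mem_univ _)]
      simp
    obtain ⟨R, hR⟩ := exists_diag h2 B hB a ha 1 (by rw [hprod]; ring)
    let s : Fin n → F := Function.update 1 z (-1)
    have hs : ∀ i, s i * s i = 1 := by
      intro i
      by_cases hi : i = z
      · subst hi
        simp only [s, Function.update_self]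
        ring
      · simp only [s, Function.update_of_ne hi, Pi.one_apply, mul_one]
    have hsdet : (diagonal s : Matrix (Fin n) (Fin n) F).det = -1 := by
      rw [det_diagonal]
      simp only [s]
      rw [Finset.prod_update_of_mem (Finset.mem_univ _)]
      simp
    let S' : GL (Fin n) F := Matrix.GeneralLinearGroup.mkOfDetNeZero (diagonal s)
      (by rw [hsdet]; exact neg_ne_zero.2 one_ne_zero)
    have hS' : (S' : Matrix (Fin n) (Fin n) F) = diagonal s := rfl
    have hRR : (R : Matrix (Fin n) (Fin n) F) * ((R⁻¹ : GL (Fin n) F) : Matrix (Fin n) (Fin n) F) = 1 := by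
      rw [← Units.val_mul, mul_inv_cancel, Units.val_one]
    have hRR' : ((R⁻¹ : GL (Fin n) F) : Matrix (Fin n) (Fin n) F) * (R : Matrix (Fin n) (Fin n) F) = 1 := by
      rw [← Units.val_mul, inv_mul_cancel, Units.val_one]
    have hB' : (B : Matrix (Fin n) (Fin n) F) = ((R⁻¹ : GL (Fin n) F) : Matrix (Fin n) (Fin n) F)ᵀ * diagonal a *
        ((R⁻¹ : GL (Fin n) F) : Matrix (Fin n) (Fin n) F) := by
      rw [← hR]
      calc (B : Matrix (Fin n) (Fin n) F)
          = ((R : Matrix (Fin n) (Fin n) F) * ((R⁻¹ : GL (Fin n) F) : Matrix (Fin n) (Fin n) F))ᵀ * B *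
            ((R : Matrix (Fin n) (Fin n) F) * ((R⁻¹ : GL (Fin n) F) : Matrix (Fin n) (Fin n) F)) := by
            rw [hRR, transpose_one, Matrix.one_mul, Matrix.mul_one]
        _ = _ := by rw [transpose_mul]; simp only [Matrix.mul_assoc]
    refine ⟨R * S' * R⁻¹, ?_, ?_⟩
    · rw [Units.val_mul, Units.val_mul, transpose_mul, transpose_mul, hS', diagonal_transpose]
      calc ((R⁻¹ : GL (Fin n) F) : Matrix (Fin n) (Fin n) F)ᵀ * (diagonal s * (R : Matrix (Fin n) (Fin n) F)ᵀ) *
            (B : Matrix (Fin n) (Fin n) F) * ((R : Matrix (Fin n) (Fin n) F) * diagonal s *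
              ((R⁻¹ : GL (Fin n) F) : Matrix (Fin n) (Fin n) F))
          = ((R⁻¹ : GL (Fin n) F) : Matrix (Fin n) (Fin n) F)ᵀ * (diagonal s *
            ((R : Matrix (Fin n) (Fin n) F)ᵀ * (B : Matrix (Fin n) (Fin n) F) * (R : Matrix (Fin n) (Fin n) F)) *
              diagonal s) * ((R⁻¹ : GL (Fin n) F) : Matrix (Fin n) (Fin n) F) := by
            simp only [Matrix.mul_assoc]
        _ = _ := by
            rw [hR, diagonal_mul_diagonal, diagonal_mul_diagonal]
            have : (fun i => s i * a i * s i) = a := by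
              funext i
              rw [mul_right_comm, hs, one_mul]
            rw [this, ← hB']
    · rw [Units.val_mul, Units.val_mul, det_mul, det_mul, hS', hsdet]
      have := congrArg Matrix.det hRR
      rw [det_mul, det_one] at this
      linear_combination -this
  apply le_antisymm
  · rintro _ ⟨P, hP, rfl⟩
    obtain ⟨c, hc0, hc⟩ := mem_similarity_iff.1 hP
    refine ⟨Units.mk0 c hc0, ?_⟩
    apply Units.ext
    rw [powMonoidHom_apply, powMonoidHom_apply, Units.val_pow_eq_pow_val, Units.val_pow_eq_pow_val,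
      Units.val_mk0, coe_det, det_sq_of_sim hc]
  · rintro x ⟨c, hc⟩
    have hc' : (c : F) ^ n = (x : F) ^ 2 := by
      have := congrArg Units.val hc
      rwa [powMonoidHom_apply, powMonoidHom_apply, Units.val_pow_eq_pow_val, Units.val_pow_eq_pow_val] at this
    -- a similarity with multiplier `c`
    have hcB : ((c : F) • (B : Matrix (Fin n) (Fin n) F)).det ≠ 0 := by
      rw [det_smul]
      exact mul_ne_zero (pow_ne_zero _ c.ne_zero) (det_ne_zero B)
    obtain ⟨P, hP⟩ := exists_congr_of_disc h2 hn B (Matrix.GeneralLinearGroup.mkOfDetNeZero _ hcB) hB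
      (by
        change ((c : F) • (B : Matrix (Fin n) (Fin n) F))ᵀ = (c : F) • (B : Matrix (Fin n) (Fin n) F)
        rw [transpose_smul, hB])
      (by
        change IsSquare ((B : Matrix (Fin n) (Fin n) F).det * ((c : F) • (B : Matrix (Fin n) (Fin n) F)).det)
        rw [det_smul, Fintype.card_fin]
        refine ⟨(B : Matrix (Fin n) (Fin n) F).det * (c : F) ^ m, ?_⟩
        have : (c : F) ^ n = (c : F) ^ m * (c : F) ^ m := by rw [← pow_add, ← two_mul, ← hnm]
        rw [this]; ring)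
    have hP' : (P : Matrix (Fin n) (Fin n) F)ᵀ * B * P = (c : F) • (B : Matrix (Fin n) (Fin n) F) := hP.symm
    have h3 := det_sq_of_sim hP'
    rw [hc'] at h3
    have h4 : ((P : Matrix (Fin n) (Fin n) F).det - x) * ((P : Matrix (Fin n) (Fin n) F).det + x) = 0 := by
      linear_combination h3
    rcases mul_eq_zero.1 h4 with h5 | h5
    · refine ⟨P, mem_similarity_iff.2 ⟨c, c.ne_zero, hP'⟩, Units.ext ?_⟩
      rw [coe_det]
      exact sub_eq_zero.1 h5
    · refine ⟨P * S, mem_similarity_iff.2 ⟨c, c.ne_zero, ?_⟩, Units.ext ?_⟩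
      · rw [Units.val_mul, transpose_mul]
        calc (S : Matrix (Fin n) (Fin n) F)ᵀ * (P : Matrix (Fin n) (Fin n) F)ᵀ * B *
              ((P : Matrix (Fin n) (Fin n) F) * (S : Matrix (Fin n) (Fin n) F))
            = (S : Matrix (Fin n) (Fin n) F)ᵀ * ((P : Matrix (Fin n) (Fin n) F)ᵀ * B *
              (P : Matrix (Fin n) (Fin n) F)) * (S : Matrix (Fin n) (Fin n) F) := by
              simp only [Matrix.mul_assoc]
          _ = _ := by rw [hP', Matrix.mul_smul, Matrix.smul_mul, hS1]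
      · rw [coe_det, Units.val_mul, det_mul, hS2]
        linear_combination -h5

/-- Odd dimension, or characteristic two: the determinants are the `n`-th powers. -/
theorem det_pow [Finite F] {n : ℕ} (h : Odd n ∨ CharP F 2) (B : GL (Fin n) F) :
    (Geo.similarityGroup (bil (B : Matrix (Fin n) (Fin n) F))).map Matrix.GeneralLinearGroup.det =
      (powMonoidHom n : Fˣ →* Fˣ).range := by
  apply le_antisymm
  · rintro _ ⟨P, hP, rfl⟩
    obtain ⟨c, hc0, hc⟩ := mem_similarity_iff.1 hP
    have h1 := det_sq_of_sim hc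
    have hd := det_ne_zero P
    rcases h with ⟨k, hk⟩ | h
    · have hck : c ^ k ≠ 0 := pow_ne_zero _ hc0
      refine ⟨Units.mk0 ((P : Matrix (Fin n) (Fin n) F).det / c ^ k) (div_ne_zero hd hck), ?_⟩
      apply Units.ext
      rw [powMonoidHom_apply, Units.val_pow_eq_pow_val, Units.val_mk0, coe_det]
      have h2 : ((P : Matrix (Fin n) (Fin n) F).det / c ^ k) ^ 2 = c := by
        rw [div_pow, h1, div_eq_iff (pow_ne_zero _ hck), ← pow_mul, ← pow_succ']
        congr 1
        omega
      have h3 : ((P : Matrix (Fin n) (Fin n) F).det / c ^ k) ^ n =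
          (((P : Matrix (Fin n) (Fin n) F).det / c ^ k) ^ 2) ^ k * ((P : Matrix (Fin n) (Fin n) F).det / c ^ k) := by
        rw [← pow_mul, ← pow_succ]
        congr 1
      rw [h3, h2, mul_div_cancel₀ _ hck]
    · obtain ⟨r, hr⟩ := exists_sqrt c
      have hr0 : r ≠ 0 := by rintro rfl; exact hc0 (by rw [← hr]; ring)
      refine ⟨Units.mk0 r hr0, ?_⟩
      apply Units.ext
      rw [powMonoidHom_apply, Units.val_pow_eq_pow_val, Units.val_mk0, coe_det]
      apply eq_of_sq_eq
      rw [h1, ← hr, ← pow_mul, ← pow_mul, mul_comm]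
  · rintro _ ⟨c, rfl⟩
    refine ⟨Matrix.GeneralLinearGroup.scalar (Fin n) c, mem_similarity_iff.2 ⟨(c : F) * c,
      mul_ne_zero c.ne_zero c.ne_zero, ?_⟩, ?_⟩
    · have h3 : ((Matrix.GeneralLinearGroup.scalar (Fin n) c : GL (Fin n) F) : Matrix (Fin n) (Fin n) F) =
          (c : F) • 1 := by
        rw [smul_one_eq_diagonal]; rfl
      rw [h3, transpose_smul, transpose_one, Matrix.smul_mul, Matrix.one_mul, Matrix.mul_smul, Matrix.mul_one,
        smul_smul]
    · apply Units.ext
      change (Matrix.scalar (Fin n) (c : F)).det = _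
      rw [scalar_apply, det_diagonal, Finset.prod_const, Finset.card_univ, Fintype.card_fin]
      rfl

end dets

section orders

variable {F : Type*} [Field F]

/-- The order of the projective similarity group. -/
theorem card_proj [Finite F] {κ : Type} [Fintype κ] [DecidableEq κ] [Nonempty κ] {C : Matrix κ κ F}
    (hC : C ≠ 0) : ∃ d : ℕ, d ∣ Nat.card Fˣ ∧
      Nat.card (projQuot (Geo.similarityGroup (bil C))) * Nat.card Fˣ = Nat.card ↥(isoG C) * d := by
  have huniq : ∀ {c d : F}, c • C = d • C → c = d := by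
    intro c d h
    have : (c - d) • C = 0 := by rw [sub_smul, h, sub_self]
    exact sub_eq_zero.1 ((smul_eq_zero.1 this).resolve_right hC)
  choose μ hμ0 hμ using fun P : ↥(Geo.similarityGroup (bil C)) => mem_similarity_iff.1 P.2
  let f : ↥(Geo.similarityGroup (bil C)) →* Fˣ :=
    { toFun := fun P => Units.mk0 (μ P) (hμ0 P)
      map_one' := by
        apply Units.ext
        rw [Units.val_mk0, Units.val_one]
        apply huniq
        rw [← hμ 1, one_smul]
        change ((1 : GL κ F) : Matrix κ κ F)ᵀ * C * ((1 : GL κ F) : Matrix κ κ F) = C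
        rw [Units.val_one, transpose_one, Matrix.one_mul, Matrix.mul_one]
      map_mul' := fun P Q => by
        apply Units.ext
        rw [Units.val_mul, Units.val_mk0, Units.val_mk0, Units.val_mk0]
        apply huniq
        rw [← hμ (P * Q)]
        change ((P.1 * Q.1 : GL κ F) : Matrix κ κ F)ᵀ * C * ((P.1 * Q.1 : GL κ F) : Matrix κ κ F) = _
        rw [Units.val_mul, transpose_mul]
        calc (Q.1 : Matrix κ κ F)ᵀ * (P.1 : Matrix κ κ F)ᵀ * C * ((P.1 : Matrix κ κ F) * (Q.1 : Matrix κ κ F))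
            = (Q.1 : Matrix κ κ F)ᵀ * ((P.1 : Matrix κ κ F)ᵀ * C * (P.1 : Matrix κ κ F)) * (Q.1 : Matrix κ κ F) := by
              simp only [Matrix.mul_assoc]
          _ = _ := by
              rw [hμ P, Matrix.mul_smul, Matrix.smul_mul, hμ Q, smul_smul] }
  have hle : isoG C ≤ Geo.similarityGroup (bil C) := fun P hP =>
    mem_similarity_iff.2 ⟨1, one_ne_zero, by rw [one_smul]; exact hP⟩
  have hker : f.ker = (isoG C).subgroupOf (Geo.similarityGroup (bil C)) := by
    ext P
    rw [MonoidHom.mem_ker, Subgroup.mem_subgroupOf, mem_isoG]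
    have h1 : f P = 1 ↔ μ P = 1 := by
      rw [← Units.val_inj]
      rfl
    rw [h1]
    constructor
    · intro h
      rw [hμ P, h, one_smul]
    · intro h
      apply huniq
      rw [← hμ P, h, one_smul]
  have h1 : Nat.card ↥(Geo.similarityGroup (bil C)) = Nat.card ↥(isoG C) * Nat.card f.range := by
    rw [← Subgroup.card_mul_index f.ker, Subgroup.index_ker, hker,
      Nat.card_congr (Subgroup.subgroupOfEquivOfLe hle).toEquiv]
  refine ⟨Nat.card f.range, Subgroup.card_subgroup_dvd_card _, ?_⟩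
  rw [← h1, Subgroup.card_eq_card_quotient_mul_card_subgroup
    ((Geo.scalars κ F).subgroupOf (Geo.similarityGroup (bil C)))]
  congr 1
  have hsc : Geo.scalars κ F ≤ Geo.similarityGroup (bil C) := by
    intro P hP
    obtain ⟨c, hc⟩ := (Geo.mem_scalars_iff P).1 hP
    refine mem_similarity_iff.2 ⟨(c : F) * c, mul_ne_zero c.ne_zero c.ne_zero, ?_⟩
    rw [hc, transpose_smul, transpose_one, Matrix.smul_mul, Matrix.one_mul, Matrix.mul_smul, Matrix.mul_one,
      smul_smul]
  rw [Nat.card_congr (Subgroup.subgroupOfEquivOfLe hsc).toEquiv, Geo.scalars]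
  have hinj : Function.Injective (Units.map (Matrix.scalar κ : F →+* Matrix κ κ F).toMonoidHom) := by
    intro a b hab
    apply Units.ext
    have h2 := congrArg (fun g : GL κ F => (g : Matrix κ κ F) (Classical.arbitrary κ) (Classical.arbitrary κ)) hab
    simpa using h2
  exact (Nat.card_congr (MonoidHom.ofInjective hinj).toEquiv).symm.symm

theorem isoG_eq (h2 : (2 : F) ≠ 0) {κ : Type} [Fintype κ] [DecidableEq κ] {B : Matrix κ κ F}
    (hB : Bᵀ = B) {Q : (κ → F) → F} (hQ : ∀ v, bil B v v = 2 * Q v) :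
    isoG B = isometryGroup F Q := by
  ext g
  constructor
  · intro h u _
    change Q ((g : Matrix κ κ F) *ᵥ u) = Q u
    apply mul_left_cancel₀ h2
    rw [← hQ, ← hQ, bil_mulVec, mem_isoG.1 h]
  · intro h
    have h' : ∀ u, Q ((g : Matrix κ κ F) *ᵥ u) = Q u := fun u => h u u
    rw [mem_isoG]
    apply bil_ext
    intro u v
    rw [← bil_mulVec]
    have h1 := bil_polar hB ((g : Matrix κ κ F) *ᵥ u) ((g : Matrix κ κ F) *ᵥ v)
    rw [← mulVec_add, hQ, hQ, hQ, h', h', h'] at h1
    have h3 := bil_polar hB u v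
    rw [hQ, hQ, hQ] at h3
    apply mul_left_cancel₀ h2
    linear_combination -h1 + h3

theorem cop {q k : ℕ} (hk : 1 ≤ k) (hq : 1 ≤ q) : Nat.Coprime q (q ^ k - 1) := by
  have h1 : Nat.Coprime (q ^ k) (q ^ k - 1) := by
    obtain ⟨t, ht⟩ : ∃ t, q ^ k = t + 1 := ⟨q ^ k - 1, (Nat.sub_add_cancel (Nat.one_le_pow _ _ hq)).symm⟩
    rw [ht, Nat.add_sub_cancel]
    simp
  exact Nat.Coprime.coprime_dvd_left (dvd_pow_self q (by omega)) h1

theorem cop' {q k : ℕ} (hk : 1 ≤ k) : Nat.Coprime q (q ^ k + 1) := by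
  have h1 : Nat.Coprime (q ^ k) (q ^ k + 1) := by simp
  exact Nat.Coprime.coprime_dvd_left (dvd_pow_self q (by omega)) h1

/-- The arithmetic: two groups with the given orders are not isomorphic. -/
theorem order_clash {q m N d d' S R : ℕ} (hq : 1 < q) (hm : 1 ≤ m)
    (hd' : d' ∣ q - 1) (hR : Nat.Coprime q R)
    (h1 : N * (q - 1) = q ^ (m ^ 2) * S * d) (h2 : N * (q - 1) = q ^ (m * (m - 1)) * R * d') : False := by
  have hpos : 0 < q ^ (m * (m - 1)) := Nat.pos_of_ne_zero (pow_ne_zero _ (by omega))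
  have hsq : m ^ 2 = m * (m - 1) + m := by
    obtain ⟨k, rfl⟩ : ∃ k, m = k + 1 := ⟨m - 1, by omega⟩
    rw [Nat.add_sub_cancel]; ring
  have h3 : q ^ m * (S * d) = R * d' := by
    apply Nat.eq_of_mul_eq_mul_left hpos
    rw [← mul_assoc, ← pow_add, ← hsq, ← mul_assoc, ← mul_assoc, ← h1, h2]
  have hcd : Nat.Coprime q d' := by
    have := cop (q := q) (k := 1) le_rfl (by omega)
    rw [pow_one] at this
    exact Nat.Coprime.coprime_dvd_right hd' this
  have h4 : Nat.Coprime q (R * d') := Nat.Coprime.mul_right hR hcd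
  have h5 : q ∣ R * d' := by
    rw [← h3]
    exact Dvd.dvd.mul_right (dvd_pow_self q (by omega)) _
  have h6 := Nat.Coprime.eq_one_of_dvd h4 h5
  omega

variable [Fintype F]

theorem card_units_eq : Nat.card Fˣ = Fintype.card F - 1 := by
  rw [Nat.card_units, Nat.card_eq_fintype_card]

theorem prod_cop {q k : ℕ} (hq : 1 ≤ q) : Nat.Coprime q (∏ i ∈ Finset.range k, (q ^ (2 * (i + 1)) - 1)) :=
  Nat.Coprime.prod_right fun i _ => cop (by omega) hq

theorem not_iso_plus (hodd : Odd (Fintype.card F)) {m : ℕ} (hm : 1 ≤ m) :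
    ¬ Nonempty (PGSp m F ≃* PGO F (quadFormPlus m F)) := by
  rintro ⟨e⟩
  have h2 := two_ne_zero_of_odd hodd
  have hq : 1 < Fintype.card F := Fintype.one_lt_card
  have hne : Nonempty (Fin m ⊕ Fin m) := ⟨Sum.inl ⟨0, by omega⟩⟩
  have hJ : (J (Fin m) F) ≠ 0 := by
    intro h
    have := (isUnit_det_J (Fin m) F).ne_zero
    rw [h, det_zero] at this
    exact this rfl
  have hP : (gramPlus m F) ≠ 0 := by
    intro h
    have := det_gramPlus_ne_zero (F := F) m
    rw [h, det_zero] at this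
    exact this rfl
  obtain ⟨d, hd, h3⟩ := card_proj hJ
  obtain ⟨d', hd', h4⟩ := card_proj hP
  rw [sim_eq_quad h2 (gramPlus_transpose m) (bil_gramPlus m), isoG_eq h2 (gramPlus_transpose m) (bil_gramPlus m),
    Cfsg.Agent.S0287.result rfl m hm, ← Nat.card_congr e.toEquiv] at h4
  rw [Nat.card_congr (isoJ (m := m) (F := F)).toEquiv, Cfsg.Agent.S0245.result rfl m] at h3
  rw [card_units_eq] at hd hd' h3 h4
  refine order_clash (N := Nat.card (PGSp m F)) (R := 2 * (Fintype.card F ^ m - 1) *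
    ∏ i ∈ Finset.range (m - 1), (Fintype.card F ^ (2 * (i + 1)) - 1)) hq hm hd' ?_ h3 ?_
  · exact Nat.Coprime.mul_right (Nat.Coprime.mul_right hodd.coprime_two_right (cop hm hq.le)) (prod_cop hq.le)
  · rw [h4]; ring

theorem not_iso_minus (hodd : Odd (Fintype.card F)) {k : ℕ} {a b : F}
    (hab : ∀ z₁ z₂ : F, z₁ ^ 2 + a * z₁ * z₂ + b * z₂ ^ 2 = 0 → z₁ = 0 ∧ z₂ = 0) :
    ¬ Nonempty (PGSp (k + 1) F ≃* PGO F (quadFormMinus k F a b)) := by
  rintro ⟨e⟩
  have h2 := two_ne_zero_of_odd hodd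
  have hq : 1 < Fintype.card F := Fintype.one_lt_card
  have hne : Nonempty (Fin (k + 1) ⊕ Fin (k + 1)) := ⟨Sum.inl ⟨0, by omega⟩⟩
  have hJ : (J (Fin (k + 1)) F) ≠ 0 := by
    intro h
    have := (isUnit_det_J (Fin (k + 1)) F).ne_zero
    rw [h, det_zero] at this
    exact this rfl
  have hP : (gramMinus k F a b) ≠ 0 := by
    intro h
    have := det_gramMinus_ne_zero (F := F) h2 k hab
    rw [h, det_zero] at this
    exact this rfl
  obtain ⟨d, hd, h3⟩ := card_proj hJ
  obtain ⟨d', hd', h4⟩ := card_proj hP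
  have h5 : Nat.card (isometryGroup F (quadFormMinus k F a b)) = 2 * Fintype.card F ^ ((k + 1) * k) *
      (Fintype.card F ^ (k + 1) + 1) * ∏ i ∈ Finset.range k, (Fintype.card F ^ (2 * (i + 1)) - 1) :=
    Cfsg.Agent.S0288.result (F := F) rfl (k + 1) (by omega) a b hab
  rw [sim_eq_quad h2 (gramMinus_transpose k a b) (bil_gramMinus k a b),
    isoG_eq h2 (gramMinus_transpose k a b) (bil_gramMinus k a b), h5, ← Nat.card_congr e.toEquiv] at h4
  rw [Nat.card_congr (isoJ (m := k + 1) (F := F)).toEquiv, Cfsg.Agent.S0245.result rfl (k + 1)] at h3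
  rw [card_units_eq] at hd hd' h3 h4
  refine order_clash (m := k + 1) (N := Nat.card (PGSp (k + 1) F)) (R := 2 * (Fintype.card F ^ (k + 1) + 1) *
    ∏ i ∈ Finset.range k, (Fintype.card F ^ (2 * (i + 1)) - 1)) hq (by omega) hd' ?_ h3 ?_
  · exact Nat.Coprime.mul_right (Nat.Coprime.mul_right hodd.coprime_two_right (cop' (by omega)))
      (prod_cop hq.le)
  · rw [h4, Nat.add_sub_cancel]; ring

/-- For `q` odd and `n` even a symmetric `B` does not give a symplectic centralizer. -/
theorem not_PGSp_of_symm (hodd : Odd (Fintype.card F)) {n k : ℕ} (hnk : n = 2 * (k + 1)) (B : GL (Fin n) F)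
    (hB : (B : Matrix (Fin n) (Fin n) F)ᵀ = B) :
    ¬ Nonempty (↥(inndiagPSL n F ⊓ Subgroup.centralizer {gam B}) ≃* PGSp (k + 1) F) := by
  rintro ⟨e0⟩
  have h2 := two_ne_zero_of_odd hodd
  obtain ⟨ν, hν⟩ := exists_not_isSquare h2
  have hab := aniso_of_not_isSquare hν
  have hn2 : 2 ≤ n := by omega
  have e : Fin n ≃ Fin (k + 1) ⊕ Fin (k + 1) := Fintype.equivOfCardEq (by simp; omega)
  have e' : Fin n ≃ (Fin k ⊕ Fin k) ⊕ Fin 2 := Fintype.equivOfCardEq (by simp; omega)
  rcases symm_dichotomy h2 hn2 hab e e' B hB with ⟨-, h⟩ | ⟨-, h⟩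
  · obtain ⟨e1⟩ := cent_congr (isConj_of_congr hn2 h)
    obtain ⟨e2⟩ := cent_plus h2 hn2 e (det_gramPlus_ne_zero (F := F) (k + 1))
    exact not_iso_plus hodd (by omega) ⟨(e0.symm.trans e1.symm).trans e2⟩
  · obtain ⟨e1⟩ := cent_congr (isConj_of_congr hn2 h)
    obtain ⟨e2⟩ := cent_minus h2 0 (-ν) hn2 e' (det_gramMinus_ne_zero h2 k hab)
    exact not_iso_minus hodd hab ⟨(e0.symm.trans e1.symm).trans e2⟩

end orders

section index

variable {F : Type*} [Field F] [Fintype F]

theorem index_pow (d : ℕ) : ((powMonoidHom d : Fˣ →* Fˣ).range).index = Nat.gcd d (Fintype.card F - 1) := by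
  rw [IsCyclic.index_powMonoidHom_range, card_units_eq, Nat.gcd_comm]

theorem index_comap (hodd : Odd (Fintype.card F)) {n m : ℕ} (hnm : n = 2 * m) :
    (((powMonoidHom n : Fˣ →* Fˣ).range).comap (powMonoidHom 2)).index =
      Nat.gcd n (Fintype.card F - 1) / 2 := by
  rw [Subgroup.index_comap]
  have hle : (powMonoidHom n : Fˣ →* Fˣ).range ≤ (powMonoidHom 2 : Fˣ →* Fˣ).range := by
    rintro _ ⟨c, rfl⟩
    exact ⟨c ^ m, by rw [powMonoidHom_apply, powMonoidHom_apply, ← pow_mul, hnm, mul_comm]⟩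
  have h1 := Subgroup.relIndex_mul_index hle
  rw [index_pow, index_pow] at h1
  have h3 : Nat.gcd 2 (Fintype.card F - 1) = 2 := by
    obtain ⟨r, hr⟩ := hodd
    rw [hr, Nat.add_sub_cancel]
    exact Nat.gcd_eq_left ⟨r, rfl⟩
  rw [h3] at h1
  omega

end index

end Cfsg.Agent.H999.PslGraphSplit
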