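import Cfsg.Agent.H999.ONIMThree
import Cfsg.Agent.H680.ONThirtyOne
import Cfsg.Agent.H866.VanON
import Cfsg.Agent.H547.SelfCent.Base
import Cfsg.Agent.H690.Spor.ONRow
import Cfsg.Agent.H805.NilSp

/-!
# The O'Nan group: the centralizers of the elements of order 3 and 5 (helper999)

* `isConj_three`, `card_cent_three` : one class of elements of order 3, with centralizers of order 3240;
* `card_cent_five` : the elements of order 5 have centralizers of order 180.
-/

set_option autoImplicit false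
set_option maxRecDepth 100000

namespace Cfsg.Agent.H999.ONFiveCent

open Subgroup Cfsg
open Cfsg.Spor (ON)
open Cfsg.Agent.SporadicB.ON45Word (on)
open Cfsg.Agent.KFacts.ON.Words (hs vv v va vb vd)
open Cfsg.Agent.KFacts.ON.Struct
open Cfsg.Agent.KFacts.ON.Cent (hON finite_ON cen card_K0)
open Cfsg.Agent.KFacts.MulSpor.ON (w w_append w_one w_cons w_iw iw)
open Cfsg.Agent.ONType.TupK (K0)
open Cfsg.Agent.R04.ThreeAbs Cfsg.Agent.R04.ONThree
open Cfsg.Agent.H999.ONThreeHyp
open Cfsg.Agent.ONType.OddCent (XX LL)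
open Cfsg.Agent.H999.ONIMThree (card_ON)

/-! ### One class of elements of order 3 -/

theorem step_p (i j : ℕ) : IsConj (xx i j) (xx (2 * j) i) := by
  rw [isConj_iff]
  refine ⟨p, ?_⟩
  have h : p * xx i j * p⁻¹ = (p * (on .a * on .b) * p⁻¹) ^ i *
      (p * (p * (on .a * on .b) * p⁻¹) * p⁻¹) ^ j := by
    rw [conj_pow, conj_pow, xx_eq]; group
  rw [h, D0.px2, ← pow_mul]
  have h2 : xx 0 i * xx (2 * j) 0 = xx (2 * j) i := by rw [xx_mul, zero_add, add_zero]
  rw [← h2, xx_eq, xx_eq, pow_zero, pow_zero, one_mul, mul_one]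

theorem step_c : IsConj (xx 1 0) (xx 1 1) := by
  rw [isConj_iff]
  refine ⟨w [.c, .g, .c], ?_⟩
  have h : w [.c, .g, .c] * w [.a, .b] * (w [.c, .g, .c])⁻¹ =
      w ([.a, .b] ++ [.f, .c, .g, .c, .g, .a, .b, .g, .g, .g, .c, .g, .g, .g, .c, .f]) :=
    Cfsg.Agent.KFacts.ON.Words.conj _ _ _ (by decide +kernel)
  rw [w_append, ← x2_word] at h
  rw [xx_eq, xx_eq, pow_one, pow_zero, mul_one, pow_one]
  have h2 : w [.a, .b] = on .a * on .b := by simp [w]
  rw [h2] at h
  exact h

theorem conj_all : ∀ i < 3, ∀ j < 3, (i ≠ 0 ∨ j ≠ 0) → IsConj (xx 1 0) (xx i j) := by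
  have c10 : IsConj (xx 1 0) (xx 1 0) := IsConj.refl _
  have c01 : IsConj (xx 1 0) (xx 0 1) := by
    have := step_p 1 0
    rwa [mul_zero] at this
  have c20 : IsConj (xx 1 0) (xx 2 0) := by
    have := step_p 0 1
    rw [mul_one] at this
    exact c01.trans this
  have c02 : IsConj (xx 1 0) (xx 0 2) := by
    have := step_p 2 0
    rw [mul_zero] at this
    exact c20.trans this
  have c11 : IsConj (xx 1 0) (xx 1 1) := step_c
  have c21 : IsConj (xx 1 0) (xx 2 1) := by
    have := step_p 1 1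
    rw [mul_one] at this
    exact c11.trans this
  have c22 : IsConj (xx 1 0) (xx 2 2) := by
    have := step_p 2 1
    rw [mul_one] at this
    exact c21.trans this
  have c12 : IsConj (xx 1 0) (xx 1 2) := by
    have := step_p 2 2
    rw [xx_mod (2 * 2) 2] at this
    exact c22.trans this
  intro i hi j hj h
  interval_cases i <;> interval_cases j
  · simp at h
  all_goals assumption

theorem conj_P {x : ON} (hx : x ∈ P) (hx1 : x ≠ 1) : IsConj (xx 1 0) x := by
  obtain ⟨i, j, rfl⟩ := hx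
  have e := xx_mod i j
  rw [e] at hx1 ⊢
  refine conj_all _ (Nat.mod_lt _ (by norm_num)) _ (Nat.mod_lt _ (by norm_num)) ?_
  by_contra hcon
  push Not at hcon
  apply hx1
  rw [hcon.1, hcon.2]
  simp [xx, el]

/-- an element of order 3 is conjugate into `P` -/
theorem exists_mem {x : ON} (hx : orderOf x = 3) : ∃ g : ON, g * x * g⁻¹ ∈ P ∧ g * x * g⁻¹ ≠ 1 := by
  have := finite_ON
  obtain ⟨s, hs2, hsx⟩ := Cfsg.Agent.R04.ONThree.exists_inv hON x hx
  obtain ⟨g, hg⟩ := hyp.exists_conj_P hx hs2 hsx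
  refine ⟨g, hg, fun h => ?_⟩
  have h1 : x = 1 := by
    have : x = g⁻¹ * (g * x * g⁻¹) * g := by group
    rw [this, h]; group
  rw [h1, orderOf_one] at hx
  omega

/-- **one class of elements of order 3** -/
theorem isConj_three {x y : ON} (hx : orderOf x = 3) (hy : orderOf y = 3) : IsConj x y := by
  have key : ∀ z : ON, orderOf z = 3 → IsConj (xx 1 0) z := by
    intro z hz
    obtain ⟨g, hg, hg1⟩ := exists_mem hz
    exact (conj_P hg hg1).trans (isConj_iff.2 ⟨g, rfl⟩).symm
  exact (key x hx).symm.trans (key y hy)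

/-- **the centralizers of the elements of order 3** -/
theorem card_cent_three {x : ON} (hx : orderOf x = 3) : Nat.card ↥(centralizer ({x} : Set ON)) = 3240 := by
  obtain ⟨g, hg, hg1⟩ := exists_mem hx
  rw [← Cfsg.Agent.H690.Spor.ONRow.centralizer_conj g x]
  exact Cfsg.Agent.H999.ONIMThree.card_cent hg hg1

/-! ### Elements of order 5 in groups of order 360 -/

theorem perm_six {σ τ : Equiv.Perm (Fin 6)} (hσ : orderOf σ = 5) (h : τ * σ = σ * τ) : τ ^ 5 = 1 := by
  obtain ⟨n, hn⟩ := Equiv.Perm.cycleType_prime_order (σ := σ) (by rw [hσ]; norm_num)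
  have h1 : σ.cycleType.sum ≤ 6 := by
    rw [Equiv.Perm.sum_cycleType]
    exact (Finset.card_le_univ _).trans (by simp)
  rw [hσ] at hn
  have hn0 : n = 0 := by
    rw [hn, Multiset.sum_replicate, smul_eq_mul] at h1
    omega
  rw [hn0] at hn
  have hc : Nat.card ↥(centralizer ({σ} : Set (Equiv.Perm (Fin 6)))) = 5 := by
    rw [Equiv.Perm.nat_card_centralizer, hn]
    decide
  have h2 : (⟨τ, mem_centralizer_singleton_iff.2 h⟩ : centralizer ({σ} : Set (Equiv.Perm (Fin 6)))) ^ 5 = 1 := by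
    rw [← hc]
    exact pow_card_eq_one'
  exact congrArg Subtype.val h2

theorem pow_five {H : Type*} [Group H] [Finite H] [IsSimpleGroup H] (h : Nat.card H = 360) {x y : H}
    (hx : orderOf x = 5) (hy : y * x = x * y) : y ^ 5 = 1 := by
  obtain ⟨e⟩ := Cfsg.Agent.Classification.Order360Iso.nonempty_mulEquiv_alternating (G := H) h
  have h1 : orderOf ((e x : alternatingGroup (Fin 6)) : Equiv.Perm (Fin 6)) = 5 := by
    rw [Subgroup.orderOf_coe, MulEquiv.orderOf_eq, hx]
  have h2 : ((e y : alternatingGroup (Fin 6)) : Equiv.Perm (Fin 6)) * (e x : alternatingGroup (Fin 6)) =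
      (e x : alternatingGroup (Fin 6)) * (e y : alternatingGroup (Fin 6)) := by
    rw [← Subgroup.coe_mul, ← Subgroup.coe_mul, ← map_mul, ← map_mul, hy]
  have h3 := perm_six h1 h2
  apply e.injective
  apply Subtype.ext
  rw [map_pow, Subgroup.coe_pow, h3, map_one]
  rfl

/-! ### The centralizers of the elements of order 5 -/

/-- the 2-part -/
theorem not_eight {x : ON} (hx : orderOf x = 5) : ¬ 8 ∣ Nat.card ↥(centralizer ({x} : Set ON)) := by
  intro h8
  have hfin := finite_ON
  have f2 : Fact (Nat.Prime 2) := ⟨Nat.prime_two⟩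
  obtain ⟨S⟩ : Nonempty (Sylow 2 ↥(centralizer ({x} : Set ON))) := inferInstance
  have hS8 : 2 ^ 3 ∣ Nat.card (S : Subgroup ↥(centralizer ({x} : Set ON))) :=
    S.pow_dvd_card_of_pow_dvd_card h8
  have hnt : Nontrivial (S : Subgroup ↥(centralizer ({x} : Set ON))) := by
    rw [← Finite.one_lt_card_iff_nontrivial]
    exact lt_of_lt_of_le (by norm_num) (Nat.le_of_dvd Nat.card_pos hS8)
  have hZ := S.isPGroup'.center_nontrivial
  have hZp := S.isPGroup'.to_subgroup (center (S : Subgroup ↥(centralizer ({x} : Set ON))))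
  have h2Z : 2 ∣ Nat.card (center (S : Subgroup ↥(centralizer ({x} : Set ON)))) := by
    obtain ⟨n, hn⟩ := IsPGroup.iff_card.1 hZp
    rw [hn]
    refine dvd_pow_self 2 ?_
    rintro rfl
    rw [pow_zero] at hn
    have := Finite.one_lt_card_iff_nontrivial.2 hZ
    omega
  obtain ⟨z, hz⟩ := exists_prime_orderOf_dvd_card' 2 h2Z
  obtain ⟨t, ht⟩ : ∃ t : ON, t = (((z : (S : Subgroup ↥(centralizer ({x} : Set ON)))) :
      ↥(centralizer ({x} : Set ON))) : ON) := ⟨_, rfl⟩
  have hto : orderOf t = 2 := by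
    rw [ht, Subgroup.orderOf_coe, Subgroup.orderOf_coe, Subgroup.orderOf_coe, hz]
  have htx : t * x = x * t := by
    rw [ht]
    exact mem_centralizer_singleton_iff.1 ((z : (S : Subgroup ↥(centralizer ({x} : Set ON)))) :
      ↥(centralizer ({x} : Set ON))).2
  have htS : ∀ s : (S : Subgroup ↥(centralizer ({x} : Set ON))),
      ((s : ↥(centralizer ({x} : Set ON))) : ON) * t = t * ((s : ↥(centralizer ({x} : Set ON))) : ON) := by
    intro s
    rw [ht]
    have h1 := mem_center_iff.1 z.2 s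
    have h2 := congrArg (fun y : (S : Subgroup ↥(centralizer ({x} : Set ON))) =>
      ((y : ↥(centralizer ({x} : Set ON))) : ON)) h1
    exact h2
  have ht1 : t * t = 1 := by rw [← pow_two, ← hto, pow_orderOf_eq_one]
  have ht2 : t ≠ 1 := by
    intro h
    rw [h, orderOf_one] at hto
    omega
  obtain ⟨g, hg⟩ := isConj_iff.1 (Cfsg.Agent.KFacts.ON.OneClass.one_class ht1 ht2)
  have cj : ∀ {a b : ON}, a * b = b * a → (g * a * g⁻¹) * (g * b * g⁻¹) = (g * b * g⁻¹) * (g * a * g⁻¹) := by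
    intro a b hab
    calc (g * a * g⁻¹) * (g * b * g⁻¹) = g * (a * b) * g⁻¹ := by group
      _ = g * (b * a) * g⁻¹ := by rw [hab]
      _ = (g * b * g⁻¹) * (g * a * g⁻¹) := by group
  have hxK : g * x * g⁻¹ ∈ K0 := by
    rw [mem_K0, ← hg]
    exact cj htx.symm
  have h20 := Cfsg.Agent.H866.ONFive.card_five (x := ⟨g * x * g⁻¹, hxK⟩) (by
    rw [Subgroup.orderOf_mk, ← hx]
    exact MulEquiv.orderOf_eq (MulAut.conj g) x)
  let φ : (S : Subgroup ↥(centralizer ({x} : Set ON))) →*
      ↥(centralizer ({(⟨g * x * g⁻¹, hxK⟩ : K0)} : Set K0)) :=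
    { toFun := fun s => ⟨⟨g * ((s : ↥(centralizer ({x} : Set ON))) : ON) * g⁻¹, by
        rw [mem_K0, ← hg]
        exact cj (htS s)⟩, by
        rw [mem_centralizer_singleton_iff]
        apply Subtype.ext
        exact cj (mem_centralizer_singleton_iff.1 (s : ↥(centralizer ({x} : Set ON))).2)⟩
      map_one' := by
        apply Subtype.ext
        apply Subtype.ext
        change g * (1 : ON) * g⁻¹ = 1
        group
      map_mul' := fun a b => by
        apply Subtype.ext
        apply Subtype.ext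
        change g * (((a : ↥(centralizer ({x} : Set ON))) : ON) * ((b : ↥(centralizer ({x} : Set ON))) : ON)) * g⁻¹ =
          (g * ((a : ↥(centralizer ({x} : Set ON))) : ON) * g⁻¹) * (g * ((b : ↥(centralizer ({x} : Set ON))) : ON) * g⁻¹)
        group }
  have hφ : Function.Injective φ := by
    intro a b hab
    have h1 : g * ((a : ↥(centralizer ({x} : Set ON))) : ON) * g⁻¹ =
        g * ((b : ↥(centralizer ({x} : Set ON))) : ON) * g⁻¹ :=
      congrArg (fun y : ↥(centralizer ({(⟨g * x * g⁻¹, hxK⟩ : K0)} : Set K0)) => ((y : K0) : ON)) hab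
    have h2 := mul_left_cancel (mul_right_cancel h1)
    exact Subtype.ext (Subtype.ext h2)
  have h3 := Subgroup.card_dvd_of_injective φ hφ
  rw [h20] at h3
  have h4 := hS8.trans h3
  revert h4
  norm_num

/-- the 3-part -/
theorem not_27 {x : ON} (hx : orderOf x = 5) : ¬ 27 ∣ Nat.card ↥(centralizer ({x} : Set ON)) := by
  intro h8
  have hfin := finite_ON
  have f3 : Fact (Nat.Prime 3) := ⟨Nat.prime_three⟩
  obtain ⟨S⟩ : Nonempty (Sylow 3 ↥(centralizer ({x} : Set ON))) := inferInstance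
  have hS8 : 3 ^ 3 ∣ Nat.card (S : Subgroup ↥(centralizer ({x} : Set ON))) :=
    S.pow_dvd_card_of_pow_dvd_card h8
  have hnt : Nontrivial (S : Subgroup ↥(centralizer ({x} : Set ON))) := by
    rw [← Finite.one_lt_card_iff_nontrivial]
    exact lt_of_lt_of_le (by norm_num) (Nat.le_of_dvd Nat.card_pos hS8)
  have hZ := S.isPGroup'.center_nontrivial
  have hZp := S.isPGroup'.to_subgroup (center (S : Subgroup ↥(centralizer ({x} : Set ON))))
  have h2Z : 3 ∣ Nat.card (center (S : Subgroup ↥(centralizer ({x} : Set ON)))) := by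
    obtain ⟨n, hn⟩ := IsPGroup.iff_card.1 hZp
    rw [hn]
    refine dvd_pow_self 3 ?_
    rintro rfl
    rw [pow_zero] at hn
    have := Finite.one_lt_card_iff_nontrivial.2 hZ
    omega
  obtain ⟨z, hz⟩ := exists_prime_orderOf_dvd_card' 3 h2Z
  obtain ⟨t, ht⟩ : ∃ t : ON, t = (((z : (S : Subgroup ↥(centralizer ({x} : Set ON)))) :
      ↥(centralizer ({x} : Set ON))) : ON) := ⟨_, rfl⟩
  have hto : orderOf t = 3 := by
    rw [ht, Subgroup.orderOf_coe, Subgroup.orderOf_coe, Subgroup.orderOf_coe, hz]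
  have htx : t * x = x * t := by
    rw [ht]
    exact mem_centralizer_singleton_iff.1 ((z : (S : Subgroup ↥(centralizer ({x} : Set ON)))) :
      ↥(centralizer ({x} : Set ON))).2
  have htS : ∀ s : (S : Subgroup ↥(centralizer ({x} : Set ON))),
      ((s : ↥(centralizer ({x} : Set ON))) : ON) * t = t * ((s : ↥(centralizer ({x} : Set ON))) : ON) := by
    intro s
    rw [ht]
    have h1 := mem_center_iff.1 z.2 s
    have h2 := congrArg (fun y : (S : Subgroup ↥(centralizer ({x} : Set ON))) =>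
      ((y : ↥(centralizer ({x} : Set ON))) : ON)) h1
    exact h2
  obtain ⟨g, hg, hg1⟩ := exists_mem hto
  have cj : ∀ {a b : ON}, a * b = b * a → (g * a * g⁻¹) * (g * b * g⁻¹) = (g * b * g⁻¹) * (g * a * g⁻¹) := by
    intro a b hab
    calc (g * a * g⁻¹) * (g * b * g⁻¹) = g * (a * b) * g⁻¹ := by group
      _ = g * (b * a) * g⁻¹ := by rw [hab]
      _ = (g * b * g⁻¹) * (g * a * g⁻¹) := by group
  have hC : ∀ a : ON, a * t = t * a → g * a * g⁻¹ ∈ XX P := by
    intro a ha
    have h1 : g * a * g⁻¹ ∈ centralizer ({g * t * g⁻¹} : Set ON) := mem_centralizer_singleton_iff.2 (cj ha)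
    rw [hyp.centralizer_eq hg hg1, hyp.sup_LL] at h1
    exact h1
  have hn : (P.subgroupOf (XX P)).Normal := hyp.normal
  obtain ⟨e, -⟩ := hyp.exists_equiv
  have hs := hyp.simple_LL
  have e1 : LL P ≃* commutator (XX P) :=
    ((commutator (XX P)).equivMapOfInjective _ (XX P).subtype_injective).symm
  have hH : IsSimpleGroup (XX P ⧸ P.subgroupOf (XX P)) := (e1.trans e).symm.isSimpleGroup
  have hH360 : Nat.card (XX P ⧸ P.subgroupOf (XX P)) = 360 := by
    rw [← Nat.card_congr (e1.trans e).toEquiv]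
    exact hyp.card_LL
  -- the image of `x` has order 5
  have hxo : orderOf (g * x * g⁻¹) = 5 := by
    rw [← hx]
    exact MulEquiv.orderOf_eq (MulAut.conj g) x
  have hX5 : orderOf (QuotientGroup.mk (⟨g * x * g⁻¹, hC x htx.symm⟩ : XX P) : XX P ⧸ P.subgroupOf (XX P)) = 5 := by
    have f5 : Fact (Nat.Prime 5) := ⟨Nat.prime_five⟩
    refine orderOf_eq_prime ?_ ?_
    · rw [← QuotientGroup.mk_pow, QuotientGroup.eq_one_iff]
      have h1 : (⟨g * x * g⁻¹, hC x htx.symm⟩ : XX P) ^ 5 = 1 := by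
        apply Subtype.ext
        change (g * x * g⁻¹) ^ 5 = 1
        rw [← hxo, pow_orderOf_eq_one]
      rw [h1]
      exact one_mem _
    · intro h
      rw [QuotientGroup.eq_one_iff, mem_subgroupOf] at h
      have h1 : (g * x * g⁻¹) ^ 3 = 1 := pow_three h
      have h2 := orderOf_dvd_of_pow_eq_one h1
      rw [hxo] at h2
      omega
  let φ : (S : Subgroup ↥(centralizer ({x} : Set ON))) →* P :=
    { toFun := fun s => ⟨g * ((s : ↥(centralizer ({x} : Set ON))) : ON) * g⁻¹, by
        have h1 := hC _ (htS s)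
        have h2 : (QuotientGroup.mk (⟨_, h1⟩ : XX P) : XX P ⧸ P.subgroupOf (XX P)) *
            QuotientGroup.mk (⟨g * x * g⁻¹, hC x htx.symm⟩ : XX P) =
            QuotientGroup.mk (⟨g * x * g⁻¹, hC x htx.symm⟩ : XX P) * QuotientGroup.mk (⟨_, h1⟩ : XX P) := by
          rw [← QuotientGroup.mk_mul, ← QuotientGroup.mk_mul]
          congr 1
          apply Subtype.ext
          exact cj (mem_centralizer_singleton_iff.1 (s : ↥(centralizer ({x} : Set ON))).2)
        have h3 := pow_five hH360 hX5 h2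
        obtain ⟨n, hn⟩ := S.isPGroup' s
        have h4 : (QuotientGroup.mk (⟨_, h1⟩ : XX P) : XX P ⧸ P.subgroupOf (XX P)) ^ 3 ^ n = 1 := by
          rw [← QuotientGroup.mk_pow]
          have h5 : (⟨_, h1⟩ : XX P) ^ 3 ^ n = 1 := by
            apply Subtype.ext
            change (g * ((s : ↥(centralizer ({x} : Set ON))) : ON) * g⁻¹) ^ 3 ^ n = 1
            rw [conj_pow]
            have h6 := congrArg (fun y : (S : Subgroup ↥(centralizer ({x} : Set ON))) =>
              ((y : ↥(centralizer ({x} : Set ON))) : ON)) hn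
            have h7 : ((s : ↥(centralizer ({x} : Set ON))) : ON) ^ 3 ^ n = 1 := h6
            rw [h7]; group
          rw [h5]
          rfl
        have h5 : orderOf (QuotientGroup.mk (⟨_, h1⟩ : XX P) : XX P ⧸ P.subgroupOf (XX P)) = 1 :=
          Nat.eq_one_of_dvd_coprimes (Nat.Coprime.pow_left n (by norm_num : Nat.Coprime 3 5))
            (orderOf_dvd_of_pow_eq_one h4) (orderOf_dvd_of_pow_eq_one h3)
        rw [orderOf_eq_one_iff, QuotientGroup.eq_one_iff, mem_subgroupOf] at h5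
        exact h5⟩
      map_one' := by
        apply Subtype.ext
        change g * (1 : ON) * g⁻¹ = 1
        group
      map_mul' := fun a b => by
        apply Subtype.ext
        change g * (((a : ↥(centralizer ({x} : Set ON))) : ON) * ((b : ↥(centralizer ({x} : Set ON))) : ON)) * g⁻¹ =
          (g * ((a : ↥(centralizer ({x} : Set ON))) : ON) * g⁻¹) * (g * ((b : ↥(centralizer ({x} : Set ON))) : ON) * g⁻¹)
        group }
  have hφ : Function.Injective φ := by
    intro a b hab
    have h0 := congrArg (fun z : P => (z : ON)) hab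
    have h1 : g * ((a : ↥(centralizer ({x} : Set ON))) : ON) * g⁻¹ =
        g * ((b : ↥(centralizer ({x} : Set ON))) : ON) * g⁻¹ := h0
    have h2 := mul_left_cancel (mul_right_cancel h1)
    exact Subtype.ext (Subtype.ext h2)
  have h3 := Subgroup.card_dvd_of_injective φ hφ
  rw [card_P] at h3
  have h4 := hS8.trans h3
  revert h4
  norm_num

theorem hsq : ¬ 5 * 5 ∣ Nat.card ON := by
  rw [card_ON]
  norm_num

theorem transfer {x y : ON} (hx : orderOf x = 5) (hy : orderOf y = 5) :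
    Nat.card ↥(centralizer ({y} : Set ON)) = Nat.card ↥(centralizer ({x} : Set ON)) := by
  have := finite_ON
  exact Cfsg.Agent.H805.NilSp.card_cent_prime_eq (by norm_num) hsq hx hy

/-- 9 divides the orders of the centralizers of the elements of order 5 -/
theorem nine_dvd {x : ON} (hx : orderOf x = 5) : 9 ∣ Nat.card ↥(centralizer ({x} : Set ON)) := by
  have := finite_ON
  have f5 : Fact (Nat.Prime 5) := ⟨Nat.prime_five⟩
  obtain ⟨y, hy⟩ := exists_prime_orderOf_dvd_card' (G := ↥(centralizer (P : Set ON))) 5 (by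
    rw [Cfsg.Agent.H999.ONIMThree.card_centralizer]
    norm_num)
  have hyo : orderOf (y : ON) = 5 := by rw [Subgroup.orderOf_coe, hy]
  rw [transfer hyo hx, ← card_P]
  refine card_dvd_of_le fun z hz => ?_
  rw [mem_centralizer_singleton_iff]
  exact mem_centralizer_iff.1 y.2 z hz

theorem exists_x0 : ∃ x : ON, orderOf x = 5 ∧ x * v = v * x ∧ 20 ∣ Nat.card ↥(centralizer ({x} : Set ON)) := by
  have := finite_ON
  obtain ⟨x, hx, hxv⟩ := Cfsg.Agent.H866.VanON.exists_J 5 (by norm_num) (by norm_num)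
  refine ⟨x, hx, hxv, ?_⟩
  have hxK : x ∈ K0 := J_le (mem_J.2 hxv)
  rw [← Cfsg.Agent.H866.ONFive.card_five (x := ⟨x, hxK⟩) (by rw [Subgroup.orderOf_mk, hx])]
  let φ : ↥(centralizer ({(⟨x, hxK⟩ : K0)} : Set K0)) →* ↥(centralizer ({x} : Set ON)) :=
    { toFun := fun c => ⟨((c : K0) : ON), by
        rw [mem_centralizer_singleton_iff]
        exact congrArg Subtype.val (mem_centralizer_singleton_iff.1 c.2)⟩
      map_one' := rfl
      map_mul' := fun _ _ => rfl }
  refine Subgroup.card_dvd_of_injective φ fun a b hab => ?_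
  have h0 := congrArg (fun z : ↥(centralizer ({x} : Set ON)) => (z : ON)) hab
  have h1 : ((a : K0) : ON) = ((b : K0) : ON) := h0
  exact Subtype.ext (Subtype.ext h1)

theorem twenty_dvd {x : ON} (hx : orderOf x = 5) : 20 ∣ Nat.card ↥(centralizer ({x} : Set ON)) := by
  obtain ⟨y, hy, -, h⟩ := exists_x0
  rwa [transfer hy hx]

theorem not_dvd_of {x : ON} (hx : orderOf x = 5) {q : ℕ} (hq : q.Prime)
    (h : ∀ y : ON, orderOf y = q → ¬ 5 ∣ Nat.card ↥(centralizer ({y} : Set ON))) :
    ¬ q ∣ Nat.card ↥(centralizer ({x} : Set ON)) := by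
  intro hd
  have := finite_ON
  have : Fact q.Prime := ⟨hq⟩
  obtain ⟨y, hy⟩ := exists_prime_orderOf_dvd_card' q hd
  refine h y (by rw [Subgroup.orderOf_coe, hy]) ?_
  have h1 : x ∈ centralizer ({(y : ON)} : Set ON) :=
    mem_centralizer_singleton_iff.2 (mem_centralizer_singleton_iff.1 y.2).symm
  rw [← hx, ← Subgroup.orderOf_mk x h1]
  exact orderOf_dvd_natCard _

theorem arith {c e : ℕ} (hcG : c ∣ 460815505920) (h20 : 20 ∣ c) (h9 : 9 ∣ c) (h8 : ¬ 8 ∣ c) (h27 : ¬ 27 ∣ c)
    (h11 : ¬ 11 ∣ c) (h19 : ¬ 19 ∣ c) (h31 : ¬ 31 ∣ c) (he : e ∣ 4) (he4 : 4 ∣ e)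
    (hm : 460815505920 / (c * e) % 5 = 1) : c = 180 := by
  have he' : e = 4 := Nat.dvd_antisymm he he4
  have h180 : 180 ∣ c := (by norm_num : Nat.Coprime 20 9).mul_dvd_of_dvd_of_dvd h20 h9
  obtain ⟨m, rfl⟩ := h180
  have c2 : ¬ 2 ∣ m := fun h => h8 (by
    obtain ⟨k, rfl⟩ := h
    exact ⟨45 * k, by ring⟩)
  have c3 : ¬ 3 ∣ m := fun h => h27 (by
    obtain ⟨k, rfl⟩ := h
    exact ⟨20 * k, by ring⟩)
  have c11 : ¬ 11 ∣ m := fun h => h11 (h.mul_left _)
  have c19 : ¬ 19 ∣ m := fun h => h19 (h.mul_left _)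
  have c31 : ¬ 31 ∣ m := fun h => h31 (h.mul_left _)
  have hmd : m ∣ 2 ^ 7 * (3 ^ 2 * (11 * (19 * (31 * 343)))) := by
    have h1 : 180 * m ∣ 180 * (2 ^ 7 * (3 ^ 2 * (11 * (19 * (31 * 343))))) := by
      have e1 : 180 * (2 ^ 7 * (3 ^ 2 * (11 * (19 * (31 * 343))))) = 460815505920 := by norm_num
      rw [e1]; exact hcG
    exact Nat.dvd_of_mul_dvd_mul_left (by norm_num) h1
  have cp : ∀ q : ℕ, q.Prime → ¬ q ∣ m → Nat.Coprime m q := fun q hq h =>
    ((Nat.Prime.coprime_iff_not_dvd hq).2 h).symm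
  have d1 := (Nat.Coprime.pow_right 7 (cp 2 Nat.prime_two c2)).dvd_of_dvd_mul_left hmd
  have d2 := (Nat.Coprime.pow_right 2 (cp 3 Nat.prime_three c3)).dvd_of_dvd_mul_left d1
  have d3 := (cp 11 (by norm_num) c11).dvd_of_dvd_mul_left d2
  have d4 := (cp 19 (by norm_num) c19).dvd_of_dvd_mul_left d3
  have d5 := (cp 31 (by norm_num) c31).dvd_of_dvd_mul_left d4
  have d6 : m ∣ 7 ^ 3 := by
    rw [show (7 : ℕ) ^ 3 = 343 by norm_num]; exact d5
  obtain ⟨b, hb, rfl⟩ := (Nat.dvd_prime_pow (by norm_num)).1 d6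
  rw [he'] at hm
  interval_cases b
  · norm_num
  · exfalso; revert hm; norm_num
  · exfalso; revert hm; norm_num
  · exfalso; revert hm; norm_num

/-- **the centralizers of the elements of order 5 have order 180** -/
theorem card_cent_five {x : ON} (hx : orderOf x = 5) : Nat.card ↥(centralizer ({x} : Set ON)) = 180 := by
  have := finite_ON
  obtain ⟨y, hy, hyv, -⟩ := exists_x0
  rw [transfer hy hx]
  have hyK : y ∈ K0 := J_le (mem_J.2 hyv)
  have hy5 : y ^ 5 = 1 := by rw [← hy, pow_orderOf_eq_one]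
  have hy1 : y ≠ 1 := by
    rintro rfl
    rw [orderOf_one] at hy
    omega
  obtain ⟨u, -, hu⟩ := Cfsg.Agent.H866.ONFive.exists_sq hy5 hy1 hyK
  obtain ⟨e, he, hd, hm, -, hk⟩ := Cfsg.Agent.H547.SelfCent.arith (by norm_num) hy hsq
  have he4 : 4 ∣ e := hk u 2 2 1 Nat.prime_two hu (by norm_num) (by norm_num)
  rw [card_ON] at hm
  have hcG : Nat.card ↥(centralizer ({y} : Set ON)) ∣ 460815505920 := card_ON ▸ card_subgroup_dvd_card _
  refine arith hcG (twenty_dvd hy) (nine_dvd hy) (not_eight hy) (not_27 hy) ?_ ?_ ?_ he he4 hm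
  · refine not_dvd_of hy (by norm_num) fun z hz h => ?_
    rw [Cfsg.Agent.H474.ONC.card_cent_eleven hz] at h
    revert h
    norm_num
  · refine not_dvd_of hy (by norm_num) fun z hz h => ?_
    rw [Cfsg.Agent.H680.ONThirtyOne.card_cent_nineteen hz] at h
    revert h
    norm_num
  · refine not_dvd_of hy (by norm_num) fun z hz h => ?_
    rw [Cfsg.Agent.H680.ONThirtyOne.card_cent hz] at h
    revert h
    norm_num

end Cfsg.Agent.H999.ONFiveCent
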