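import Cfsg.Agent.H999.ONSeven
import Cfsg.Agent.H999.ONIMFive

/-!
# The elements of odd prime order of the O'Nan group are conjugate to other powers (helper999)

* `real_five`, `real_eleven`, `real_nineteen`, `thirtyone` : fusion exponents;
* `exists_pow` : an element of odd prime order is conjugate to another power of itself.
-/

set_option autoImplicit false

namespace Cfsg.Agent.H999.ONRat

open Subgroup Cfsg
open Cfsg.Spor (ON)
open Cfsg.Agent.H999.ONIMThree (card_ON)
open Cfsg.Agent.H713 Cfsg.Agent.H713.Count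

theorem fac {p : ℕ} (h1 : p ∣ 460815505920) (h2 : ¬ p * p ∣ 460815505920) [Fact p.Prime] :
    (Nat.card ON).factorization p = 1 := by
  rw [card_ON]
  exact Cfsg.Agent.H713.factorization_eq_one h1 h2

theorem real_five {x : ON} (hx : orderOf x = 5) : IsConj x x⁻¹ := by
  have := Cfsg.Agent.KFacts.ON.Cent.finite_ON
  have f5 : Fact (Nat.Prime 5) := ⟨Nat.prime_five⟩
  have he := Cfsg.Agent.H724.IMTool.fus_card_eq (p := 5) (e := 4) (c := 36) (fac (by norm_num) (by norm_num)) hx
    (by rw [Cfsg.Agent.H999.ONFiveCent.card_cent_five hx]) (by rw [card_ON]; decide)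
  exact Cfsg.Agent.H724.IMTool.isConj_inv_of_even (p := 5) (by rw [← hx, pow_orderOf_eq_one]) (by rw [he]; decide)

theorem real_eleven {x : ON} (hx : orderOf x = 11) : IsConj x x⁻¹ := by
  have := Cfsg.Agent.KFacts.ON.Cent.finite_ON
  have f11 : Fact (Nat.Prime 11) := ⟨by norm_num⟩
  have he := Cfsg.Agent.H724.IMTool.fus_card_eq (p := 11) (e := 10) (c := 1) (fac (by norm_num) (by norm_num)) hx
    (by rw [Cfsg.Agent.H474.ONC.card_cent_eleven hx]) (by rw [card_ON]; decide)
  exact Cfsg.Agent.H724.IMTool.isConj_inv_of_even (p := 11) (by rw [← hx, pow_orderOf_eq_one]) (by rw [he]; decide)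

theorem real_nineteen {x : ON} (hx : orderOf x = 19) : IsConj x x⁻¹ := by
  have := Cfsg.Agent.KFacts.ON.Cent.finite_ON
  have f19 : Fact (Nat.Prime 19) := ⟨by norm_num⟩
  have he := Cfsg.Agent.H724.IMTool.fus_card_eq (p := 19) (e := 6) (c := 1) (fac (by norm_num) (by norm_num)) hx
    (by rw [Cfsg.Agent.H680.ONThirtyOne.card_cent_nineteen hx]) (by rw [card_ON]; decide)
  exact Cfsg.Agent.H724.IMTool.isConj_inv_of_even (p := 19) (by rw [← hx, pow_orderOf_eq_one]) (by rw [he]; decide)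

theorem thirtyone {x : ON} (hx : orderOf x = 31) : ∃ k : ℕ, IsConj x (x ^ k) ∧ x ^ k ≠ x := by
  have := Cfsg.Agent.KFacts.ON.Cent.finite_ON
  have f31 : Fact (Nat.Prime 31) := ⟨by norm_num⟩
  have he := Cfsg.Agent.H724.IMTool.fus_card_eq (p := 31) (e := 15) (c := 1) (fac (by norm_num) (by norm_num)) hx
    (by rw [Cfsg.Agent.H680.ONThirtyOne.card_cent hx]) (by rw [card_ON]; decide)
  obtain ⟨m, hm, hm1⟩ : ∃ m ∈ fus (p := 31) x, m ≠ 1 := by
    by_contra hcon
    push Not at hcon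
    have h1 : fus (p := 31) x ⊆ {1} := fun m hm => Finset.mem_singleton.2 (hcon m hm)
    have h2 := Finset.card_le_card h1
    rw [he, Finset.card_singleton] at h2
    omega
  refine ⟨m.val, (mem_fus.1 hm).2, fun h => hm1 ?_⟩
  have h2 : x ^ m.val = x ^ 1 := by rw [h, pow_one]
  have h3 := pow_eq_pow_iff_modEq.1 h2
  rw [hx] at h3
  have h4 : ((m.val : ℕ) : ZMod 31) = ((1 : ℕ) : ZMod 31) := (ZMod.natCast_eq_natCast_iff _ _ _).2 h3
  rwa [ZMod.natCast_zmod_val, Nat.cast_one] at h4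

theorem of_real {x : ON} {r : ℕ} (hx : orderOf x = r) (hr : 2 < r) (h : IsConj x x⁻¹) :
    ∃ k : ℕ, IsConj x (x ^ k) ∧ x ^ k ≠ x := by
  refine ⟨r - 1, ?_, fun h1 => ?_⟩
  · have h2 : x ^ (r - 1) = x⁻¹ := by
      rw [eq_inv_iff_mul_eq_one, ← pow_succ, Nat.sub_add_cancel (by omega), ← hx, pow_orderOf_eq_one]
    rw [h2]
    exact h
  · have h2 : x ^ (r - 1) = x ^ 1 := by rw [h1, pow_one]
    have h3 := pow_eq_pow_iff_modEq.1 h2
    rw [hx] at h3
    have h4 : (r - 1) % r = 1 % r := h3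
    rw [Nat.mod_eq_of_lt (by omega), Nat.mod_eq_of_lt (by omega)] at h4
    omega

/-- **an element of odd prime order is conjugate to another power of itself** -/
theorem exists_pow {x : ON} {r : ℕ} (hr : r.Prime) (hr2 : r ≠ 2) (hx : orderOf x = r) :
    ∃ k : ℕ, IsConj x (x ^ k) ∧ x ^ k ≠ x := by
  have := Cfsg.Agent.KFacts.ON.Cent.finite_ON
  have hd : r ∣ 460815505920 := by
    rw [← card_ON, ← hx]
    exact orderOf_dvd_natCard x
  have key : r = 3 ∨ r = 5 ∨ r = 7 ∨ r = 11 ∨ r = 19 ∨ r = 31 := by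
    rw [show (460815505920 : ℕ) = 2 ^ 9 * (3 ^ 4 * (5 * (7 ^ 3 * (11 * (19 * 31))))) by norm_num] at hd
    have key : ∀ {s : ℕ}, s.Prime → r ∣ s → r = s := fun hs hd => (Nat.prime_dvd_prime_iff_eq hr hs).1 hd
    rcases hr.dvd_mul.1 hd with h | h
    · exact absurd (key (by norm_num) (hr.dvd_of_dvd_pow h)) hr2
    rcases hr.dvd_mul.1 h with h | h
    · exact Or.inl (key (by norm_num) (hr.dvd_of_dvd_pow h))
    rcases hr.dvd_mul.1 h with h | h
    · exact Or.inr (Or.inl (key (by norm_num) h))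
    rcases hr.dvd_mul.1 h with h | h
    · exact Or.inr (Or.inr (Or.inl (key (by norm_num) (hr.dvd_of_dvd_pow h))))
    rcases hr.dvd_mul.1 h with h | h
    · exact Or.inr (Or.inr (Or.inr (Or.inl (key (by norm_num) h))))
    rcases hr.dvd_mul.1 h with h | h
    · exact Or.inr (Or.inr (Or.inr (Or.inr (Or.inl (key (by norm_num) h)))))
    · exact Or.inr (Or.inr (Or.inr (Or.inr (Or.inr (key (by norm_num) h)))))
  rcases key with rfl | rfl | rfl | rfl | rfl | rfl
  · exact of_real hx (by norm_num)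
      (Cfsg.Agent.H999.ONFiveCent.isConj_three hx (by rw [orderOf_inv, hx]))
  · exact of_real hx (by norm_num) (real_five hx)
  · exact of_real hx (by norm_num) (Cfsg.Agent.H999.ONSeven.real_seven hx)
  · exact of_real hx (by norm_num) (real_eleven hx)
  · exact of_real hx (by norm_num) (real_nineteen hx)
  · exact thirtyone hx

end Cfsg.Agent.H999.ONRat
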