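import Cfsg.Agent.H999.RuTwentyNine
import Cfsg.Agent.H999.SpRow
import Cfsg.Agent.BpSpor.Row.Ru
import Cfsg.Agent.CpAutON.Gen
import Cfsg.Agent.CpAutHe.Seven

/-!
# Row `Ru` of S4329 (helper999)

`card_cent` : the centraliser of an element of order 29 of the Rudvalis group has order at most 58.
-/

set_option autoImplicit false
set_option maxRecDepth 100000
set_option exponentiation.threshold 5000

namespace Cfsg.Agent.H999.SpRowRu

open Subgroup Cfsg Cfsg.Agent.H568 Cfsg.Agent.H999.SpRow Cfsg.Agent.H999.RuTwentyNine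
open Cfsg.Agent.Lib Cfsg.Agent.Lib.BitNet Cfsg.Agent.SporadicB Cfsg.Agent.SporadicB.RuData Cfsg.Agent.SporadicB.RuOrder

universe u

theorem card_H : Nat.card RuOrder.H = 145926144000 := by
  obtain ⟨e⟩ : Nonempty (Spor.Ru ≃* RuOrder.H) := ⟨RuLat.Main.equiv⟩
  rw [← Nat.card_congr e.toEquiv]
  exact Cfsg.Agent.S1627.result.2.1

theorem finite_H : Finite RuOrder.H := Nat.finite_of_card_ne_zero (by rw [card_H]; norm_num)

/-- an element commuting with the rotation and fixing the point 0 is trivial -/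
theorem eq_one {c : RuOrder.H} (hc : c * rho = rho * c)
    (h0 : (c : Equiv.Perm (Fin 4060)) ⟨0, by norm_num⟩ = ⟨0, by norm_num⟩) : c = 1 := by
  have hpow : ∀ i : ℕ, c * rho ^ i = rho ^ i * c := fun i => ((show Commute c rho from hc).pow_right i).eq
  have hfix : ∀ i : ℕ, i < 29 → ∀ h : i < 4060, (c : Equiv.Perm (Fin 4060)) ⟨i, h⟩ = ⟨i, h⟩ := by
    intro i hi h
    have h1 : ((rho ^ i : RuOrder.H) : Equiv.Perm (Fin 4060)) ⟨0, by norm_num⟩ = ⟨i, h⟩ := by
      apply Fin.ext
      rw [rho_pow_apply, rot_def]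
      change _ = i
      change 29 * (0 / 29) + (0 % 29 + i) % 29 = i
      omega
    have h2 := congrArg (fun g : RuOrder.H => (g : Equiv.Perm (Fin 4060)) ⟨0, by norm_num⟩) (hpow i)
    change (c : Equiv.Perm (Fin 4060)) (((rho ^ i : RuOrder.H) : Equiv.Perm (Fin 4060)) ⟨0, by norm_num⟩) =
      ((rho ^ i : RuOrder.H) : Equiv.Perm (Fin 4060)) ((c : Equiv.Perm (Fin 4060)) ⟨0, by norm_num⟩) at h2
    rw [h0, h1] at h2
    exact h2
  apply Subtype.ext
  apply Equiv.ext
  intro v
  apply Fin.ext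
  have hs := chk3
  rw [frc_eq] at hs
  have hU : ∀ i : Fin 4060, (Nat.sub (Nat.pow 2 4060) 1).testBit (i : ℕ) = true := by
    intro i
    change (2 ^ 4060 - 1).testBit (i : ℕ) = true
    rw [Nat.testBit_two_pow_sub_one]
    simp
  refine sep_sound hs (hU _) (hU _) fun x hx => ?_
  obtain ⟨k, hk, rfl⟩ := List.mem_map.1 hx
  have hk29 : k < 29 := by
    simp only [List.mem_cons, List.not_mem_nil, or_false] at hk
    omega
  have hk4 : k < 4060 := by omega
  exact Inv.row (p := ⟨k, hk4⟩) c.2 (hfix k hk29 hk4) v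

/-- an element commuting with the rotation maps 0 into two blocks -/
theorem image_zero {c : RuOrder.H} (hc : c * rho = rho * c) :
    (((c : Equiv.Perm (Fin 4060)) ⟨0, by norm_num⟩ : Fin 4060) : ℕ) / 29 = 0 ∨
      (((c : Equiv.Perm (Fin 4060)) ⟨0, by norm_num⟩ : Fin 4060) : ℕ) / 29 = 107 := by
  have hpow : ∀ i : ℕ, c * rho ^ i = rho ^ i * c := fun i => ((show Commute c rho from hc).pow_right i).eq
  apply chk2'
  intro i
  have h2 := congrArg (fun g : RuOrder.H => (g : Equiv.Perm (Fin 4060)) ⟨0, by norm_num⟩) (hpow i)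
  change (c : Equiv.Perm (Fin 4060)) (((rho ^ i : RuOrder.H) : Equiv.Perm (Fin 4060)) ⟨0, by norm_num⟩) =
    ((rho ^ i : RuOrder.H) : Equiv.Perm (Fin 4060)) ((c : Equiv.Perm (Fin 4060)) ⟨0, by norm_num⟩) at h2
  have h3 := (mem_Aut.1 c.2) ⟨0, by norm_num⟩ (((rho ^ i : RuOrder.H) : Equiv.Perm (Fin 4060)) ⟨0, by norm_num⟩)
  rw [h2, rho_pow_apply, rho_pow_apply] at h3
  exact h3

theorem card_cent_rho : Nat.card ↥(centralizer ({rho} : Set RuOrder.H)) ≤ 58 := by
  have := finite_H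
  set C := (centralizer ({rho} : Set RuOrder.H)).map RuOrder.H.subtype with hC
  have h1 : Nat.card ↥(centralizer ({rho} : Set RuOrder.H)) = Nat.card C := by
    rw [hC, Subgroup.card_map_of_injective RuOrder.H.subtype_injective]
  rw [h1, card_eq_orbit_mul C ⟨0, by norm_num⟩]
  have h2 : Nat.card ↥(C ⊓ MulAction.stabilizer (Equiv.Perm (Fin 4060)) (⟨0, by norm_num⟩ : Fin 4060)) = 1 := by
    rw [Subgroup.card_eq_one, eq_bot_iff]
    rintro _ ⟨⟨c, hc, rfl⟩, h0⟩
    rw [mem_bot]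
    have := eq_one (mem_centralizer_singleton_iff.1 hc) h0
    rw [this]
    rfl
  rw [h2, mul_one]
  have h3 : MulAction.orbit C (⟨0, by norm_num⟩ : Fin 4060) ⊆
      ((Finset.univ.filter fun v : Fin 4060 => (v : ℕ) / 29 = 0 ∨ (v : ℕ) / 29 = 107 : Finset (Fin 4060)) :
        Set (Fin 4060)) := by
    rintro _ ⟨⟨_, c, hc, rfl⟩, rfl⟩
    rw [Finset.mem_coe, Finset.mem_filter]
    exact ⟨Finset.mem_univ _, image_zero (mem_centralizer_singleton_iff.1 hc)⟩
  rw [Nat.card_coe_set_eq]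
  refine (Set.ncard_le_ncard h3 (Set.toFinite _)).trans ?_
  rw [Set.ncard_coe_finset]
  have h4 : (Finset.univ.filter fun v : Fin 4060 => (v : ℕ) / 29 = 0 ∨ (v : ℕ) / 29 = 107) ⊆
      (Finset.univ : Finset (Fin 58)).image (fun j : Fin 58 =>
        (⟨if (j : ℕ) < 29 then j else 29 * 107 + (j - 29), by split_ifs <;> omega⟩ : Fin 4060)) := by
    intro v hv
    rw [Finset.mem_filter] at hv
    rw [Finset.mem_image]
    rcases hv.2 with h | h
    · refine ⟨⟨v, by omega⟩, Finset.mem_univ _, ?_⟩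
      apply Fin.ext
      have : (v : ℕ) < 29 := by omega
      simp [this]
    · refine ⟨⟨v - 29 * 107 + 29, by omega⟩, Finset.mem_univ _, ?_⟩
      apply Fin.ext
      have h5 : ¬ ((v : ℕ) - 29 * 107 + 29 < 29) := by omega
      simp only [h5, if_false]
      omega
  refine (Finset.card_le_card h4).trans (Finset.card_image_le.trans ?_)
  simp

theorem order_rho : orderOf rho = 29 := by
  have : Fact (Nat.Prime 29) := ⟨by norm_num⟩
  exact orderOf_eq_prime rho_pow rho_ne_one

/-- elements of order 29 commute with no elements of other odd prime order -/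
theorem no_comm {p : ℕ} (hp : p.Prime) (hp29 : p ≠ 29) (hp2 : p ≠ 2) (x y : RuOrder.H) (hx : orderOf x = 29)
    (hy : orderOf y = p) : x * y ≠ y * x := by
  intro h
  have hfin := finite_H
  have h29 : Fact (Nat.Prime 29) := ⟨by norm_num⟩
  obtain ⟨g, hg⟩ := CpAutON.Gen.conj_into (p := 29) (by rw [card_H]; norm_num) hx order_rho
  have h1 := (CpAutHe.Seven.card_cent_le hx order_rho hg).trans card_cent_rho
  have hxC : x ∈ centralizer ({x} : Set RuOrder.H) := mem_centralizer_singleton_iff.2 rfl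
  have hyC : y ∈ centralizer ({x} : Set RuOrder.H) := mem_centralizer_singleton_iff.2 h.symm
  have h2 : 29 ∣ Nat.card (centralizer ({x} : Set RuOrder.H)) := by
    have := orderOf_dvd_natCard (⟨x, hxC⟩ : centralizer ({x} : Set RuOrder.H))
    rwa [← orderOf_coe, hx] at this
  have h3 : p ∣ Nat.card (centralizer ({x} : Set RuOrder.H)) := by
    have := orderOf_dvd_natCard (⟨y, hyC⟩ : centralizer ({x} : Set RuOrder.H))
    rwa [← orderOf_coe, hy] at this
  have h4 : 29 * p ∣ Nat.card (centralizer ({x} : Set RuOrder.H)) :=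
    Nat.Coprime.mul_dvd_of_dvd_of_dvd ((Nat.coprime_primes (by norm_num) hp).2 (Ne.symm hp29)) h2 h3
  have h5 := Nat.le_of_dvd Nat.card_pos h4
  have h6 := hp.two_le
  have h7 : 3 ≤ p := by omega
  omega

theorem row_ru {K : Type u} [Group K] (h : Spor.IsoRu K) (p : ℕ) [hp : Fact p.Prime] (hp2 : p ≠ 2) : Row p K := by
  refine row_of_dat (BpSpor.Row.dat_ru h) (by norm_num) (by norm_num) hp2 fun h2 s hs => ?_
  obtain ⟨e⟩ := h
  have hpl : p = 3 ∨ p = 5 := by
    have h3 : p ∣ 145926144000 := (Dvd.intro_left p (by ring : p * p = p ^ 2)).trans h2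
    have h4 : (145926144000 : ℕ) = 2 ^ 14 * (3 ^ 3 * (5 ^ 3 * (7 * (13 * 29)))) := by norm_num
    rw [h4] at h3
    have hq : ∀ q : ℕ, q.Prime → p ∣ q → p = q := fun q hq h => (Nat.prime_dvd_prime_iff_eq hp.1 hq).1 h
    rcases (Nat.Prime.dvd_mul hp.1).1 h3 with h3 | h3
    · exact absurd (hq 2 (by norm_num) (hp.1.dvd_of_dvd_pow h3)) hp2
    rcases (Nat.Prime.dvd_mul hp.1).1 h3 with h3 | h3
    · exact Or.inl (hq 3 (by norm_num) (hp.1.dvd_of_dvd_pow h3))
    rcases (Nat.Prime.dvd_mul hp.1).1 h3 with h3 | h3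
    · exact Or.inr (hq 5 (by norm_num) (hp.1.dvd_of_dvd_pow h3))
    exfalso
    rcases (Nat.Prime.dvd_mul hp.1).1 h3 with h3 | h3
    · rw [hq 7 (by norm_num) h3] at h2; exact absurd h2 (by norm_num)
    rcases (Nat.Prime.dvd_mul hp.1).1 h3 with h3 | h3
    · rw [hq 13 (by norm_num) h3] at h2; exact absurd h2 (by norm_num)
    · rw [hq 29 (by norm_num) h3] at h2; exact absurd h2 (by norm_num)
  refine ⟨29, by norm_num, by norm_num, ?_, ?_, fun x hx hc => ?_⟩
  · rcases hpl with rfl | rfl <;> norm_num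
  · rcases hpl with rfl | rfl
    · exact cop_of (m := 3) (by norm_num) (by decide)
    · exact cop_of (m := 3) (by norm_num) (by decide)
  · have f := e.trans RuLat.Main.equiv
    refine no_comm hp.1 ?_ hp2 (f x) (f s) (by rw [MulEquiv.orderOf_eq, hx]) (by rw [MulEquiv.orderOf_eq, hs])
      (by rw [← map_mul, hc, map_mul])
    rcases hpl with rfl | rfl <;> norm_num

end Cfsg.Agent.H999.SpRowRu
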