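import Cfsg.Agent.H999.RowPslE
import Cfsg.Agent.H100.AltSyl.PslPts

/-!
# The row PSL of S4329 (helper999)
-/

set_option autoImplicit false

namespace Cfsg.Agent.H999.RowPSL

open Matrix Module Cfsg.Agent.H568
open Cfsg.Agent.ClassicalGeometry.AutPSL.Root
open Cfsg.Agent.ClassicalGeometry.AutPSL.Auto
open Cfsg.Agent.ClassicalGeometry.AutPSL.Main
open Cfsg.Agent.CpAut.Psl
open Cfsg.Agent.LieExceptional.SingerCentralizer
open Cfsg.Agent.Lib.Zsigmondy

section

variable {F : Type*} [Field F] [Fintype F] {n : ℕ}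

/-- Field automorphisms, given a suitable prime `l`. -/
theorem fld_of {p l : ℕ} [hp : Fact p.Prime] (hp2 : p ≠ 2) {σ : F ≃+* F} (hn : 2 ≤ n) (hl : l.Prime)
    (hlp : l ≠ p) (h : ¬ l ∣ Nat.card (pr : Matrix.SpecialLinearGroup (Fin n) F →* _).ker)
    (hd : l ∣ Nat.card (Matrix.SpecialLinearGroup (Fin n) F)) (hln : n < l)
    (hl0 : ¬ l ∣ Nat.card (Matrix.SpecialLinearGroup (Fin n) ↥(fixf σ)))
    (hchar : (p : F) = 0 → Prim (Nat.card F) l n) (B : GL (Fin n) F) :
    Good p (lift (cj B * fld σ * (cj B)⁻¹)) := by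
  have : Nonempty (Fin n) := ⟨⟨0, by omega⟩⟩
  refine exists_of_prime hl hlp h hd _ (lift (cj B)) (fld σ) (by rw [map_mul, map_mul, map_inv]) ?_ ?_
  · intro x hx
    by_cases hpk : (p : F) = 0
    · refine (noNorm_of_irred pr_surjective (by rw [ker_pr]) _ injective_toGL hpk
        (irred (hchar hpk) (x := (x : Matrix (Fin n) (Fin n) F)) ?_ ?_)).pcent
      · have h1 : x ^ l = 1 := by rw [← hx, pow_orderOf_eq_one]
        have h2 := congrArg Subtype.val h1
        rwa [Matrix.SpecialLinearGroup.coe_pow] at h2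
      · intro h1
        have h2 : x = 1 := Subtype.ext h1
        rw [h2, orderOf_one] at hx
        exact hl.one_lt.ne hx
    · exact pcent_pr hp2 hl hlp hpk hln hx
  · intro g hg hfg
    obtain ⟨y, hy⟩ := exists_emb hfg
    apply hl0
    have hinj : Function.Injective (emb (ι := Fin n) σ) := by
      intro a b hab
      apply Subtype.ext
      ext i j
      exact congrFun (congrFun (congrArg Subtype.val hab) i) j
    have h1 : orderOf y = l := by rw [← hg, ← hy, orderOf_injective _ hinj]
    rw [← h1]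
    exact orderOf_dvd_natCard y

/-- Automorphisms of order `p` which are not linear. -/
theorem fld_good (hn : 2 ≤ n) {p : ℕ} [hp : Fact p.Prime] (hp2 : p ≠ 2) {σ : F ≃+* F} (ho : orderOf σ = p)
    (B : GL (Fin n) F) : Good p (lift (cj B * fld σ * (cj B)⁻¹)) := by
  classical
  have hft : Fintype ↥(fixf σ) := Fintype.ofFinite _
  have hq0 : Fintype.card F = Fintype.card ↥(fixf σ) ^ p := by
    rw [CpAutU.Fld.card_fixf ho, Nat.card_eq_fintype_card]
  have hnc : Nat.card F = Fintype.card F := Nat.card_eq_fintype_card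
  obtain ⟨r, hr⟩ := CharP.exists F
  have hfr : Fact r.Prime := ⟨CharP.char_is_prime F r⟩
  have hr0 : CharP ↥(fixf σ) r := inferInstance
  obtain ⟨f0, hrp, hf0⟩ := FiniteField.card ↥(fixf σ) r
  have hf0p : 0 < (f0 : ℕ) := f0.pos
  set f := (f0 : ℕ) with hff
  have hF : Fintype.card F = r ^ (f * p) := by rw [hq0, hf0, pow_mul]
  have hp3 : 3 ≤ p := by
    have := hp.1.two_le
    omega
  have hr2 := hrp.two_le
  have hfpn : 2 ≤ f * p * n := by
    have h1 : 1 * 3 ≤ f * p := Nat.mul_le_mul hf0p hp3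
    have h2 : 3 * 2 ≤ f * p * n := Nat.mul_le_mul (by omega) hn
    omega
  by_cases h26 : r = 2 ∧ f * p * n = 6
  · -- `q = 8`, `n = 2`, `p = 3`
    obtain ⟨h2, h6⟩ := h26
    have h1 : f * p * n ≥ f * p * 2 := Nat.mul_le_mul_left _ hn
    have h3 : f * p ≤ 3 := by omega
    have h4 : f * p ≥ f * 3 := Nat.mul_le_mul_left _ hp3
    have hf1 : f = 1 := by omega
    rw [hf1, one_mul] at h3 h6 hF
    have hp3' : p = 3 := by omega
    subst hp3'
    have hn2 : n = 2 := by omega
    subst hn2
    rw [h2] at hF hf0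
    rw [hf1, pow_one] at hf0
    have h7 : Nat.Prime 7 := by norm_num
    refine fld_of (l := 7) hp2 (by norm_num) h7 (by norm_num) ?_ ?_ (by norm_num) ?_ ?_ B
    · rw [ker_pr]
      intro hd
      have hfl : Fact (Nat.Prime 7) := ⟨h7⟩
      obtain ⟨c, hc⟩ := exists_prime_orderOf_dvd_card' 7 hd
      obtain ⟨s, hs1, hs⟩ := Matrix.SpecialLinearGroup.mem_center_iff.1 c.2
      rw [Fintype.card_fin] at hs1
      have h8 : orderOf c ∣ 2 := by
        apply orderOf_dvd_of_pow_eq_one
        apply Subtype.ext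
        apply Subtype.ext
        show ((c : Matrix.SpecialLinearGroup (Fin 2) F) ^ 2 : Matrix.SpecialLinearGroup (Fin 2) F).1 = 1
        rw [Matrix.SpecialLinearGroup.coe_pow, ← hs, ← map_pow, hs1, map_one]
      rw [hc] at h8
      revert h8; decide
    · refine dvd_card_SL (j := 2) le_rfl le_rfl ?_
      rw [hF]
      norm_num
    · rw [H953.card_SL 2 (by norm_num), hf0]
      decide
    · intro h8
      exfalso
      have h9 := (CharP.cast_eq_zero_iff F r 3).1 h8
      rw [h2] at h9
      revert h9; decide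
  · obtain ⟨l, hl, hlm, hnl, hlr⟩ := exists_primitive (a := r) (n := f * p * n) hr2 hfpn
      (fun h => by
        exfalso
        have h1 : f * p * n ≥ f * p * 2 := Nat.mul_le_mul_left _ hn
        have h4 : f * p ≥ f * 3 := Nat.mul_le_mul_left _ hp3
        omega) h26
    have hlm' : ∀ m, l ∣ Fintype.card F ^ m - 1 ↔ n ∣ m := by
      intro m
      rw [hF, ← pow_mul, hlm]
      exact Nat.mul_dvd_mul_iff_left (by positivity)
    have hll : f * p * n + 1 ≤ l := by
      have h1 := Nat.le_of_dvd (by have := hl.two_le; omega) hnl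
      have := hl.two_le
      omega
    have hpn : p * 2 ≤ f * p * n := by
      calc p * 2 ≤ (1 * p) * n := by rw [one_mul]; exact Nat.mul_le_mul_left _ hn
        _ ≤ f * p * n := Nat.mul_le_mul_right _ (Nat.mul_le_mul_right _ hf0p)
    have hnn : n ≤ f * p * n := Nat.le_mul_of_pos_left _ (by positivity)
    refine fld_of (l := l) hp2 hn hl (by omega) (not_dvd_center (by omega) hl ?_)
      (dvd_card_SL (j := n) hn le_rfl ((hlm' n).2 (dvd_refl n))) (by omega) ?_ ?_ B
    · intro h
      have h1 := (hlm' 1).1 (by rwa [pow_one])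
      have h2 := Nat.dvd_one.1 h1
      omega
    · rw [H953.card_SL n (by omega), hf0]
      intro h
      rcases hl.dvd_mul.1 h with h1 | h1
      · exact hlr (hl.dvd_of_dvd_pow (hl.dvd_of_dvd_pow h1))
      · obtain ⟨j, hj, hlj⟩ := (Nat.Prime.prime hl).exists_mem_finset_dvd h1
        rw [Finset.mem_Icc] at hj
        rw [← pow_mul, hlm] at hlj
        have h3 := Nat.le_of_dvd (by have := hj.1; positivity) hlj
        have h4 : f * n < f * p * n := by
          rw [mul_assoc]
          apply Nat.mul_lt_mul_of_pos_left _ hf0p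
          nlinarith
        have h5 : f * j ≤ f * n := Nat.mul_le_mul_left _ hj.2
        omega
    · intro _
      rw [hnc]
      exact Prim.of_iff hl hlm'

/-- **The row PSL.** -/
theorem row_psl_aux (hn : 2 ≤ n) [IsSimpleGroup (Matrix.ProjectiveSpecialLinearGroup (Fin n) F)] (p : ℕ)
    [hp : Fact p.Prime] (hp2 : p ≠ 2) : Row p (Matrix.ProjectiveSpecialLinearGroup (Fin n) F) := by
  have hnt : Nontrivial (Fin n) := Fin.nontrivial_iff_two_le.2 hn
  refine row_of (fun h => H100.AltSyl.psl_not_comm (ι := Fin n) (F := F) fun x y => h.is_comm.comm x y) ?_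
  intro a ha
  have hap : a ^ p = 1 := by rw [← ha, pow_orderOf_eq_one]
  obtain ⟨A, σ, rfl⟩ := exists_of_odd hn (hp.1.odd_of_ne_two hp2) hap
  by_cases hσ : σ = 1
  · subst hσ
    rw [map_one, mul_one] at ha hap ⊢
    by_cases hpk : (p : F) = 0
    · right; left
      have : CharP F p := by
        obtain ⟨r, hr⟩ := CharP.exists F
        have h1 := (CharP.cast_eq_zero_iff F r p).1 hpk
        have h2 := (Nat.prime_dvd_prime_iff_eq (CharP.char_is_prime F r) hp.1).1 h1
        rwa [← h2]
      obtain ⟨s, hs⟩ := inner_of_lin hn hap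
      exact ⟨⟨s, hs.symm⟩, noNorm_char hn hp2 hpk⟩
    · rcases hn.eq_or_lt with h2 | h3
      · subst h2
        exact Or.inl (lin_two hp2 hpk ha)
      · rcases lin_three h3 hp2 hpk ha with h | h
        · exact Or.inl h
        · exact Or.inr (Or.inr h)
  · obtain ⟨ho, B, hB⟩ := exists_conj hp.1 hap hσ
    right; right
    rw [hB]
    exact fld_good hn hp2 ho B

end

/-- **The row PSL** for `IsPSL`. -/
theorem row_psl (K : Type*) [Group K] [Finite K] [IsSimpleGroup K] (h : IsPSL K) (p : ℕ) [Fact p.Prime]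
    (hp2 : p ≠ 2) : Row p K := by
  obtain ⟨F, _, _, n, hn, -, ⟨e⟩⟩ := h
  have : IsSimpleGroup (Matrix.ProjectiveSpecialLinearGroup (Fin n) F) := e.symm.isSimpleGroup
  exact (row_psl_aux hn p hp2).congr e.symm

end Cfsg.Agent.H999.RowPSL
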