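import Cfsg.Agent.H999.RowPslD

/-!
# The row PSL of S4329 (helper999): linear automorphisms
-/

set_option autoImplicit false

namespace Cfsg.Agent.H999.RowPSL

open Matrix Module Cfsg.Agent.H568
open Cfsg.Agent.ClassicalGeometry.AutPSL.Root
open Cfsg.Agent.ClassicalGeometry.AutPSL.Auto
open Cfsg.Agent.ClassicalGeometry.AutPSL.Main
open Cfsg.Agent.CpAut.Psl
open Cfsg.Agent.LieExceptional.SingerCentralizer
open Cfsg.Agent.Lib.Zsigmondy

section

variable {F : Type*} [Field F] [Fintype F] {n : ℕ}

/-- The first alternative of `row_of`. -/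
def Cyc (p : ℕ) (a : MulAut (Matrix.ProjectiveSpecialLinearGroup (Fin n) F)) : Prop :=
  (∃ s : Matrix.ProjectiveSpecialLinearGroup (Fin n) F, a = MulAut.conj s) ∧
      ∃ P : Sylow p (Matrix.ProjectiveSpecialLinearGroup (Fin n) F),
        IsCyclic ↥(P : Subgroup (Matrix.ProjectiveSpecialLinearGroup (Fin n) F))

theorem dvd_one_of_gcd {q p i j : ℕ} (hq : 1 ≤ q) (hi : p ∣ q ^ i - 1) (hj : p ∣ q ^ j - 1) (h : Nat.gcd i j = 1) :
    p ∣ q - 1 := by
  have h1 := (dvd_pow_sub_one_iff hq i).1 hi
  have h2 := (dvd_pow_sub_one_iff hq j).1 hj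
  have h3 := Nat.dvd_gcd h1 h2
  rw [h] at h3
  have h4 := (dvd_pow_sub_one_iff hq 1).2 h3
  rwa [pow_one] at h4

theorem not_dvd_card {p : ℕ} (hp : p.Prime) (hpk : (p : F) ≠ 0) : ¬ p ∣ Fintype.card F := by
  intro h
  obtain ⟨r, hr⟩ := CharP.exists F
  have hfr : Fact r.Prime := ⟨CharP.char_is_prime F r⟩
  obtain ⟨m, hrp, hm⟩ := FiniteField.card F r
  rw [hm] at h
  have h1 := (Nat.prime_dvd_prime_iff_eq hp hrp).1 (hp.dvd_of_dvd_pow h)
  apply hpk
  rw [h1]
  exact CharP.cast_eq_zero F r

/-- Linear automorphisms of order `p` not the characteristic, `n ≥ 3`. -/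
theorem lin_three (hn : 3 ≤ n) {p : ℕ} [hp : Fact p.Prime] (hp2 : p ≠ 2) (hpk : (p : F) ≠ 0) {A : GL (Fin n) F}
    (ho : orderOf (lift (cj A)) = p) : Cyc p (lift (cj A)) ∨ Good p (lift (cj A)) := by
  have hpow : lift (cj A) ^ p = 1 := by rw [← ho, pow_orderOf_eq_one]
  have hpq := not_dvd_card hp.1 hpk
  have hq1 : 1 < Fintype.card F := Fintype.one_lt_card
  have hnc : Nat.card F = Fintype.card F := Nat.card_eq_fintype_card
  by_cases hprim : ∀ i, 0 < i → i < n → ¬ p ∣ Fintype.card F ^ i - 1
  · left
    refine ⟨inner_of_coprime ?_ hpow, ?_⟩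
    · rw [Nat.coprime_comm, Nat.Prime.coprime_iff_not_dvd hp.1]
      intro hpn
      have h1 : p ≤ n := Nat.le_of_dvd (by omega) hpn
      have h2 := hp.1.two_le
      apply hprim (p - 1) (by omega) (by omega)
      have h3 : Nat.Coprime (Fintype.card F) p := ((Nat.Prime.coprime_iff_not_dvd hp.1).2 hpq).symm
      have h4 := Nat.ModEq.pow_totient h3
      rw [Nat.totient_prime hp.1] at h4
      exact (Nat.modEq_iff_dvd' (Nat.one_le_pow _ _ (by omega))).1 h4.symm
    · obtain ⟨P⟩ : Nonempty (Sylow p (Matrix.ProjectiveSpecialLinearGroup (Fin n) F)) := inferInstance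
      exact ⟨P, cyclic_sylow (by omega) hpq hprim P⟩
  · push Not at hprim
    obtain ⟨i, hi0, hin, hi⟩ := hprim
    by_cases h26 : Fintype.card F = 2 ∧ n = 6
    · obtain ⟨hF2, rfl⟩ := h26
      exact six hF2 hp2 hpk ho
    · right
      by_contra hng
      obtain ⟨l, hl, hlm, hnl, hlq⟩ := exists_primitive (a := Fintype.card F) (n := n) hq1 (by omega)
        (fun h => by omega) h26
      have hP1 : Prim (Nat.card F) l n := by rw [hnc]; exact Prim.of_iff hl hlm
      have hlp : l ≠ p := by
        rintro rfl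
        have h1 := hP1.ndvd i hi0 hin
        rw [hnc] at h1
        exact h1 hi
      have hlq1 : ¬ l ∣ Fintype.card F - 1 := by
        intro h
        have h1 := (hlm 1).1 (by rwa [pow_one])
        have h2 := Nat.dvd_one.1 h1
        omega
      have hln : n < l := by
        have h1 := Nat.le_of_dvd (by have := hl.two_le; omega) hnl
        have := hl.two_le
        omega
      obtain ⟨z, hz, hz1, hc⟩ := exists_comm hp2 hpk (by omega) hl hlp hlq1
        (dvd_card_SL (j := n) (by omega) le_rfl ((hlm n).2 (dvd_refl n))) hln hng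
      have hno := no_eig hp.1 ho hc (irred hP1 hz hz1)
      obtain ⟨r, hr0, hr⟩ := pow_scalar (by omega) hpow
      have hsum := dvd_sum hp.1 hr0 hr (fun v μ hv => hno v μ hv)
      rw [hnc] at hsum
      have hpn1 : p ∣ Fintype.card F ^ n - 1 := sum_dvd hq1.le hsum
      have hpn : p ∣ Fintype.card F - 1 → p ∣ n := fun h => H953.sum_pow_mod h hq1.le hsum
      by_cases hex1 : n = 3 ∧ ∃ k, Fintype.card F + 1 = 2 ^ k
      · obtain ⟨rfl, k, hk⟩ := hex1
        have h1 : p ∣ Fintype.card F - 1 := by
          have hi' : i = 1 ∨ i = 2 := by omega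
          rcases hi' with rfl | rfl
          · rwa [pow_one] at hi
          · exact dvd_one_of_gcd hq1.le hi hpn1 (by norm_num)
        have h3 : p = 3 := (Nat.prime_dvd_prime_iff_eq hp.1 Nat.prime_three).1 (hpn h1)
        subst h3
        obtain ⟨r', hr'⟩ := CharP.exists F
        have hrp : r'.Prime := CharP.char_is_prime F r'
        have hfr : Fact r'.Prime := ⟨hrp⟩
        obtain ⟨m, -, hm⟩ := FiniteField.card F r'
        have hrd : r' ∣ Fintype.card F := by rw [hm]; exact dvd_pow_self _ m.ne_zero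
        have hr3 : r' ≠ 3 := by
          rintro rfl
          exact hpq hrd
        have hr2 : r' ≠ 2 := by
          rintro rfl
          have hk0 : k ≠ 0 := by
            rintro rfl
            rw [pow_zero] at hk
            omega
          have h4 : 2 ∣ Fintype.card F + 1 := by rw [hk]; exact dvd_pow_self _ hk0
          omega
        have hr4 : r' ≠ 4 := by
          rintro rfl
          revert hrp; decide
        have hr5 : 3 < r' := by
          have := hrp.two_le
          omega
        have hrq : ¬ r' ∣ Fintype.card F - 1 := by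
          intro h
          have h4 := Nat.dvd_sub hrd h
          have h5 : Fintype.card F - (Fintype.card F - 1) = 1 := by omega
          rw [h5] at h4
          exact hrp.one_lt.ne' (Nat.dvd_one.1 h4)
        have hrc : r' ∣ Nat.card (Matrix.SpecialLinearGroup (Fin 3) F) := by
          rw [H953.card_SL 3 (by norm_num)]
          exact (hrd.trans (dvd_pow_self _ (by decide))).mul_right _
        obtain ⟨z', hz', hz1', hc'⟩ := exists_comm hp2 hpk (by omega) hrp hr3 hrq hrc hr5 hng
        obtain ⟨v, μ, hv, hμ⟩ := eig_of_unip hz' hz1' hc'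
        exact hno v μ hv hμ
      · by_cases hex2 : Fintype.card F = 2 ∧ n - 1 = 6
        · obtain ⟨hF2, hn6⟩ := hex2
          have hn7 : n = 7 := by omega
          subst hn7
          rw [hF2] at hpn1 hi
          have h127 : p = 127 := (Nat.prime_dvd_prime_iff_eq hp.1 (by norm_num)).1 (by simpa using hpn1)
          subst h127
          have h1 := Nat.le_of_dvd (by
            have : 2 ^ 1 ≤ 2 ^ i := Nat.pow_le_pow_right (by norm_num) hi0
            omega) hi
          have h2 : 2 ^ i ≤ 2 ^ 6 := Nat.pow_le_pow_right (by norm_num) (by omega)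
          omega
        · obtain ⟨l', hl', hlm', hnl', hlq'⟩ := exists_primitive (a := Fintype.card F) (n := n - 1) hq1 (by omega)
            (fun h => by
              intro hk
              exact hex1 ⟨by omega, hk⟩) hex2
          have hP2 : Prim (Nat.card F) l' (n - 1) := by rw [hnc]; exact Prim.of_iff hl' hlm'
          have hlq1' : ¬ l' ∣ Fintype.card F - 1 := by
            intro h
            have h1 := (hlm' 1).1 (by rwa [pow_one])
            have h2 := Nat.dvd_one.1 h1
            omega
          have hlp' : l' ≠ p := by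
            rintro rfl
            apply hlq1'
            refine dvd_one_of_gcd hq1.le ((hlm' (n - 1)).2 (dvd_refl _)) hpn1 ?_
            rw [Nat.gcd_comm]
            have : Nat.gcd n (n - 1) = Nat.gcd (n - 1 + 1) (n - 1) := by
              congr 1
              omega
            rw [this]
            simp
          have hln' : n ≤ l' := by
            have h1 := Nat.le_of_dvd (by have := hl'.two_le; omega) hnl'
            have := hl'.two_le
            omega
          have hln2' : n ≠ l' := by
            intro hnl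
            have hnp : n.Prime := hnl ▸ hl'
            have h1 : p ∣ Fintype.card F - 1 := by
              refine dvd_one_of_gcd hq1.le hi hpn1 ?_
              rw [Nat.gcd_comm]
              exact Nat.coprime_of_lt_prime hi0.ne' hin hnp
            have h2 := (Nat.prime_dvd_prime_iff_eq hp.1 hnp).1 (hpn h1)
            exact hlp' (hnl.symm.trans h2.symm)
          obtain ⟨z', hz', hz1', hc'⟩ := exists_comm hp2 hpk (by omega) hl' hlp' hlq1'
            (dvd_card_SL (j := n - 1) (by omega) (by omega) ((hlm' _).2 (dvd_refl _))) (by omega) hng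
          obtain ⟨v, μ, hv, hμ⟩ := eig_of_fixed hn hP2 hz' hz1' hc'
          exact hno v μ hv hμ

/-- The split torus of `SL_2(F)`. -/
def tor : Fˣ →* Matrix.SpecialLinearGroup (Fin 2) F where
  toFun a := ⟨!![(a : F), 0; 0, ((a⁻¹ : Fˣ) : F)], by
    rw [det_fin_two_of, ← Units.val_mul, mul_inv_cancel, Units.val_one]; ring⟩
  map_one' := by
    apply Subtype.ext
    show !![((1 : Fˣ) : F), 0; 0, (((1 : Fˣ)⁻¹ : Fˣ) : F)] = 1
    rw [inv_one, Units.val_one, one_fin_two]
  map_mul' a b := by
    apply Subtype.ext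
    show !![((a * b : Fˣ) : F), 0; 0, (((a * b)⁻¹ : Fˣ) : F)] =
      !![(a : F), 0; 0, ((a⁻¹ : Fˣ) : F)] * !![(b : F), 0; 0, ((b⁻¹ : Fˣ) : F)]
    rw [mul_fin_two, mul_inv]
    simp

theorem tor_injective : Function.Injective (tor : Fˣ →* Matrix.SpecialLinearGroup (Fin 2) F) := by
  intro a b h
  have h1 := congrFun (congrFun (congrArg Subtype.val h) 0) 0
  exact Units.ext h1

/-- Linear automorphisms of order `p` not the characteristic, `n = 2`. -/
theorem lin_two {p : ℕ} [hp : Fact p.Prime] (hp2 : p ≠ 2) (hpk : (p : F) ≠ 0) {A : GL (Fin 2) F}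
    (ho : orderOf (lift (cj A)) = p) : Cyc p (lift (cj A)) := by
  have hpow : lift (cj A) ^ p = 1 := by rw [← ho, pow_orderOf_eq_one]
  have hpq := not_dvd_card hp.1 hpk
  have hq1 : 1 < Fintype.card F := Fintype.one_lt_card
  have hcop : Nat.Coprime 2 p := (Nat.coprime_primes Nat.prime_two hp.1).2 (Ne.symm hp2)
  refine ⟨inner_of_coprime hcop hpow, ?_⟩
  obtain ⟨P⟩ : Nonempty (Sylow p (Matrix.ProjectiveSpecialLinearGroup (Fin 2) F)) := inferInstance
  refine ⟨P, ?_⟩
  by_cases h1 : p ∣ Fintype.card F - 1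
  · obtain ⟨Q, hQ, h3, h4, -⟩ := exists_plift (pr_surjective (ι := Fin 2) (F := F)) (by rw [ker_pr])
      (Q := (P : Subgroup (Matrix.ProjectiveSpecialLinearGroup (Fin 2) F))) P.isPGroup'
    have hc : IsCyclic Q := by
      refine LieExceptional.CyclicSylow.isCyclic_of_isPGroup_of_hom tor tor_injective ?_ hQ
      rw [ClassicalGeometry.PSL2Basic.card_SL2, Nat.card_units, Nat.card_eq_fintype_card]
      have h5 : Fintype.card F * (Fintype.card F ^ 2 - 1) =
          (Fintype.card F - 1) * (Fintype.card F * (Fintype.card F + 1)) := by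
        obtain ⟨m, hm⟩ : ∃ m, Fintype.card F = m + 1 := ⟨Fintype.card F - 1, by omega⟩
        rw [hm, Nat.add_sub_cancel, show (m + 1) ^ 2 - 1 = m * (m + 2) by
          rw [Nat.sub_eq_iff_eq_add (Nat.one_le_pow _ _ (by omega))]; ring]
        ring
      rw [h5, Nat.factorization_mul (by omega) (by positivity)]
      rw [Finsupp.add_apply, Nat.factorization_eq_zero_of_not_dvd (n := Fintype.card F * (Fintype.card F + 1)), add_zero]
      intro h6
      rcases hp.1.dvd_mul.1 h6 with h7 | h7
      · exact hpq h7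
      · have h8 := Nat.dvd_sub h7 h1
        have h9 : Fintype.card F + 1 - (Fintype.card F - 1) = 2 := by omega
        rw [h9] at h8
        exact hp2 ((Nat.prime_dvd_prime_iff_eq hp.1 Nat.prime_two).1 h8)
    let f : Q →* (P : Subgroup (Matrix.ProjectiveSpecialLinearGroup (Fin 2) F)) :=
      { toFun := fun y => ⟨pr y, h3 y y.2⟩
        map_one' := Subtype.ext (map_one _)
        map_mul' := fun a b => Subtype.ext (map_mul _ _ _) }
    refine isCyclic_of_surjective f ?_
    rintro ⟨z, hz⟩
    obtain ⟨y, hy, hyz⟩ := h4 z hz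
    exact ⟨⟨y, hy⟩, Subtype.ext hyz⟩
  · refine cyclic_sylow (by norm_num) hpq (fun i h0 h2 => ?_) P
    have : i = 1 := by omega
    rw [this, pow_one]
    exact h1

/-- An irreducible element of `SL_2(F)`. -/
theorem exists_irred_two : ∃ x : Matrix.SpecialLinearGroup (Fin 2) F,
    ∀ W : Submodule F (Fin 2 → F), (∀ w ∈ W, (x : Matrix (Fin 2) (Fin 2) F) *ᵥ w ∈ W) → W = ⊥ ∨ W = ⊤ := by
  classical
  -- `t` not of the form `a + a⁻¹`
  obtain ⟨t, ht⟩ : ∃ t : F, ∀ a : Fˣ, (a : F) + ((a⁻¹ : Fˣ) : F) ≠ t := by
    by_contra hcon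
    push Not at hcon
    have h1 : Function.Surjective (fun a : Fˣ => (a : F) + ((a⁻¹ : Fˣ) : F)) := hcon
    have h2 := Fintype.card_le_of_surjective _ h1
    rw [Fintype.card_units] at h2
    have : 0 < Fintype.card F := Fintype.card_pos
    omega
  refine ⟨⟨!![0, -1; 1, t], by rw [det_fin_two_of]; ring⟩, fun W hW => ?_⟩
  by_cases h0 : finrank F W = 0
  · exact Or.inl (Submodule.finrank_eq_zero.1 h0)
  · by_cases h1 : finrank F W = 1
    · exfalso
      obtain ⟨v, μ, hv, hμ⟩ := eig_of_line (A := !![0, -1; 1, t]) (z := 1) (by rw [mul_one, one_mul]) W h1 hW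
      have e0 := congrFun hμ 0
      have e1 := congrFun hμ 1
      simp [mulVec, vecHead, vecTail] at e0 e1
      -- e0 : -v 1 = μ * v 0, e1 : v 0 + t * v 1 = μ * v 1
      have hv1 : v 1 ≠ 0 := by
        intro h
        rw [h] at e1
        apply hv
        funext i
        fin_cases i
        · simpa using e1
        · exact h
      have hμ0 : μ ≠ 0 := by
        rintro rfl
        rw [zero_mul, neg_eq_zero] at e0
        exact hv1 e0
      apply ht (Units.mk0 μ hμ0)
      rw [Units.val_mk0, Units.val_inv_eq_inv_val, Units.val_mk0]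
      have h2 : μ * μ + 1 = t * μ := by
        have h3 : (μ * μ + 1 - t * μ) * v 1 = 0 := by linear_combination (-μ) * e1 - e0
        rcases mul_eq_zero.1 h3 with h4 | h4
        · linear_combination h4
        · exact absurd h4 hv1
      field_simp
      linear_combination h2
    · right
      apply Submodule.eq_top_of_finrank_eq
      have h2 : finrank F W ≤ finrank F (Fin 2 → F) := Submodule.finrank_le _
      rw [finrank_fintype_fun_eq_card, Fintype.card_fin] at h2 ⊢
      omega

/-- In the defining characteristic. -/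
theorem noNorm_char (hn : 2 ≤ n) {p : ℕ} [hp : Fact p.Prime] (hp2 : p ≠ 2) (hpk : (p : F) = 0) :
    ∃ x : Matrix.ProjectiveSpecialLinearGroup (Fin n) F, NoNorm p x := by
  have : Nonempty (Fin n) := ⟨⟨0, by omega⟩⟩
  rcases hn.eq_or_lt with h2 | h3
  · subst h2
    obtain ⟨x, hx⟩ := exists_irred_two (F := F)
    exact ⟨pr x, noNorm_of_irred pr_surjective (by rw [ker_pr]) _ injective_toGL hpk hx⟩
  · have hq1 : 1 < Fintype.card F := Fintype.one_lt_card
    have hq2 : Fintype.card F ≠ 2 := by
      intro h
      obtain ⟨r, hr⟩ := CharP.exists F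
      have hfr : Fact r.Prime := ⟨CharP.char_is_prime F r⟩
      have h1 := (CharP.cast_eq_zero_iff F r p).1 hpk
      have h2 := (Nat.prime_dvd_prime_iff_eq hfr.1 hp.1).1 h1
      obtain ⟨m, hrp, hm⟩ := FiniteField.card F r
      rw [h] at hm
      have h4 : r ∣ 2 := by rw [hm]; exact dvd_pow_self _ m.ne_zero
      have h5 := (Nat.prime_dvd_prime_iff_eq hfr.1 Nat.prime_two).1 h4
      exact hp2 (h2.symm.trans h5)
    obtain ⟨l, hl, hlm, hnl, hlq⟩ := exists_primitive (a := Fintype.card F) (n := n) hq1 (by omega)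
      (fun h => by omega) (fun h => hq2 h.1)
    have hP1 : Prim (Nat.card F) l n := by rw [Nat.card_eq_fintype_card]; exact Prim.of_iff hl hlm
    have hfl : Fact l.Prime := ⟨hl⟩
    obtain ⟨x, hx⟩ := exists_prime_orderOf_dvd_card' l (dvd_card_SL (F := F) (j := n) hn le_rfl ((hlm n).2 (dvd_refl n)))
    refine ⟨pr x, noNorm_of_irred pr_surjective (by rw [ker_pr]) _ injective_toGL hpk (irred hP1 ?_ ?_)⟩
    · have h1 : x ^ l = 1 := by rw [← hx, pow_orderOf_eq_one]
      have h2 := congrArg Subtype.val h1
      rwa [Matrix.SpecialLinearGroup.coe_pow] at h2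
    · intro h1
      have h2 : x = 1 := Subtype.ext h1
      rw [h2, orderOf_one] at hx
      exact hl.one_lt.ne hx

end

end Cfsg.Agent.H999.RowPSL
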