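import Cfsg.Agent.H999.McPSp
import Cfsg.Agent.LieExceptional.SingerCentralizer
import Cfsg.Agent.S0270
import Cfsg.Agent.S2142
import Cfsg.Agent.H436.Ppd

/-!
# Maximal subgroups of `PSp_{2m}(q)`, rows (helper999, for S5906, S5907)
-/

set_option autoImplicit false
set_option linter.unusedSectionVars false

namespace Cfsg.Agent.H999.McPSp

open Matrix Cfsg Cfsg.Agent.ClassicalGeometry.SympBasic Cfsg.Agent.ClassicalGeometry.SympSiegel
open Cfsg.Agent.H940 Cfsg.Agent.H940.MaxCls Cfsg.Agent.H436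

variable {F : Type*} [Field F]

/-- an orthogonal decomposition -/
theorem exists_dec {a b m : ℕ} (h : a + b = m) :
    ∃ e : ((Fin a ⊕ Fin a → F) × (Fin b ⊕ Fin b → F)) ≃ₗ[F] (Fin m ⊕ Fin m → F),
      ∀ x y, sympForm m F (e x) (e y) = sympForm a F x.1 y.1 + sympForm b F x.2 y.2 := by
  obtain ⟨B, hB⟩ : ∃ B : LinearMap.BilinForm F ((Fin a ⊕ Fin a → F) × (Fin b ⊕ Fin b → F)),
      ∀ u v, B u v = sympForm a F u.1 v.1 + sympForm b F u.2 v.2 :=
    ⟨(sympBilin a F).compl₁₂ (LinearMap.fst F _ _) (LinearMap.fst F _ _) +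
      (sympBilin b F).compl₁₂ (LinearMap.snd F _ _) (LinearMap.snd F _ _), fun u v => rfl⟩
  obtain ⟨e, he⟩ := ClassicalGeometry.SympIso.exists_linearEquiv_sympForm B
    (fun x => by rw [hB, sympForm_self, sympForm_self, add_zero])
    (fun u hu => by
      apply Prod.ext
      · refine eq_zero_of_forall_sympForm_right fun v => ?_
        have := hu (v, 0)
        rw [hB, sympForm_zero_right, add_zero] at this
        exact this
      · refine eq_zero_of_forall_sympForm_right fun v => ?_
        have := hu (0, v)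
        rw [hB, sympForm_zero_right, zero_add] at this
        exact this) (k := m) (by simp; omega)
  refine ⟨e.symm, fun x y => ?_⟩
  rw [← he, e.apply_symm_apply, e.apply_symm_apply, hB]

section Fin

variable {m : ℕ} [Fintype F]

local notation "V" => (Fin m ⊕ Fin m → F)
local notation "G" => Matrix.symplecticGroup (Fin m) F

/-- the product of the orders of the tori in `|Sp|` -/
def tor (q m : ℕ) : ℕ := ∏ i ∈ Finset.range m, (q ^ (2 * (i + 1)) - 1)

theorem card_sp (m : ℕ) : Nat.card (Matrix.symplecticGroup (Fin m) F) =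
    Fintype.card F ^ (m ^ 2) * tor (Fintype.card F) m :=
  LieClassical.SympCount.card_symplecticGroup m

theorem coprime_tor {q : ℕ} (hq : 1 ≤ q) (m : ℕ) : Nat.Coprime q (tor q m) := by
  refine Nat.Coprime.prod_right fun i _ => ?_
  have h1 : 1 ≤ q ^ (2 * (i + 1)) := Nat.one_le_pow _ _ hq
  have h2 : Nat.Coprime (q ^ (2 * (i + 1))) (q ^ (2 * (i + 1)) - 1) := by
    rw [Nat.coprime_self_sub_right h1]
    exact Nat.coprime_one_right _
  exact Nat.Coprime.coprime_dvd_left (dvd_pow_self q (by omega)) h2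

/-- **the index of `D e` is divisible by `p`** -/
theorem dvd_index_D {k p : ℕ} (hk : 1 ≤ k) (hm : 1 + k = m) [hp : Fact p.Prime] [CharP F p]
    (e : ((Fin 1 ⊕ Fin 1 → F) × (Fin k ⊕ Fin k → F)) ≃ₗ[F] (Fin m ⊕ Fin m → F))
    (he : ∀ x y, sympForm m F (e x) (e y) = sympForm 1 F x.1 y.1 + sympForm k F x.2 y.2) :
    p ∣ (D e).index := by
  have hq : 1 < Fintype.card F := Fintype.one_lt_card
  have h1 : Fintype.card F ^ (m ^ 2) ∣ 2 * (Nat.card (Matrix.symplecticGroup (Fin 1) F) *
      Nat.card (Matrix.symplecticGroup (Fin k) F)) * (D e).index := by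
    refine dvd_trans ?_ (mul_dvd_mul_right (card_D_dvd e he le_rfl) _)
    rw [Subgroup.card_mul_index, card_sp]
    exact dvd_mul_right _ _
  rw [card_sp, card_sp] at h1
  have h2 : 2 * (Fintype.card F ^ 1 ^ 2 * tor (Fintype.card F) 1 * (Fintype.card F ^ k ^ 2 * tor (Fintype.card F) k)) *
      (D e).index = (tor (Fintype.card F) 1 * tor (Fintype.card F) k) *
        (Fintype.card F ^ (1 + k ^ 2) * (2 * (D e).index)) := by
    rw [pow_add, one_pow]; ring
  rw [h2] at h1
  have h3 : Nat.Coprime (Fintype.card F ^ (m ^ 2)) (tor (Fintype.card F) 1 * tor (Fintype.card F) k) :=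
    Nat.Coprime.pow_left _ (Nat.Coprime.mul_right (coprime_tor hq.le 1) (coprime_tor hq.le k))
  have h4 := h3.dvd_of_dvd_mul_left h1
  have h5 : m ^ 2 = (1 + k ^ 2) + 2 * k := by rw [← hm]; ring
  rw [h5, pow_add] at h4
  have h6 := Nat.dvd_of_mul_dvd_mul_left (Nat.pow_pos (by omega)) h4
  have h7 : p ^ 2 ∣ 2 * (D e).index := by
    refine dvd_trans ?_ h6
    obtain ⟨n, -, hn⟩ := FiniteField.card F p
    rw [hn, ← pow_mul]
    exact pow_dvd_pow _ (by have := n.pos; nlinarith)
  rcases Nat.Prime.eq_two_or_odd' hp.out with h8 | h8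
  · subst h8
    obtain ⟨c, hc⟩ := h7
    exact ⟨c, by omega⟩
  · refine Nat.Coprime.dvd_of_dvd_mul_left ?_ (dvd_trans (dvd_pow_self p two_ne_zero) h7)
    exact (Nat.coprime_primes hp.out Nat.prime_two).2 (by rintro rfl; revert h8; decide)

/-- the projection -/
def pr (m : ℕ) (F : Type*) [Field F] : Matrix.symplecticGroup (Fin m) F →* PSp m F :=
  QuotientGroup.mk' (Subgroup.center (Matrix.symplecticGroup (Fin m) F))

omit [Fintype F] in
theorem pr_surjective : Function.Surjective (pr m F) := QuotientGroup.mk'_surjective _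

omit [Fintype F] in
theorem ker_pr : (pr m F).ker = Subgroup.center G := QuotientGroup.ker_mk' _

/-- **`N` : the stabilizer of `{U, U^⊥}`, `dim U = 2`, in `PSp`** -/
theorem psp_coatom {m : ℕ} (hm : 2 ≤ m) {p : ℕ} [Fact p.Prime] [CharP F p] :
    ∃ A : Subgroup (PSp m F), IsCoatom A ∧ p ∣ A.index ∧
      Nat.card A ∣ 2 * (Nat.card (Matrix.symplecticGroup (Fin 1) F) *
        Nat.card (Matrix.symplecticGroup (Fin (m - 1)) F)) := by
  obtain ⟨e, he⟩ := exists_dec (F := F) (a := 1) (b := m - 1) (m := m) (by omega)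
  refine ⟨(D e).map (pr m F), ?_, ?_, ?_⟩
  · exact isCoatom_map _ pr_surjective (isCoatom_D e he le_rfl (by omega)) (by rw [ker_pr]; exact center_le_D e)
  · rw [index_map _ pr_surjective (by rw [ker_pr]; exact center_le_D e)]
    exact dvd_index_D (by omega) (by omega) e he
  · exact dvd_trans (Subgroup.card_map_dvd _ _) (card_D_dvd e he le_rfl)

theorem psp_five_ge4 {m : ℕ} (hm : 4 ≤ m) : MaxCls.Sep 5 (PSp m F) := by
  obtain ⟨p, hp⟩ := CharP.exists F
  have : Fact p.Prime := ⟨CharP.char_is_prime F p⟩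
  obtain ⟨A, hA, hi, -⟩ := psp_coatom (F := F) (m := m) (p := p) (by omega)
  have h1 := SepTyp.sep_typ_coatoms (Omega.ML.Ex.Typ.typ_PSp (F := F) (m := m) (p := p) (by omega)) (k := 1)
    (fun _ => A) (fun _ => hA) (fun i j hij => absurd hij (by rw [Subsingleton.elim i j]; exact lt_irrefl _))
    (fun _ => hi)
  exact h1.mono (by omega)

/-! ### subgroups containing a Sylow `p`-subgroup -/

omit [Fintype F] in
theorem K_scale {H : Subgroup G} {v : V} (hv : v ∈ K H) (c : F) : c • v ∈ K H := by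
  intro d
  rw [transv_smul_vec]
  exact hv _

omit [Fintype F] in
/-- a subgroup containing the unipotent radical of the stabilizer of `⟨e⟩` and moving `⟨e⟩` off `e^⊥` -/
theorem eq_top_of_Q {H : Subgroup G} {e : V} (hQ : Q e ≤ H) {h : G} (hh : h ∈ H)
    (hne : sympForm m F e (h • e) ≠ 0) : H = ⊤ := by
  have he : e ≠ 0 := by
    rintro rfl
    exact hne (sympForm_zero_left _)
  have heK : e ∈ K H := fun c => hQ (transv_mem_Q e c)
  obtain ⟨w, hw⟩ : ∃ w, w = h • e := ⟨_, rfl⟩
  have hwK : w ∈ K H := by rw [hw]; exact K_smul hh heK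
  rw [← hw] at hne
  have h1 : ∀ v : V, sympForm m F e v ≠ 0 → v ∈ K H := by
    intro v hv
    obtain ⟨v', hv'⟩ : ∃ v' : V, v' = (sympForm m F e w * (sympForm m F e v)⁻¹) • v := ⟨_, rfl⟩
    have h2 : sympForm m F e v' = sympForm m F e w := by
      rw [hv', sympForm_smul_right, mul_assoc, inv_mul_cancel₀ hv, mul_one]
    have h3 : v' ∈ K H := by
      obtain ⟨u, hu⟩ : ∃ u : V, u = (sympForm m F e w)⁻¹ • (v' - w) := ⟨_, rfl⟩
      have h4 : sympForm m F e u = 0 := by
        rw [hu, sympForm_smul_right, sympForm_sub_right, h2, sub_self, mul_zero]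
      have h5 : siegel e u (-(sympForm m F u w) * (sympForm m F e w)⁻¹) • w = v' := by
        rw [siegel_smul h4, smul_add]
        have h6 : sympForm m F e w • u = v' - w := by
          rw [hu, smul_smul, mul_inv_cancel₀ hne, one_smul]
        rw [h6, smul_smul]
        have h7 : sympForm m F e w * (-sympForm m F u w * (sympForm m F e w)⁻¹) = - sympForm m F u w := by
          field_simp
        rw [h7]
        module
      rw [← h5]
      exact K_smul (hQ (siegel_mem_Q h4 _)) hwK
    have h8 : v = (sympForm m F e v * (sympForm m F e w)⁻¹) • v' := by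
      rw [hv', smul_smul]
      have : sympForm m F e v * (sympForm m F e w)⁻¹ * (sympForm m F e w * (sympForm m F e v)⁻¹) = 1 := by
        field_simp
      rw [this, one_smul]
    rw [h8]
    exact K_scale h3 _
  apply eq_top_of_K
  intro x
  by_cases hx : sympForm m F e x = 0
  · by_cases hx0 : x = 0
    · subst hx0
      intro c
      have : transv (0 : V) c = 1 := by
        apply ext_smul
        intro y
        rw [transv_smul, smul_zero, add_zero, one_smul]
      rw [this]
      exact H.one_mem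
    obtain ⟨y, hy1, hy2⟩ := exists_both_ne_zero hx0 he
    have h2 : x + y ∈ K H := h1 _ (by rw [sympForm_add_right, hx, zero_add]; exact hy2)
    have h3 : transv y (-(sympForm m F x y)⁻¹) • (x + y) = x := by
      rw [transv_smul, sympForm_add_left, sympForm_self, add_zero, neg_mul, inv_mul_cancel₀ hy1]
      module
    rw [← h3]
    exact K_smul (h1 y hy2 _) h2
  · exact h1 x hx

/-- a subgroup of index prime to `p` contains some `Q e` -/
theorem exists_Q_le (hm : 1 ≤ m) {p : ℕ} [Fact p.Prime] [CharP F p] {H : Subgroup G} (hi : ¬ p ∣ H.index) :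
    ∃ e : V, e ≠ 0 ∧ Q e ≤ H := by
  obtain ⟨v0, hv0⟩ : ∃ v : V, v ≠ 0 := ⟨Pi.single (Sum.inl ⟨0, hm⟩) 1, by simp⟩
  have hP := isPGroup_Q p v0
  have h1 : ¬ p ∣ Nat.card (G ⧸ H) := by rwa [← Subgroup.index_eq_card]
  obtain ⟨x, hx⟩ := hP.nonempty_fixed_point_of_prime_not_dvd_card (G ⧸ H) h1
  obtain ⟨g, rfl⟩ := QuotientGroup.mk_surjective x
  refine ⟨g⁻¹ • v0, smul_ne_zero' _ hv0, fun y hy => ?_⟩
  have h2 : g * y * g⁻¹ ∈ Q v0 := by
    have h3 := (smul_mem_Q_iff g (g⁻¹ • v0) y).2 hy
    rwa [smul_inv_smul] at h3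
  have h4 := hx ⟨_, h2⟩
  have h5 : (QuotientGroup.mk (g * y * g⁻¹ * g) : G ⧸ H) = QuotientGroup.mk g := h4
  rw [eq_comm, QuotientGroup.eq] at h5
  have h6 : g⁻¹ * (g * y * g⁻¹ * g) = y := by group
  rwa [h6] at h5

/-- an element of order `r`, a primitive prime divisor of `q ^ (2m) - 1` -/
theorem exists_pow_form {r : ℕ} (hr : Prim (Fintype.card F) (2 * m) r) {y : G} (hy : orderOf y = r) {e : V}
    (he : e ≠ 0) : ∃ i : ℕ, sympForm m F e (y ^ i • e) ≠ 0 := by
  by_contra hc
  push Not at hc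
  obtain ⟨g, hg⟩ : ∃ g : Module.End F V, ∀ v, g v = y • v :=
    ⟨Matrix.toLin' (y : Matrix (Fin m ⊕ Fin m) (Fin m ⊕ Fin m) F), fun v => rfl⟩
  have hpow : ∀ (n : ℕ) (v : V), (g ^ n) v = y ^ n • v := by
    intro n
    induction n with
    | zero => intro v; simp
    | succ n ih => intro v; rw [pow_succ, pow_succ, Module.End.mul_apply, hg, ih, mul_smul]
  have hgr : g ^ r = 1 := by
    refine LinearMap.ext fun v => ?_
    rw [hpow, ← hy, pow_orderOf_eq_one, one_smul]
    rfl
  have hg1 : g ≠ 1 := by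
    intro h
    have h1 : y = 1 := by
      apply ext_smul
      intro v
      rw [← hg, h, one_smul]
      rfl
    rw [h1, orderOf_one] at hy
    exact hr.prime.one_lt.ne hy
  have hfin : Module.finrank F V = 2 * m := by
    rw [Module.finrank_fintype_fun_eq_card]
    simp
    omega
  let W : Submodule F V := Submodule.span F (Set.range fun i : ℕ => y ^ i • e)
  have hW : ∀ w ∈ W, g w ∈ W := by
    intro w hw
    have h1 : W ≤ W.comap g := by
      rw [Submodule.span_le]
      rintro _ ⟨i, rfl⟩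
      change g (y ^ i • e) ∈ W
      rw [hg, ← mul_smul, ← pow_succ']
      exact Submodule.subset_span ⟨i + 1, rfl⟩
    exact h1 hw
  have heW : e ∈ W := Submodule.subset_span ⟨0, by simp⟩
  rcases LieExceptional.SingerCentralizer.invariant_eq_bot_or_top hr.prime hgr hg1
    (by rw [hfin, Nat.card_eq_fintype_card]; exact hr.dvd dvd_rfl)
    (fun d hd hd2 => by
      rw [hfin] at hd2
      rw [Nat.card_eq_fintype_card]
      exact hr.not_dvd_sub fun h => absurd (Nat.le_of_dvd hd h) (by omega)) W hW with h | h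
  · rw [h, Submodule.mem_bot] at heW
    exact he heW
  · obtain ⟨v, hv⟩ := exists_form_eq_one he
    have h1 : W ≤ LinearMap.ker (sympBilin m F e) := by
      rw [Submodule.span_le]
      rintro _ ⟨i, rfl⟩
      exact hc i
    have h2 : v ∈ W := by rw [h]; trivial
    have h3 : sympForm m F e v = 0 := h1 h2
    rw [hv] at h3
    exact one_ne_zero h3

/-- **irreducible cyclic subgroups are apart from the Borel subgroup** -/
theorem apart_prim (hm : 1 ≤ m) {p : ℕ} [Fact p.Prime] [CharP F p] (S : Sylow p (PSp m F)) {r : ℕ}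
    (hr : Prim (Fintype.card F) (2 * m) r) {x : G} (hx : orderOf x = r) :
    Apart (Subgroup.normalizer ((S : Subgroup (PSp m F)) : Set (PSp m F))) (Subgroup.zpowers (pr m F x)) := by
  intro g K h1 h2
  obtain ⟨g', rfl⟩ := pr_surjective g
  have hi : ¬ p ∣ (K.comap (pr m F)).index := by
    rw [Subgroup.index_comap_of_surjective _ pr_surjective]
    intro hd
    exact S.not_dvd_index (hd.trans (Subgroup.index_dvd_of_le (Subgroup.le_normalizer.trans h1)))
  obtain ⟨e, he, hQ⟩ := exists_Q_le hm hi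
  have hy : g' * x * g'⁻¹ ∈ K.comap (pr m F) := by
    rw [Subgroup.mem_comap, map_mul, map_mul, map_inv]
    exact h2 _ (Subgroup.mem_zpowers _)
  obtain ⟨i, hi⟩ := exists_pow_form hr (y := g' * x * g'⁻¹) (by
    rw [← hx]; exact orderOf_injective (MulAut.conj g').toMonoidHom (MulAut.conj g').injective x) he
  have h3 := eq_top_of_Q hQ (pow_mem hy i) hi
  rw [← Subgroup.map_comap_eq_self_of_surjective (pr_surjective (F := F) (m := m)) K, h3]
  exact Subgroup.map_top_of_surjective _ pr_surjective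

theorem orderOf_pr {m : ℕ} (hm : 1 ≤ m) {r : ℕ} (hr : r.Prime) (hr2 : r ≠ 2) {x : Matrix.symplecticGroup (Fin m) F}
    (hx : orderOf x = r) : orderOf (pr m F x) = r := by
  have : Fact r.Prime := ⟨hr⟩
  apply orderOf_eq_prime
  · rw [← map_pow, ← hx, pow_orderOf_eq_one, map_one]
  · intro h
    have h1 : x ∈ Subgroup.center (Matrix.symplecticGroup (Fin m) F) := by
      rw [← ker_pr]; exact h
    have h2 : orderOf x ∣ Nat.gcd 2 (Fintype.card F - 1) := by
      rw [← LieClassical.SympCenter.card_center hm]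
      exact Subgroup.orderOf_dvd_natCard _ h1
    rw [hx] at h2
    exact hr2 ((Nat.prime_dvd_prime_iff_eq hr Nat.prime_two).1 (h2.trans (Nat.gcd_dvd_left _ _)))

/-- **rank `m`, the stabilizer of a nondegenerate 2-space and an irreducible cyclic group** -/
theorem psp_succ {m : ℕ} (hm : 2 ≤ m) (h6 : ¬ (Fintype.card F = 2 ∧ 2 * m = 6)) : MaxCls.Sep (m + 2) (PSp m F) := by
  obtain ⟨p, hp⟩ := CharP.exists F
  have : Fact p.Prime := ⟨CharP.char_is_prime F p⟩
  obtain ⟨A, hA, hi, hc⟩ := psp_coatom (F := F) (m := m) (p := p) hm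
  have hq : 1 < Fintype.card F := Fintype.one_lt_card
  obtain ⟨r, hr⟩ := exists_prim (q := Fintype.card F) (e := 2 * m) hq (by omega) h6
  have hr2 : r ≠ 2 := by
    have := hr.odd (by omega)
    rintro rfl
    omega
  have : Fact r.Prime := ⟨hr.prime⟩
  have hrd : r ∣ Nat.card (Matrix.symplecticGroup (Fin m) F) := by
    rw [card_sp, tor]
    refine Dvd.dvd.mul_left ?_ _
    refine dvd_trans ?_ (Finset.dvd_prod_of_mem _ (Finset.mem_range.2 (show m - 1 < m by omega)))
    rw [show m - 1 + 1 = m by omega]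
    exact hr.dvd dvd_rfl
  obtain ⟨x, hx⟩ := exists_prime_orderOf_dvd_card' r hrd
  have hx' := orderOf_pr (F := F) (m := m) (by omega) hr.prime hr2 hx
  have hrA : ¬ r ∣ Nat.card A := by
    intro h
    have h1 := h.trans hc
    rw [card_sp, card_sp] at h1
    have h2 : ∀ k, k < m → ¬ r ∣ tor (Fintype.card F) k := by
      intro k hk hd
      rw [tor, Prime.dvd_finsetProd_iff hr.prime.prime] at hd
      obtain ⟨i, hi, hd⟩ := hd
      rw [Finset.mem_range] at hi
      exact hr.not_dvd_sub (fun h => absurd (Nat.le_of_dvd (by omega) h) (by omega)) hd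
    rcases hr.prime.dvd_mul.1 h1 with h3 | h3
    · exact hr2 ((Nat.prime_dvd_prime_iff_eq hr.prime Nat.prime_two).1 h3)
    rcases hr.prime.dvd_mul.1 h3 with h3 | h3 <;> rcases hr.prime.dvd_mul.1 h3 with h3 | h3
    · exact hr.not_dvd_pow _ h3
    · exact h2 1 (by omega) h3
    · exact hr.not_dvd_pow _ h3
    · exact h2 (m - 1) (by omega) h3
  obtain ⟨S⟩ : Nonempty (Sylow p (PSp m F)) := inferInstance
  have hcard : Nat.card (Subgroup.zpowers (pr m F x)) = r := by rw [Nat.card_zpowers, hx']
  have h1 := SepTyp.sep_typ_coatoms_succ (Omega.ML.Ex.Typ.typ_PSp (F := F) (m := m) (p := p) (by omega)) S (k := 1)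
    (fun _ => A) (fun _ => hA) (fun i j hij => absurd hij (by rw [Subsingleton.elim i j]; exact lt_irrefl _))
    (fun _ => hi) (E := Subgroup.zpowers (pr m F x)) ?_ ?_ (apart_prim (by omega) S hr hx)
  · exact h1
  · intro h
    have h2 : Nat.card (PSp m F) = r := by rw [← hcard, h, Subgroup.card_top]
    have h3 : p ∣ r := by
      rw [← h2]
      exact hi.trans A.index_dvd_card
    have h4 : p = r := (Nat.prime_dvd_prime_iff_eq Fact.out hr.prime).1 h3
    apply hr.not_dvd
    rw [← h4]
    obtain ⟨n, -, hn⟩ := FiniteField.card F p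
    rw [hn]
    exact dvd_pow_self p n.ne_zero
  · intro _ g
    refine ⟨pr m F x, Subgroup.mem_zpowers _, fun h => hrA ?_⟩
    have h2 : orderOf (g * pr m F x * g⁻¹) = r := by
      rw [← hx']; exact orderOf_injective (MulAut.conj g).toMonoidHom (MulAut.conj g).injective _
    have h3 := Subgroup.orderOf_dvd_natCard A h
    rwa [h2] at h3

/-- `PSp₆(q)`, `q ≥ 3` -/
theorem psp_five_3 (h : 3 ≤ Fintype.card F) : MaxCls.Sep 5 (PSp 3 F) :=
  psp_succ (by norm_num) (by omega)

/-- `Sp₆(2)` -/
theorem psp_3_2 (h2 : Fintype.card F = 2) : MaxCls.Sep 5 (PSp 3 F) := by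
  obtain ⟨p, hp⟩ := CharP.exists F
  have : Fact p.Prime := ⟨CharP.char_is_prime F p⟩
  have hp2 : p = 2 := by
    obtain ⟨n, hpp, hn⟩ := FiniteField.card F p
    rw [h2] at hn
    exact ((Nat.prime_dvd_prime_iff_eq hpp Nat.prime_two).1 (by rw [hn]; exact dvd_pow_self p n.ne_zero))
  subst hp2
  obtain ⟨A, hA, hi, hc⟩ := psp_coatom (F := F) (m := 3) (p := 2) (by norm_num)
  obtain ⟨E, hE⟩ := (S2142.result h2 3 le_rfl).2
  norm_num at hE
  have hsimple : IsSimpleGroup (PSp 3 F) := S0270.result 3 (by norm_num) (by norm_num)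
  have hcard : Nat.card (PSp 3 F) = 1451520 := by
    have h3 : Nat.card (Matrix.symplecticGroup (Fin 3) F) = Nat.card (PSp 3 F) *
        Nat.card (Subgroup.center (Matrix.symplecticGroup (Fin 3) F)) :=
      Subgroup.card_eq_card_quotient_mul_card_subgroup _
    rw [LieClassical.SympCenter.card_center (by norm_num), card_sp, h2, tor] at h3
    rw [Finset.prod_range_succ, Finset.prod_range_succ, Finset.prod_range_succ, Finset.prod_range_zero] at h3
    norm_num at h3
    exact h3.symm
  have hcE : Nat.card E = 51840 := by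
    have h3 := Subgroup.card_mul_index E
    rw [hE, hcard] at h3
    omega
  obtain ⟨S⟩ : Nonempty (Sylow 2 (PSp 3 F)) := inferInstance
  have hEtop : E ≠ ⊤ := by
    rintro rfl
    rw [Subgroup.index_top] at hE
    omega
  refine SepTyp.sep_typ_coatoms_succ (Omega.ML.Ex.Typ.typ_PSp (F := F) (m := 3) (p := 2) (by norm_num)) S (k := 1)
    (fun _ => A) (fun _ => hA) (fun i j hij => absurd hij (by rw [Subsingleton.elim i j]; exact lt_irrefl _))
    (fun _ => hi) (E := E) hEtop ?_ ?_
  · intro _ g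
    by_contra hc2
    push Not at hc2
    have h3 : 51840 ∣ Nat.card A := by
      rw [← hcE, ← card_map_conj g]
      exact Subgroup.card_dvd_of_le (map_conj_le hc2)
    have h4 := h3.trans hc
    rw [card_sp, card_sp, h2, tor, tor] at h4
    rw [Finset.prod_range_succ, Finset.prod_range_zero, Finset.prod_range_succ, Finset.prod_range_succ,
      Finset.prod_range_zero] at h4
    norm_num at h4
  · intro g K h3 h4
    by_contra hK
    have h5 : ¬ 2 ∣ K.index := fun hd =>
      S.not_dvd_index (hd.trans (Subgroup.index_dvd_of_le (Subgroup.le_normalizer.trans h3)))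
    have h6 : 51840 ∣ Nat.card K := by
      rw [← hcE, ← card_map_conj g]
      exact Subgroup.card_dvd_of_le (map_conj_le h4)
    have h7 := Subgroup.card_mul_index K
    rw [hcard] at h7
    obtain ⟨c, hc3⟩ := h6
    have h8 : c * K.index = 28 := by
      rw [hc3] at h7
      have : 51840 * (c * K.index) = 51840 * 28 := by rw [← mul_assoc, h7]
      omega
    have h9 : K.index ∣ 28 := ⟨c, by rw [← h8, mul_comm]⟩
    have h10 : K.index ≤ 28 := Nat.le_of_dvd (by norm_num) h9
    have h11 := card_dvd_factorial hK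
    rw [hcard] at h11
    obtain ⟨n, hn⟩ : ∃ n, n = K.index := ⟨_, rfl⟩
    rw [← hn] at h5 h9 h10 h11
    have h12 : n = 1 ∨ n = 7 := by
      interval_cases n <;> revert h5 h9 <;> decide
    rcases h12 with rfl | rfl
    · revert h11; decide
    · revert h11; decide

/-- **all `m ≥ 3`** -/
theorem psp_five {m : ℕ} (hm : 3 ≤ m) : MaxCls.Sep 5 (PSp m F) := by
  have hq : 1 < Fintype.card F := Fintype.one_lt_card
  rcases Nat.lt_or_ge 3 m with h | h
  · exact psp_five_ge4 h
  · obtain rfl : m = 3 := le_antisymm h hm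
    rcases Nat.lt_or_ge 2 (Fintype.card F) with h2 | h2
    · exact psp_five_3 h2
    · exact psp_3_2 (by omega)

end Fin

end Cfsg.Agent.H999.McPSp
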