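import Mathlib
import Cfsg.Agent.H940.SepTyp
import Cfsg.Agent.S0776
import Cfsg.Agent.S0765
import Cfsg.Agent.ClassicalGeometry.SympSiegel
import Cfsg.Agent.ClassicalGeometry.SympIso
import Cfsg.Agent.LieClassical.SympPerfect
import Cfsg.Agent.LieClassical.SympCount
import Cfsg.Agent.LieClassical.SympCenter

/-!
# Maximal subgroups of `PSp_{2m}(q)` (helper999, for S5906, S5907)

`D e` : the stabilizer in `Sp_{2m}(F)` of the set `U ∪ U^⊥` for an orthogonal decomposition `e : U ⊥ U^⊥ ≃ V`; it is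
maximal (two orbits on transvection groups).
-/

set_option autoImplicit false
set_option linter.unusedSectionVars false

namespace Cfsg.Agent.H999.McPSp

open Matrix Cfsg Cfsg.Agent.ClassicalGeometry.SympBasic Cfsg.Agent.ClassicalGeometry.SympSiegel

/-! ### general lemmas -/

section Gen

variable {X Y : Type*} [Group X] [Group Y]

theorem isCoatom_map (f : X →* Y) (hf : Function.Surjective f) {D : Subgroup X} (hD : IsCoatom D) (hk : f.ker ≤ D) :
    IsCoatom (D.map f) := by
  constructor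
  · intro h
    apply hD.1
    have h1 := congrArg (Subgroup.comap f) h
    rwa [Subgroup.comap_map_eq_self hk, Subgroup.comap_top] at h1
  · intro K hK
    have h1 : D < K.comap f := by
      refine lt_of_le_of_ne (Subgroup.map_le_iff_le_comap.1 hK.le) fun h => ?_
      apply hK.ne
      rw [h, Subgroup.map_comap_eq_self_of_surjective hf]
    have h2 := hD.2 _ h1
    rw [← Subgroup.map_comap_eq_self_of_surjective hf K, h2]
    exact Subgroup.map_top_of_surjective f hf

theorem index_map (f : X →* Y) (hf : Function.Surjective f) {D : Subgroup X} (hk : f.ker ≤ D) :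
    (D.map f).index = D.index := by
  rw [Subgroup.index_map, sup_eq_left.2 hk, MonoidHom.range_eq_top.2 hf, Subgroup.index_top, mul_one]

end Gen

variable {F : Type*} [Field F] {m : ℕ}

local notation "V" => (Fin m ⊕ Fin m → F)
local notation "G" => Matrix.symplecticGroup (Fin m) F

/-- the vectors whose transvection group lies in `H` -/
def K (H : Subgroup G) : Set V := {v | ∀ c, transv v c ∈ H}

theorem K_smul {H : Subgroup G} {h : G} (hh : h ∈ H) {v : V} (hv : v ∈ K H) : h • v ∈ K H := by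
  intro c
  rw [← conj_transv]
  exact H.mul_mem (H.mul_mem hh (hv c)) (H.inv_mem hh)

theorem eq_top_of_K {H : Subgroup G} (h : ∀ v : V, v ∈ K H) : H = ⊤ := by
  have hgen : transvGroup m F = ⊤ := Cfsg.Agent.S0765.result m
  rw [eq_top_iff, ← hgen, transvGroup, Subgroup.closure_le]
  rintro A ⟨w, c, hA⟩
  have : A = transv w c := Subtype.ext hA
  rw [this]
  exact h w c

theorem exists_smul_eq {x y : V} (hx : x ≠ 0) (hy : y ≠ 0) : ∃ g : G, g • x = y := by
  obtain ⟨A, -, hA⟩ := exists_transvGroup_mulVec_eq hx hy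
  exact ⟨A, hA⟩

section Dec

variable {a b : ℕ} (e : ((Fin a ⊕ Fin a → F) × (Fin b ⊕ Fin b → F)) ≃ₗ[F] (Fin m ⊕ Fin m → F))
  (he : ∀ x y, sympForm m F (e x) (e y) = sympForm a F x.1 y.1 + sympForm b F x.2 y.2)

/-- the vectors of `U ∪ U^⊥` -/
def InX (v : V) : Prop := (e.symm v).1 = 0 ∨ (e.symm v).2 = 0

/-- the stabilizer of `U ∪ U^⊥` -/
def D : Subgroup G where
  carrier := {g | ∀ v, InX e v ↔ InX e (g • v)}
  mul_mem' {g h} hg hh v := by
    rw [mul_smul, ← hg, ← hh]
  one_mem' v := by rw [one_smul]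
  inv_mem' {g} hg v := by
    rw [hg (g⁻¹ • v), smul_inv_smul]

theorem mem_D {g : G} : g ∈ D e ↔ ∀ v, InX e v ↔ InX e (g • v) := Iff.rfl

theorem inX_smul (c : F) {v : V} (h : InX e v) : InX e (c • v) := by
  rcases h with h | h
  · left; rw [map_smul, Prod.smul_fst, h, smul_zero]
  · right; rw [map_smul, Prod.smul_snd, h, smul_zero]

include he

theorem form_eq (u v : V) : sympForm m F u v =
    sympForm a F (e.symm u).1 (e.symm v).1 + sympForm b F (e.symm u).2 (e.symm v).2 := by
  rw [← he, e.apply_symm_apply, e.apply_symm_apply]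

/-- the transvections with respect to vectors of `U ∪ U^⊥` -/
theorem transv_inX {v : V} (hv : InX e v) (c : F) {x : V} (hx : InX e x) : InX e (transv v c • x) := by
  rw [transv_smul]
  rcases hv with hv | hv <;> rcases hx with hx | hx
  · left; rw [map_add, map_smul, Prod.fst_add, Prod.smul_fst, hv, hx, smul_zero, add_zero]
  · rw [form_eq e he, hv, hx, sympForm_zero_right, sympForm_zero_left, add_zero, mul_zero, zero_smul, add_zero]
    exact Or.inr hx
  · rw [form_eq e he, hv, hx, sympForm_zero_right, sympForm_zero_left, add_zero, mul_zero, zero_smul, add_zero]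
    exact Or.inl hx
  · right; rw [map_add, map_smul, Prod.snd_add, Prod.smul_snd, hv, hx, smul_zero, add_zero]

theorem transv_mem_D {v : V} (hv : InX e v) (c : F) : transv v c ∈ D e := by
  intro x
  refine ⟨fun h => transv_inX e he hv c h, fun h => ?_⟩
  have h1 := transv_inX e he hv (-c) h
  rwa [← transv_inv, inv_smul_smul] at h1

theorem blockHom_smul (A : Matrix.symplecticGroup (Fin a) F × Matrix.symplecticGroup (Fin b) F)
    (x : Fin a ⊕ Fin a → F) (y : Fin b ⊕ Fin b → F) :
    (S0776.blockHom e he A) • e (x, y) = e (A.1 • x, A.2 • y) :=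
  S0776.blockHom_mulVec e he A x y

theorem blockHom_mem_D (A : Matrix.symplecticGroup (Fin a) F × Matrix.symplecticGroup (Fin b) F) :
    S0776.blockHom e he A ∈ D e := by
  intro v
  obtain ⟨⟨x, y⟩, rfl⟩ := e.surjective v
  rw [blockHom_smul, InX, InX, e.symm_apply_apply, e.symm_apply_apply]
  exact or_congr (smul_eq_zero_iff' _ _).symm (smul_eq_zero_iff' _ _).symm

/-- **`D e` is maximal.** -/
theorem isCoatom_D (ha : 1 ≤ a) (hb : 1 ≤ b) : IsCoatom (D e) := by
  obtain ⟨u0, hu0⟩ : ∃ u : Fin a ⊕ Fin a → F, u ≠ 0 :=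
    ⟨Pi.single (Sum.inl ⟨0, ha⟩) 1, by simp⟩
  obtain ⟨w0, hw0⟩ : ∃ u : Fin b ⊕ Fin b → F, u ≠ 0 :=
    ⟨Pi.single (Sum.inl ⟨0, hb⟩) 1, by simp⟩
  have hnot : ∀ u w, u ≠ 0 → w ≠ 0 → ¬ InX e (e (u, w)) := by
    intro u w hu hw h
    rw [InX, e.symm_apply_apply] at h
    rcases h with h | h
    · exact hu h
    · exact hw h
  constructor
  · intro h
    obtain ⟨g, hg⟩ := exists_smul_eq (F := F) (m := m) (x := e (u0, 0)) (y := e (u0, w0))
      (by rw [Ne, LinearEquiv.map_eq_zero_iff, Prod.mk_eq_zero]; exact fun h => hu0 h.1)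
      (by rw [Ne, LinearEquiv.map_eq_zero_iff, Prod.mk_eq_zero]; exact fun h => hu0 h.1)
    have h1 : g ∈ D e := by rw [h]; trivial
    have h2 := (h1 (e (u0, 0))).1 (Or.inr (by rw [e.symm_apply_apply]))
    rw [hg] at h2
    exact hnot u0 w0 hu0 hw0 h2
  · intro H hH
    obtain ⟨h, hhH, hhD⟩ := SetLike.exists_of_lt hH
    -- a vector of `U ∪ U^⊥` moved out of it
    obtain ⟨h, hhH, x, hx, hx'⟩ : ∃ h ∈ H, ∃ x, InX e x ∧ ¬ InX e (h • x) := by
      rw [mem_D] at hhD
      push Not at hhD
      obtain ⟨v, hv⟩ := hhD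
      rcases hv with ⟨h1, h2⟩ | ⟨h1, h2⟩
      · exact ⟨h, hhH, v, h1, h2⟩
      · exact ⟨h⁻¹, H.inv_mem hhH, h • v, h2, by rwa [inv_smul_smul]⟩
    have hK : ∀ x, InX e x → x ∈ K H := fun x hx c => hH.le (transv_mem_D e he hx c)
    have hK' := K_smul hhH (hK x hx)
    obtain ⟨⟨u1, w1⟩, h1⟩ := e.surjective (h • x)
    rw [← h1] at hx' hK'
    have hu1 : u1 ≠ 0 := by
      rintro rfl
      exact hx' (Or.inl (by rw [e.symm_apply_apply]))
    have hw1 : w1 ≠ 0 := by
      rintro rfl
      exact hx' (Or.inr (by rw [e.symm_apply_apply]))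
    apply eq_top_of_K
    intro v
    by_cases hv : InX e v
    · exact hK v hv
    obtain ⟨⟨u, w⟩, rfl⟩ := e.surjective v
    have hu : u ≠ 0 := by
      rintro rfl
      exact hv (Or.inl (by rw [e.symm_apply_apply]))
    have hw : w ≠ 0 := by
      rintro rfl
      exact hv (Or.inr (by rw [e.symm_apply_apply]))
    obtain ⟨g1, hg1⟩ := exists_smul_eq hu1 hu
    obtain ⟨g2, hg2⟩ := exists_smul_eq hw1 hw
    have h2 := K_smul (hH.le (blockHom_mem_D e he (g1, g2))) hK'
    rwa [blockHom_smul, hg1, hg2] at h2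

omit he in
/-- the centre preserves `U ∪ U^⊥` -/
theorem center_le_D : Subgroup.center G ≤ D e := by
  intro z hz
  obtain ⟨c, hc⟩ := (LieClassical.SympCenter.mem_center_iff m z).1 hz
  have hzv : ∀ v : V, z • v = c • v := by
    intro v
    rw [smul_def, hc, Matrix.smul_mulVec, Matrix.one_mulVec]
  have hz' : z⁻¹ ∈ Subgroup.center G := inv_mem hz
  obtain ⟨c', hc'⟩ := (LieClassical.SympCenter.mem_center_iff m z⁻¹).1 hz'
  intro v
  constructor
  · intro h
    rw [hzv]
    exact inX_smul e c h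
  · intro h
    have h1 := inX_smul e c' h
    have h2 : c' • (z • v) = v := by
      have h3 : z⁻¹ • (z • v) = c' • (z • v) := by
        rw [smul_def z⁻¹, hc', Matrix.smul_mulVec, Matrix.one_mulVec]
      rw [← h3, inv_smul_smul]
    rwa [h2] at h1

/-! ### the order of `D e` -/

include he in
/-- an element of `D e` maps `U` into `U` or into `U^⊥` -/
theorem map_fst {g : G} (hg : g ∈ D e) :
    (∀ x, (e.symm (g • e (x, 0))).2 = 0) ∨ ∀ x, (e.symm (g • e (x, 0))).1 = 0 := by
  by_contra hc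
  push Not at hc
  obtain ⟨⟨x, hx⟩, y, hy⟩ := hc
  have h1 : InX e (g • e (x, 0)) := (hg _).1 (Or.inr (by rw [e.symm_apply_apply]))
  have h2 : InX e (g • e (y, 0)) := (hg _).1 (Or.inr (by rw [e.symm_apply_apply]))
  have h3 : InX e (g • e (x + y, 0)) := (hg _).1 (Or.inr (by rw [e.symm_apply_apply]))
  have h1' := h1.resolve_right hx
  have h2' := h2.resolve_left hy
  have h4 : g • e (x + y, 0) = g • e (x, 0) + g • e (y, 0) := by
    rw [← smul_add', ← map_add, Prod.mk_add_mk, add_zero]
  rw [h4, InX, map_add, Prod.fst_add, Prod.snd_add, h1', h2', zero_add, add_zero] at h3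
  rcases h3 with h3 | h3
  · exact hy h3
  · exact hx h3

include he in
/-- an element of `D e` maps `U^⊥` into `U` or into `U^⊥` -/
theorem map_snd {g : G} (hg : g ∈ D e) :
    (∀ x, (e.symm (g • e (0, x))).2 = 0) ∨ ∀ x, (e.symm (g • e (0, x))).1 = 0 := by
  by_contra hc
  push Not at hc
  obtain ⟨⟨x, hx⟩, y, hy⟩ := hc
  have h1 : InX e (g • e (0, x)) := (hg _).1 (Or.inl (by rw [e.symm_apply_apply]))
  have h2 : InX e (g • e (0, y)) := (hg _).1 (Or.inl (by rw [e.symm_apply_apply]))
  have h3 : InX e (g • e (0, x + y)) := (hg _).1 (Or.inl (by rw [e.symm_apply_apply]))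
  have h1' := h1.resolve_right hx
  have h2' := h2.resolve_left hy
  have h4 : g • e (0, x + y) = g • e (0, x) + g • e (0, y) := by
    rw [← smul_add', ← map_add, Prod.mk_add_mk, add_zero]
  rw [h4, InX, map_add, Prod.fst_add, Prod.snd_add, h1', h2', zero_add, add_zero] at h3
  rcases h3 with h3 | h3
  · exact hy h3
  · exact hx h3

include he in
/-- an element of `D e` mapping `U` into itself is in the image of `Sp(U) × Sp(U^⊥)` -/
theorem mem_range_of {g : G} (h : ∀ x, (e.symm (g • e (x, 0))).2 = 0) : g ∈ (S0776.blockHom e he).range := by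
  rw [S0776.mem_range_blockHom]
  intro v
  -- `g` is surjective on `U`
  let L : (Fin a ⊕ Fin a → F) →ₗ[F] (Fin a ⊕ Fin a → F) :=
    LinearMap.fst F _ _ ∘ₗ e.symm.toLinearMap ∘ₗ
      Matrix.toLin' (g : Matrix (Fin m ⊕ Fin m) (Fin m ⊕ Fin m) F) ∘ₗ e.toLinearMap ∘ₗ
      LinearMap.inl F _ _
  have hL : ∀ x, e (L x, 0) = g • e (x, 0) := by
    intro x
    have h3 : (L x, (0 : Fin b ⊕ Fin b → F)) = e.symm (g • e (x, 0)) :=
      Prod.ext rfl (h x).symm
    rw [h3, e.apply_symm_apply]
  have hinj : Function.Injective L := by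
    intro x y hxy
    have h1 : g • e (x, 0) = g • e (y, 0) := by rw [← hL, ← hL, hxy]
    have h2 := e.injective ((MulAction.injective g) h1)
    exact (Prod.ext_iff.1 h2).1
  have hsurj : Function.Surjective L := LinearMap.surjective_of_injective hinj
  constructor
  · intro hv
    have h1 : v = e ((e.symm v).1, 0) := by
      rw [← hv, Prod.mk.eta, e.apply_symm_apply]
    rw [h1]
    exact h _
  · intro hv
    change (e.symm (g • v)).2 = 0 at hv
    obtain ⟨x, hx⟩ := hsurj (e.symm (g • v)).1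
    have h1 : g • e (x, 0) = g • v := by
      rw [← hL, hx, ← hv, Prod.mk.eta, e.apply_symm_apply]
    have h2 := (MulAction.injective g) h1
    rw [← h2, e.symm_apply_apply]

theorem range_le_D : (S0776.blockHom e he).range ≤ D e := by
  rintro _ ⟨A, rfl⟩
  exact blockHom_mem_D e he A

/-- elements outside of the image interchange `U` and `U^⊥` -/
theorem swap_of_not_mem (ha : 1 ≤ a) {g : G} (hg : g ∈ D e) (hr : g ∉ (S0776.blockHom e he).range) :
    (∀ x, (e.symm (g • e (x, 0))).1 = 0) ∧ ∀ x, (e.symm (g • e (0, x))).2 = 0 := by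
  have h1 := (map_fst e he hg).resolve_left fun h => hr (mem_range_of e he h)
  refine ⟨h1, (map_snd e he hg).resolve_right fun h2 => ?_⟩
  obtain ⟨u0, hu0⟩ : ∃ u : Fin a ⊕ Fin a → F, u ≠ 0 :=
    ⟨Pi.single (Sum.inl ⟨0, ha⟩) 1, by simp⟩
  apply hu0
  obtain ⟨⟨x, y⟩, hxy⟩ := e.surjective (g⁻¹ • e (u0, 0))
  have h3 : g • e (x, y) = e (u0, 0) := by rw [hxy, smul_inv_smul]
  have h4 : g • e (x, y) = g • e (x, 0) + g • e (0, y) := by
    rw [← smul_add', ← map_add, Prod.mk_add_mk, add_zero, zero_add]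
  have h5 : (e.symm (g • e (x, y))).1 = 0 := by
    rw [h4, map_add, Prod.fst_add, h1, h2, add_zero]
  rw [h3, e.symm_apply_apply] at h5
  exact h5

theorem mul_mem_range (ha : 1 ≤ a) {g h : G} (hg : g ∈ D e) (hr : g ∉ (S0776.blockHom e he).range)
    (hh : h ∈ D e) (hs : h ∉ (S0776.blockHom e he).range) : g * h ∈ (S0776.blockHom e he).range := by
  apply mem_range_of e he
  intro x
  obtain ⟨h1, -⟩ := swap_of_not_mem e he ha hh hs
  obtain ⟨-, h2⟩ := swap_of_not_mem e he ha hg hr
  have h3 : h • e (x, 0) = e (0, (e.symm (h • e (x, 0))).2) := by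
    rw [← h1 x, Prod.mk.eta, e.apply_symm_apply]
  rw [mul_smul, h3]
  exact h2 _

/-- **the order of `D e`** -/
theorem card_D_dvd [Finite F] (ha : 1 ≤ a) :
    Nat.card (D e) ∣ 2 * (Nat.card (Matrix.symplecticGroup (Fin a) F) * Nat.card (Matrix.symplecticGroup (Fin b) F)) := by
  have hR : Nat.card (S0776.blockHom e he).range =
      Nat.card (Matrix.symplecticGroup (Fin a) F) * Nat.card (Matrix.symplecticGroup (Fin b) F) := by
    rw [← Nat.card_prod]
    exact (Nat.card_congr (MonoidHom.ofInjective (S0776.blockHom_injective e he)).toEquiv).symm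
  have hle := range_le_D e he
  have h1 : Nat.card (D e) = (((S0776.blockHom e he).range).subgroupOf (D e)).index *
      Nat.card (S0776.blockHom e he).range := by
    rw [← Nat.card_congr (Subgroup.subgroupOfEquivOfLe hle).toEquiv, mul_comm, Subgroup.card_mul_index]
  rw [h1, hR]
  refine mul_dvd_mul_right ?_ _
  by_cases hc : (S0776.blockHom e he).range = D e
  · rw [hc, Subgroup.subgroupOf_self, Subgroup.index_top]
    exact one_dvd _
  · obtain ⟨s, hs, hsR⟩ := SetLike.exists_of_lt (lt_of_le_of_ne hle hc)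
    have h2 : (((S0776.blockHom e he).range).subgroupOf (D e)).index = 2 := by
      rw [Subgroup.index_eq_two_iff]
      refine ⟨⟨s, hs⟩, ?_⟩
      rintro ⟨g, hg⟩
      rw [Subgroup.mem_subgroupOf, Subgroup.mem_subgroupOf]
      by_cases hgR : g ∈ (S0776.blockHom e he).range
      · right
        refine ⟨hgR, fun h => hsR ?_⟩
        exact ((S0776.blockHom e he).range.mul_mem_cancel_left hgR).1 h
      · left
        exact ⟨mul_mem_range e he ha hg hgR hs hsR, hgR⟩
    rw [h2]

end Dec

end Cfsg.Agent.H999.McPSp
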