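import Cfsg.Agent.H153.ZerosONCent

/-!
# The elements of order 7 of the O'Nan group are real (helper999)

`real_seven` : from `L₃(7) ≤ O'N` (S1693), of index prime to 7.
-/

set_option autoImplicit false

namespace Cfsg.Agent.H999.ONSeven

open Subgroup Cfsg
open Cfsg.Spor (ON)
open Cfsg.Agent.BpSpor.ONanThree
open Cfsg.Agent.H153.Zeros.ON19 (exists_hom finite_ON)

theorem solve : ∀ a b c : ZMod 7, (a ≠ 0 ∨ b ≠ 0) → ∃ s t : ZMod 7, c + s * -b + (s + -a) * -t + s * t = a * b - c := by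
  decide +kernel

theorem inv_U (a b c : ZMod 7) : (U a b c)⁻¹ = U (-a) (-b) (a * b - c) := by
  rw [inv_eq_iff_mul_eq_one, U_mul, ← U_zero]
  congr 1 <;> ring

/-- `diag(-1, 1, -1)` -/
def m1 : Matrix (Fin 3) (Fin 3) (ZMod 7) := !![6, 0, 0; 0, 1, 0; 0, 0, 6]
/-- `diag(-1, -1, 1)` -/
def m2 : Matrix (Fin 3) (Fin 3) (ZMod 7) := !![6, 0, 0; 0, 6, 0; 0, 0, 1]

def D1 : Matrix.SpecialLinearGroup (Fin 3) (ZMod 7) := ⟨m1, by decide +kernel⟩
def D2 : Matrix.SpecialLinearGroup (Fin 3) (ZMod 7) := ⟨m2, by decide +kernel⟩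

theorem D1_chk : ∀ a b c : ZMod 7, m1 * um a b c = um (-a) (-b) c * m1 := by decide +kernel

theorem D2_chk : ∀ c : ZMod 7, m2 * um 0 0 c = um 0 0 (-c) * m2 := by decide +kernel

theorem D1_U (a b c : ZMod 7) : D1 * U a b c = U (-a) (-b) c * D1 := Subtype.ext (D1_chk a b c)

theorem D2_U (c : ZMod 7) : D2 * U 0 0 c = U 0 0 (-c) * D2 := Subtype.ext (D2_chk c)

/-- the elements of the unitriangular group are real -/
theorem real_U (a b c : ZMod 7) : ∃ g : Matrix.SpecialLinearGroup (Fin 3) (ZMod 7),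
    g * U a b c * g⁻¹ = (U a b c)⁻¹ := by
  by_cases h : a ≠ 0 ∨ b ≠ 0
  · obtain ⟨s, t, hst⟩ := solve a b c h
    refine ⟨U s t 0 * D1, ?_⟩
    have h1 : U s t 0 * D1 * U a b c * (U s t 0 * D1)⁻¹ = U s t 0 * U (-a) (-b) c * (U s t 0)⁻¹ := by
      calc U s t 0 * D1 * U a b c * (U s t 0 * D1)⁻¹ = U s t 0 * (D1 * U a b c) * D1⁻¹ * (U s t 0)⁻¹ := by group
        _ = _ := by rw [D1_U]; group
    rw [h1, inv_U s t 0, inv_U a b c, U_mul, U_mul, ← hst]
    congr 1 <;> ring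
  · push Not at h
    obtain ⟨rfl, rfl⟩ := h
    refine ⟨D2, ?_⟩
    rw [D2_U, mul_inv_cancel_right, inv_U]
    congr 1 <;> ring

theorem um_inj : ∀ a b c a' b' c' : ZMod 7, um a b c = um a' b' c' → a = a' ∧ b = b' ∧ c = c' := by
  intro a b c a' b' c' h
  have h1 := congrFun (congrFun h 0) 1
  have h2 := congrFun (congrFun h 1) 2
  have h3 := congrFun (congrFun h 0) 2
  simp [um] at h1 h2 h3
  exact ⟨h1, h2, h3⟩

theorem card_uni : Nat.card uni = 343 := by
  have e : (ZMod 7 × ZMod 7 × ZMod 7) ≃ uni := by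
    refine Equiv.ofBijective (fun x => ⟨U x.1 x.2.1 x.2.2, x.1, x.2.1, x.2.2, rfl⟩) ⟨?_, ?_⟩
    · rintro ⟨a, b, c⟩ ⟨a', b', c'⟩ h
      have h1 : U a b c = U a' b' c' := congrArg Subtype.val h
      have h2 : um a b c = um a' b' c' := congrArg Subtype.val h1
      obtain ⟨rfl, rfl, rfl⟩ := um_inj _ _ _ _ _ _ h2
      rfl
    · rintro ⟨_, a, b, c, rfl⟩
      exact ⟨(a, b, c), rfl⟩
  rw [← Nat.card_congr e, Nat.card_prod, Nat.card_prod, Nat.card_zmod]

/-- **the elements of order 7 of `O'N` are real** -/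
theorem real_seven {y : ON} (hy : orderOf y = 7) : IsConj y y⁻¹ := by
  have := finite_ON
  have f7 : Fact (Nat.Prime 7) := ⟨by norm_num⟩
  obtain ⟨f, hf⟩ := exists_hom
  have hinj : ∀ a, f a = 1 → a ^ 7 = 1 → a = 1 := by
    intro a ha h7
    obtain ⟨r, hr, hra⟩ := Matrix.SpecialLinearGroup.mem_center_iff.1 (hf a ha)
    have h1 : a ^ 6 = 1 := by
      apply Subtype.ext
      have h2 : ∀ n : ℕ, (a ^ n).1 = (Matrix.scalar (Fin 3) r) ^ n := by
        intro n
        induction n with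
        | zero => rfl
        | succ n ih =>
          rw [pow_succ, pow_succ, ← ih, hra]
          rfl
      rw [h2, ← map_pow]
      have h3 : r ^ 6 = 1 := by
        rw [Fintype.card_fin] at hr
        have h4 : r ^ 6 = (r ^ 3) ^ 2 := by rw [← pow_mul]
        rw [h4, hr, one_pow]
      rw [h3, map_one]
      rfl
    have h2 : a ^ 7 = a ^ 6 * a := pow_succ a 6
    rw [h7, h1, one_mul] at h2
    exact h2.symm
  have hcard : Nat.card ↥(uni.map f) = 343 := by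
    rw [← card_uni]
    refine (Nat.card_congr (Equiv.ofBijective (fun x : uni => (⟨f x, x, x.2, rfl⟩ : ↥(uni.map f))) ⟨?_, ?_⟩)).symm
    · intro x y hxy
      have h1 : f x = f y := congrArg Subtype.val hxy
      have h2 : f ((x : Matrix.SpecialLinearGroup (Fin 3) (ZMod 7)) * (y : Matrix.SpecialLinearGroup (Fin 3) (ZMod 7))⁻¹) = 1 := by
        rw [map_mul, map_inv, h1, mul_inv_cancel]
      obtain ⟨a, b, c, habc⟩ := (uni.mul_mem x.2 (uni.inv_mem y.2))
      have h3 := hinj _ h2 (by rw [habc]; exact U_seven a b c)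
      exact Subtype.ext (mul_inv_eq_one.1 h3)
    · rintro ⟨_, x, hx, rfl⟩
      exact ⟨⟨x, hx⟩, rfl⟩
  have hfac : (Nat.card ON).factorization 7 = 3 := by
    rw [card_ON]
    have h2 : (460815505920 : ℕ) = 7 ^ 3 * 1343485440 := by norm_num
    rw [h2, Nat.factorization_mul (by norm_num) (by norm_num), Nat.Prime.factorization_pow (by norm_num)]
    have h3 : (1343485440 : ℕ).factorization 7 = 0 := Nat.factorization_eq_zero_of_not_dvd (by norm_num)
    simp [h3]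
  let P : Sylow 7 ON := Sylow.ofCard (uni.map f) (by rw [hcard, hfac]; norm_num)
  have hyp : IsPGroup 7 (zpowers y) := IsPGroup.of_card (n := 1) (by rw [Nat.card_zpowers, hy, pow_one])
  obtain ⟨Q, hQ⟩ := hyp.exists_le_sylow
  obtain ⟨g, hg⟩ := MulAction.exists_smul_eq ON Q P
  have h1 : g * y * g⁻¹ ∈ (P : Subgroup ON) := by
    rw [← hg]
    exact ⟨y, hQ (mem_zpowers y), rfl⟩
  obtain ⟨x, ⟨a, b, c, rfl⟩, hx⟩ := h1
  obtain ⟨k, hk⟩ := real_U a b c
  have h2 : f k * (g * y * g⁻¹) * (f k)⁻¹ = (g * y * g⁻¹)⁻¹ := by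
    rw [← hx, ← map_mul, ← map_inv, ← map_mul, ← map_inv]
    exact congrArg f hk
  rw [isConj_iff]
  refine ⟨g⁻¹ * f k * g, ?_⟩
  calc g⁻¹ * f k * g * y * (g⁻¹ * f k * g)⁻¹ = g⁻¹ * (f k * (g * y * g⁻¹) * (f k)⁻¹) * g := by group
    _ = y⁻¹ := by rw [h2]; group

end Cfsg.Agent.H999.ONSeven
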