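import Cfsg.Agent.H568.RowTools
import Cfsg.Agent.H568.LinP
import Cfsg.Agent.LieExceptional.SingerCentralizer
import Cfsg.Agent.LieExceptional.CyclicSylow

/-!
# Tools for the linear rows of S4329 (helper999)

* `exists_lift_order`, `exists_plift` : lifting elements of prime order and `p`-subgroups along a central extension;
* `pcent_of_lin` : `PCent` for the image of an element of prime order `l > n` in a central quotient of a linear group;
* `noNorm_of_irred` : `NoNorm` in the defining characteristic for the image of an irreducible element.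
-/

set_option autoImplicit false

namespace Cfsg.Agent.H999.RowPSL

open Subgroup Matrix Module Cfsg.Agent.H568

section Grp

variable {G H : Type*} [Group G] [Group H] [Finite G] {f : G →* H}

theorem exists_lift_order (hf : Function.Surjective f) {l : ℕ} (hl : l.Prime) (hker : ¬ l ∣ Nat.card f.ker) {z : H}
    (hz : orderOf z = l) : ∃ g : G, f g = z ∧ orderOf g = l := by
  obtain ⟨g0, rfl⟩ := hf z
  have hc : Nat.Coprime (Nat.card f.ker) l := ((Nat.Prime.coprime_iff_not_dvd hl).2 hker).symm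
  obtain ⟨k, hk1, hk2⟩ := Nat.chineseRemainder hc 0 1
  have hfk : f (g0 ^ k) = f g0 := by
    rw [map_pow]
    conv_rhs => rw [← pow_one (f g0)]
    rw [pow_eq_pow_iff_modEq, hz]
    exact hk2
  refine ⟨g0 ^ k, hfk, ?_⟩
  have : Fact l.Prime := ⟨hl⟩
  refine orderOf_eq_prime ?_ ?_
  · have h1 : g0 ^ l ∈ f.ker := by rw [MonoidHom.mem_ker, map_pow, ← hz, pow_orderOf_eq_one]
    obtain ⟨c, rfl⟩ := (Nat.modEq_zero_iff_dvd).1 hk1
    rw [← pow_mul, mul_comm, pow_mul, pow_mul]
    have h2 : (g0 ^ l) ^ Nat.card f.ker = 1 := by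
      have h3 := pow_card_eq_one' (x := (⟨g0 ^ l, h1⟩ : f.ker))
      exact congrArg Subtype.val h3
    rw [h2, one_pow]
  · intro h
    rw [h, map_one] at hfk
    rw [← hfk, orderOf_one] at hz
    exact hl.one_lt.ne hz

theorem exists_lift_pelem {p : ℕ} [hp : Fact p.Prime] {j : ℕ} (g0 : G) (hz : f g0 ^ p ^ j = 1) :
    ∃ k : ℕ, f (g0 ^ k) = f g0 ∧ ∃ i : ℕ, (g0 ^ k) ^ p ^ i = 1 := by
  obtain ⟨a, m, hm, ham⟩ := Nat.exists_eq_pow_mul_and_not_dvd (orderOf_pos g0).ne' p hp.1.ne_one
  have hc : Nat.Coprime m (p ^ a) := (Nat.Coprime.pow_left _ ((Nat.Prime.coprime_iff_not_dvd hp.1).2 hm)).symm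
  obtain ⟨k, hk1, hk2⟩ := Nat.chineseRemainder hc 0 1
  refine ⟨k, ?_, a, ?_⟩
  · rw [map_pow]
    conv_rhs => rw [← pow_one (f g0)]
    rw [pow_eq_pow_iff_modEq]
    refine Nat.ModEq.of_dvd ?_ hk2
    have h1 : orderOf (f g0) ∣ p ^ j := orderOf_dvd_of_pow_eq_one hz
    have h2 : orderOf (f g0) ∣ p ^ a * m := by
      rw [← ham]; exact orderOf_map_dvd f g0
    have h3 : Nat.Coprime (orderOf (f g0)) m :=
      Nat.Coprime.coprime_dvd_left h1 (Nat.Coprime.pow_left _ ((Nat.Prime.coprime_iff_not_dvd hp.1).2 hm))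
    exact h3.dvd_of_dvd_mul_right h2
  · obtain ⟨c, rfl⟩ := (Nat.modEq_zero_iff_dvd).1 hk1
    rw [← pow_mul, mul_assoc, mul_comm c, ← mul_assoc, mul_comm m, ← ham, pow_mul, pow_orderOf_eq_one, one_pow]

/-- The `p`-part of the preimage of a `p`-subgroup in a central extension. -/
theorem exists_plift (hf : Function.Surjective f) (hc : f.ker ≤ center G) {p : ℕ} [hp : Fact p.Prime] {Q : Subgroup H}
    (hQ : IsPGroup p Q) : ∃ P : Subgroup G, IsPGroup p P ∧ (∀ y ∈ P, f y ∈ Q) ∧ (∀ z ∈ Q, ∃ y ∈ P, f y = z) ∧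
      ∀ x, f x ∈ normalizer (Q : Set H) → x ∈ normalizer (P : Set G) := by
  classical
  have : Finite H := Finite.of_surjective f hf
  set T := Q.comap f with hT
  let fT : T →* Q := (f.subgroupComap Q)
  have hnil : Group.IsNilpotent T := by
    have : Group.IsNilpotent Q := hQ.isNilpotent
    refine Subgroup.isNilpotent_of_ker_le_center fT ?_
    intro x hx
    rw [MonoidHom.mem_ker] at hx
    have h1 : f x = 1 := congrArg Subtype.val hx
    have h2 : (x : G) ∈ center G := hc h1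
    rw [mem_center_iff] at h2 ⊢
    intro g
    exact Subtype.ext (h2 g)
  obtain ⟨P0⟩ : Nonempty (Sylow p T) := inferInstance
  have hnor : (P0 : Subgroup T).Normal := by
    have := (Group.isNilpotent_of_finite_tfae (G := T)).out 0 3
    exact this.1 hnil p hp P0
  have hmem : ∀ y : T, (∃ i : ℕ, y ^ p ^ i = 1) → y ∈ (P0 : Subgroup T) := by
    rintro y ⟨i, hi⟩
    have hpg : IsPGroup p (zpowers y) := by
      rw [IsPGroup.iff_card]
      obtain ⟨b, -, hb⟩ := (Nat.dvd_prime_pow hp.1).1 (orderOf_dvd_of_pow_eq_one hi)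
      exact ⟨b, by rw [Nat.card_zpowers, hb]⟩
    obtain ⟨R, hR⟩ := hpg.exists_le_sylow
    have : Unique (Sylow p T) := Sylow.unique_of_normal P0 hnor
    rw [Subsingleton.elim R P0] at hR
    exact hR (mem_zpowers y)
  refine ⟨(P0 : Subgroup T).map T.subtype, P0.isPGroup'.map _, ?_, ?_, ?_⟩
  · rintro _ ⟨y, -, rfl⟩
    exact y.2
  · intro z hz
    obtain ⟨g0, rfl⟩ := hf z
    obtain ⟨j, hj⟩ := hQ ⟨f g0, hz⟩
    have hj' : f g0 ^ p ^ j = 1 := congrArg Subtype.val hj
    obtain ⟨k, h1, i, h2⟩ := exists_lift_pelem g0 hj'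
    have hmT : g0 ^ k ∈ T := by rw [hT, mem_comap, h1]; exact hz
    refine ⟨g0 ^ k, ⟨⟨g0 ^ k, hmT⟩, hmem _ ⟨i, Subtype.ext h2⟩, rfl⟩, h1⟩
  · intro x hx
    have key : ∀ x, f x ∈ normalizer (Q : Set H) → ∀ y ∈ (P0 : Subgroup T).map T.subtype,
        x * y * x⁻¹ ∈ (P0 : Subgroup T).map T.subtype := by
      rintro x hx _ ⟨y, hy, rfl⟩
      have h1 : x * y * x⁻¹ ∈ T := by
        have h2 : f (x * y * x⁻¹) ∈ Q := by
          rw [map_mul, map_mul, map_inv]
          exact (mem_normalizer_iff.1 hx _).1 y.2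
        exact h2
      refine ⟨⟨_, h1⟩, hmem _ ?_, rfl⟩
      obtain ⟨i, hi⟩ := P0.isPGroup' ⟨y, hy⟩
      have hi' : (y : G) ^ p ^ i = 1 := by
        have := congrArg (fun t => ((t : (P0 : Subgroup T)) : T)) hi
        exact congrArg Subtype.val this
      refine ⟨i, Subtype.ext ?_⟩
      show (x * (y : G) * x⁻¹) ^ p ^ i = 1
      rw [conj_pow, hi', mul_one, mul_inv_cancel]
    rw [mem_normalizer_iff]
    intro y
    refine ⟨key x hx y, fun h => ?_⟩
    have h1 := key x⁻¹ (by rw [map_inv]; exact inv_mem hx) _ h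
    have h2 : x⁻¹ * (x * y * x⁻¹) * x⁻¹⁻¹ = y := by group
    rwa [h2] at h1

end Grp

section Lin

variable {k : Type*} [Field k] {ι : Type*} [Fintype ι] [DecidableEq ι] {G H : Type*} [Group G] [Group H] [Finite G]
  {f : G →* H}

/-- `PCent` for the image of an element of prime order `l > n` in a central quotient of a linear group of degree `n`,
in characteristic not `p`. -/
theorem pcent_of_lin (hf : Function.Surjective f) (hc : f.ker ≤ center G) (ρ : G →* GL ι k)
    (hinj : Function.Injective ρ) {p l : ℕ} [hp : Fact p.Prime] (hp2 : p ≠ 2) (hl : l.Prime) (hlp : l ≠ p)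
    (hpk : (p : k) ≠ 0) {x : G} (hx : orderOf x = l) (hcard : Fintype.card ι < l) : PCent p (f x) := by
  intro Q hQ hn y hy
  obtain ⟨P, hP, -, hPQ, hPn⟩ := exists_plift hf hc hQ
  obtain ⟨y', hy', rfl⟩ := hPQ y hy
  have h1 := linP ρ hp.1 hp2 hl hlp hpk P hP (fun y _ h => hinj (by rw [h, map_one])) x (hPn x hn)
    (fun y _ => by rw [← hx, pow_orderOf_eq_one, one_mul, mul_one]) hcard y' hy'
  rw [← map_mul, h1, map_mul]

/-- `NoNorm` in the defining characteristic for the image of an irreducible element. -/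
theorem noNorm_of_irred [Finite k] (hf : Function.Surjective f) (hc : f.ker ≤ center G) (ρ : G →* GL ι k)
    (hinj : Function.Injective ρ) {p : ℕ} [hp : Fact p.Prime] (hpk : (p : k) = 0) [Nonempty ι] {x : G}
    (hirr : ∀ W : Submodule k (ι → k), (∀ w ∈ W, (ρ x : Matrix ι ι k) *ᵥ w ∈ W) → W = ⊥ ∨ W = ⊤) :
    NoNorm p (f x) := by
  classical
  intro Q hQ hn
  obtain ⟨P, hP, -, hPQ, hPn⟩ := exists_plift hf hc hQ
  have hxn := hPn x hn
  have hchar : CharP k p := by
    obtain ⟨r, hr⟩ := CharP.exists k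
    have h1 := (CharP.cast_eq_zero_iff k r p).1 hpk
    have h2 := (Nat.prime_dvd_prime_iff_eq (CharP.char_is_prime k r) hp.1).1 h1
    rwa [← h2]
  -- the fixed space of `P`
  let W : Submodule k (ι → k) :=
    { carrier := {v | ∀ y ∈ P, (ρ y : Matrix ι ι k) *ᵥ v = v}
      add_mem' := fun ha hb y hy => by rw [mulVec_add, ha y hy, hb y hy]
      zero_mem' := fun y _ => mulVec_zero _
      smul_mem' := fun c v hv y hy => by rw [mulVec_smul, hv y hy] }
  have hWinv : ∀ w ∈ W, (ρ x : Matrix ι ι k) *ᵥ w ∈ W := by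
    intro w hw y hy
    have h1 : x⁻¹ * y * x ∈ P := by
      have := (mem_normalizer_iff.1 (inv_mem hxn) y).1 hy
      rwa [inv_inv] at this
    have h2 := hw _ h1
    have h3 : (ρ x : Matrix ι ι k) *ᵥ ((ρ (x⁻¹ * y * x) : Matrix ι ι k) *ᵥ w) = (ρ x : Matrix ι ι k) *ᵥ w := by rw [h2]
    rw [mulVec_mulVec, ← Units.val_mul, ← map_mul] at h3
    have h4 : x * (x⁻¹ * y * x) = y * x := by group
    rw [h4, map_mul, Units.val_mul, ← mulVec_mulVec] at h3
    exact h3
  have hWne : W ≠ ⊥ := by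
    intro hW
    let act : MulAction P (ι → k) :=
      { smul := fun y v => (ρ (y : G) : Matrix ι ι k) *ᵥ v
        one_smul := fun v => by
          show (ρ ((1 : P) : G) : Matrix ι ι k) *ᵥ v = v
          rw [OneMemClass.coe_one, map_one, Units.val_one, one_mulVec]
        mul_smul := fun y z v => by
          show (ρ ((y * z : P) : G) : Matrix ι ι k) *ᵥ v = (ρ (y : G) : Matrix ι ι k) *ᵥ ((ρ (z : G) : Matrix ι ι k) *ᵥ v)
          rw [mulVec_mulVec, ← Units.val_mul, ← map_mul]
          rfl }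
    have h1 := hP.card_modEq_card_fixedPoints (ι → k)
    have h2 : Nat.card (MulAction.fixedPoints P (ι → k)) = 1 := by
      rw [Nat.card_eq_one_iff_unique]
      refine ⟨⟨?_⟩, ⟨⟨0, fun y => mulVec_zero _⟩⟩⟩
      have h3 : ∀ v : MulAction.fixedPoints P (ι → k), (v : ι → k) = 0 := by
        rintro ⟨v, hv⟩
        have h4 : v ∈ W := fun y hy => hv ⟨y, hy⟩
        rwa [hW, Submodule.mem_bot] at h4
      intro v w
      exact Subtype.ext ((h3 v).trans (h3 w).symm)
    rw [h2] at h1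
    have h5 : p ∣ Nat.card (ι → k) := by
      rw [Nat.card_fun]
      have h6 : p ∣ Nat.card k := by
        have : Fintype k := Fintype.ofFinite k
        rw [Nat.card_eq_fintype_card]
        obtain ⟨n, -, hn⟩ := FiniteField.card k p
        rw [hn]
        exact dvd_pow_self p n.ne_zero
      exact h6.trans (dvd_pow_self _ (Nat.card_pos.ne'))
    have h7 := (Nat.modEq_zero_iff_dvd.2 h5).symm.trans h1
    have h8 := (Nat.modEq_zero_iff_dvd).1 h7.symm
    exact hp.1.one_lt.ne' (Nat.dvd_one.1 h8)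
  have hWtop : W = ⊤ := (hirr W hWinv).resolve_left hWne
  have hPbot : ∀ y ∈ P, y = 1 := by
    intro y hy
    apply hinj
    rw [map_one]
    apply Units.ext
    rw [Units.val_one, ← mulVec_injective.eq_iff]
    funext v
    have hv : v ∈ W := hWtop ▸ Submodule.mem_top
    rw [hv y hy, one_mulVec]
  rw [eq_bot_iff]
  intro z hz
  obtain ⟨y, hy, rfl⟩ := hPQ z hz
  rw [hPbot y hy, map_one]
  exact one_mem _

end Lin

end Cfsg.Agent.H999.RowPSL
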