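import Cfsg.Agent.H999.RowPslA
import Cfsg.Agent.CpAut.Psl

/-!
# Linear facts for the row PSL of S4329 (helper999)

Centralisers of irreducible elements, of elements with a fixed line, and of unipotent elements of `SL_3(F)`.
-/

set_option autoImplicit false

namespace Cfsg.Agent.H999.RowPSL

open Matrix Module
open Cfsg.Agent.LieExceptional.SingerCentralizer

section

variable {F : Type*} [Field F] {n : ℕ}

/-- `l` is a primitive prime divisor of `|F| ^ m - 1`. -/
structure Prim (q l m : ℕ) : Prop where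
  pr : l.Prime
  dvd : l ∣ q ^ m - 1
  ndvd : ∀ d, 0 < d → d < m → ¬ l ∣ q ^ d - 1

theorem toLin_pow (x : Matrix (Fin n) (Fin n) F) (k : ℕ) : (toLin' x) ^ k = toLin' (x ^ k) := by
  rw [toLin'_pow]

/-- An element of primitive prime order is irreducible. -/
theorem irred [Finite F] {l : ℕ} (h : Prim (Nat.card F) l n) {x : Matrix (Fin n) (Fin n) F} (hx : x ^ l = 1)
    (hx1 : x ≠ 1) (W : Submodule F (Fin n → F)) (hW : ∀ w ∈ W, x *ᵥ w ∈ W) : W = ⊥ ∨ W = ⊤ := by
  refine invariant_eq_bot_or_top (g := toLin' x) h.pr ?_ ?_ ?_ ?_ W hW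
  · rw [toLin_pow, hx, toLin'_one]; rfl
  · intro h1
    apply hx1
    apply toLin'.injective
    rw [h1, toLin'_one]; rfl
  · rw [finrank_fintype_fun_eq_card, Fintype.card_fin]; exact h.dvd
  · rw [finrank_fintype_fun_eq_card, Fintype.card_fin]; exact h.ndvd

/-- Schur's lemma, eigenvalue form. -/
theorem scalar_of_eig {x A : Matrix (Fin n) (Fin n) F} (hc : A * x = x * A)
    (hirr : ∀ W : Submodule F (Fin n → F), (∀ w ∈ W, x *ᵥ w ∈ W) → W = ⊥ ∨ W = ⊤) {v : Fin n → F} (hv : v ≠ 0)
    {μ : F} (hμ : A *ᵥ v = μ • v) : scalar (Fin n) μ = A := by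
  let W : Submodule F (Fin n → F) :=
    { carrier := {w | A *ᵥ w = μ • w}
      add_mem' := fun {a b} ha hb => by
        show A *ᵥ (a + b) = μ • (a + b)
        rw [mulVec_add, ha, hb, smul_add]
      zero_mem' := by show A *ᵥ 0 = μ • (0 : Fin n → F); rw [mulVec_zero, smul_zero]
      smul_mem' := fun c w hw => by
        show A *ᵥ (c • w) = μ • (c • w)
        rw [mulVec_smul, hw, smul_comm] }
  have h1 : W = ⊤ := by
    refine (hirr W fun w hw => ?_).resolve_left ?_
    · show A *ᵥ (x *ᵥ w) = μ • (x *ᵥ w)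
      rw [mulVec_mulVec, hc, ← mulVec_mulVec, (show A *ᵥ w = μ • w from hw), mulVec_smul]
    · intro hb
      have : v ∈ W := hμ
      rw [hb, Submodule.mem_bot] at this
      exact hv this
  rw [← mulVec_injective.eq_iff]
  funext w
  have h2 : w ∈ W := h1 ▸ Submodule.mem_top
  rw [show A *ᵥ w = μ • w from h2]
  funext i
  simp [scalar_apply, mulVec_diagonal]

/-- A matrix without eigenvalues whose `p`-th power is scalar. -/
theorem dvd_sum [Finite F] {p : ℕ} (hp : p.Prime) {A : Matrix (Fin n) (Fin n) F} {r : F} (hr : r ≠ 0)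
    (hA : A ^ p = scalar (Fin n) r) (hno : ∀ (v : Fin n → F) (μ : F), v ≠ 0 → A *ᵥ v ≠ μ • v) :
    p ∣ ∑ i ∈ Finset.range n, Nat.card F ^ i := by
  classical
  have hfp : Fact p.Prime := ⟨hp⟩
  have hfr : finrank F (Fin n → F) = n := by rw [finrank_fintype_fun_eq_card, Fintype.card_fin]
  rw [← Projectivization.card_of_finrank F (Fin n → F) hfr]
  have hsc : ∀ v, (A ^ p) *ᵥ v = r • v := by
    intro v
    rw [hA]
    funext i
    simp [scalar_apply, mulVec_diagonal]
  have hinj : Function.Injective (toLin' A) := by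
    rw [← LinearMap.ker_eq_bot, eq_bot_iff]
    intro v hv
    by_contra hv0
    refine hno v 0 hv0 ?_
    rw [zero_smul]
    exact hv
  have hfin : Finite (Projectivization F (Fin n → F)) := inferInstance
  have hft : Fintype (Projectivization F (Fin n → F)) := Fintype.ofFinite _
  let f : Function.End (Projectivization F (Fin n → F)) := Projectivization.map (toLin' A) hinj
  have hfk : ∀ (k : ℕ) (v : Fin n → F) (hv : v ≠ 0) (hv' : (A ^ k) *ᵥ v ≠ 0),
      (f ^ k) (Projectivization.mk F v hv) = Projectivization.mk F ((A ^ k) *ᵥ v) hv' := by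
    intro k
    induction k with
    | zero =>
      intro v hv hv'
      rw [pow_zero]
      show Projectivization.mk F v hv = _
      congr 1
      rw [pow_zero, one_mulVec]
    | succ k ih =>
      intro v hv hv'
      have h1 : A *ᵥ v ≠ 0 := by
        intro h
        exact hv (hinj (by rw [map_zero]; exact h))
      have h2 : (A ^ k) *ᵥ (A *ᵥ v) ≠ 0 := by
        rw [mulVec_mulVec, ← pow_succ]; exact hv'
      rw [pow_succ]
      show (f ^ k) (f (Projectivization.mk F v hv)) = _
      have h3 : f (Projectivization.mk F v hv) = Projectivization.mk F (A *ᵥ v) h1 := rfl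
      rw [h3, ih _ h1 h2]
      congr 1
      rw [mulVec_mulVec, ← pow_succ]
  have hfp1 : f ^ p ^ 1 = 1 := by
    rw [pow_one]
    funext u
    induction u using Projectivization.ind with
    | h v hv =>
      have h1 : (A ^ p) *ᵥ v ≠ 0 := by rw [hsc]; exact smul_ne_zero hr hv
      rw [hfk p v hv h1]
      show _ = Projectivization.mk F v hv
      rw [Projectivization.mk_eq_mk_iff']
      exact ⟨r, (hsc v).symm⟩
  have key := Equiv.Perm.card_fixedPoints_modEq hfp1
  have h0 : Fintype.card f.fixedPoints = 0 := by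
    rw [Fintype.card_eq_zero_iff]
    refine ⟨?_⟩
    rintro ⟨u, hu⟩
    induction u using Projectivization.ind with
    | h v hv =>
      have h1 : A *ᵥ v ≠ 0 := by
        intro h
        exact hv (hinj (by rw [map_zero]; exact h))
      have h2 : Projectivization.mk F (A *ᵥ v) h1 = Projectivization.mk F v hv := hu
      rw [Projectivization.mk_eq_mk_iff'] at h2
      obtain ⟨a, ha⟩ := h2
      exact hno v a hv ha.symm
  rw [h0] at key
  rw [Nat.card_eq_fintype_card]
  exact (Nat.modEq_zero_iff_dvd).1 key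

/-- A matrix commuting with a matrix with a fixed space of dimension `1` has an eigenvector. -/
theorem eig_of_line {z A : Matrix (Fin n) (Fin n) F} (hc : A * z = z * A) (W : Submodule F (Fin n → F))
    (hW : finrank F W = 1) (hWA : ∀ w ∈ W, A *ᵥ w ∈ W) : ∃ (v : Fin n → F) (μ : F), v ≠ 0 ∧ A *ᵥ v = μ • v := by
  obtain ⟨⟨v, hvW⟩, hv0, hv⟩ := finrank_eq_one_iff'.1 hW
  have hvne : v ≠ 0 := fun h => hv0 (Subtype.ext h)
  obtain ⟨μ, hμ⟩ := hv ⟨_, hWA v hvW⟩
  exact ⟨v, μ, hvne, (congrArg Subtype.val hμ).symm⟩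

/-- An element of prime order primitive for `|F| ^ (n - 1) - 1` fixes exactly a line. -/
theorem finrank_fixed [Finite F] (hn : 3 ≤ n) {l : ℕ} (h : Prim (Nat.card F) l (n - 1))
    {z : Matrix (Fin n) (Fin n) F} (hz : z ^ l = 1) (hz1 : z ≠ 1) :
    finrank F (LinearMap.ker (toLin' z - 1)) = 1 := by
  have hfl : Fact l.Prime := ⟨h.pr⟩
  have hg : (toLin' z) ^ l = 1 := by rw [toLin_pow, hz, toLin'_one]; rfl
  have h1 := card_modEq_fixed (F := F) (toLin' z) hg ⊤ (fun w _ => Submodule.mem_top)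
  rw [finrank_top, top_inf_eq, finrank_fintype_fun_eq_card, Fintype.card_fin] at h1
  set d := finrank F (LinearMap.ker (toLin' z - 1)) with hd
  have hdn : d ≤ n := by
    rw [hd]
    refine (Submodule.finrank_le _).trans ?_
    rw [finrank_fintype_fun_eq_card, Fintype.card_fin]
  have hdn' : d ≠ n := by
    intro h2
    have h3 : LinearMap.ker (toLin' z - 1) = ⊤ := by
      apply Submodule.eq_top_of_finrank_eq
      rw [← hd, h2, finrank_fintype_fun_eq_card, Fintype.card_fin]
    rw [LinearMap.ker_eq_top, sub_eq_zero] at h3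
    apply hz1
    apply toLin'.injective
    rw [h3, toLin'_one]; rfl
  have hq : 0 < Nat.card F := Nat.card_pos
  have h4 : l ∣ Nat.card F ^ n - Nat.card F ^ d := (Nat.modEq_iff_dvd' (Nat.pow_le_pow_right hq hdn)).1 h1.symm
  have hfac : Nat.card F ^ n - Nat.card F ^ d = Nat.card F ^ d * (Nat.card F ^ (n - d) - 1) := by
    rw [Nat.mul_sub, mul_one, ← pow_add, Nat.add_sub_cancel' hdn]
  rw [hfac, h.pr.dvd_mul] at h4
  have hlq : ¬ l ∣ Nat.card F := by
    intro hlq
    have h5 : l ∣ Nat.card F ^ (n - 1) := hlq.trans (dvd_pow_self _ (by omega))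
    have h6 : l ∣ 1 := by
      have h7 : 1 ≤ Nat.card F ^ (n - 1) := Nat.one_le_pow _ _ hq
      have := Nat.dvd_sub h5 h.dvd
      rwa [Nat.sub_sub_self h7] at this
    exact h.pr.one_lt.ne' (Nat.dvd_one.1 h6)
  have h8 : l ∣ Nat.card F ^ (n - d) - 1 := by
    rcases h4 with h4 | h4
    · exact absurd (h.pr.dvd_of_dvd_pow h4) hlq
    · exact h4
  -- `n - d` is `n - 1` or at least `n`
  by_contra hd1
  rcases Nat.lt_or_ge (n - d) (n - 1) with h9 | h9
  · exact h.ndvd (n - d) (by omega) h9 h8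
  · have hd0 : d = 0 := by omega
    rw [hd0, Nat.sub_zero] at h8
    -- `l ∣ q ^ n - 1` and `l ∣ q ^ (n - 1) - 1`
    have h10 : l ∣ Nat.card F ^ n - Nat.card F ^ 1 := by
      have h11 : Nat.card F ^ n - Nat.card F ^ 1 = Nat.card F ^ 1 * (Nat.card F ^ (n - 1) - 1) := by
        rw [Nat.mul_sub, mul_one, ← pow_add, Nat.add_sub_cancel' (by omega)]
      rw [h11]
      exact h.dvd.mul_left _
    have h12 : l ∣ Nat.card F ^ 1 - 1 := by
      have h13 : 1 ≤ Nat.card F ^ 1 := Nat.one_le_pow _ _ hq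
      have h14 : Nat.card F ^ 1 ≤ Nat.card F ^ n := Nat.pow_le_pow_right hq (by omega)
      have h15 := Nat.dvd_sub h8 h10
      have h16 : Nat.card F ^ n - 1 - (Nat.card F ^ n - Nat.card F ^ 1) = Nat.card F ^ 1 - 1 := by omega
      rwa [h16] at h15
    exact h.ndvd 1 one_pos (by omega) h12

theorem eig_of_fixed [Finite F] (hn : 3 ≤ n) {l : ℕ} (h : Prim (Nat.card F) l (n - 1))
    {z A : Matrix (Fin n) (Fin n) F} (hz : z ^ l = 1) (hz1 : z ≠ 1) (hc : A * z = z * A) :
    ∃ (v : Fin n → F) (μ : F), v ≠ 0 ∧ A *ᵥ v = μ • v := by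
  refine eig_of_line hc _ (finrank_fixed hn h hz hz1) fun w hw => ?_
  rw [LinearMap.mem_ker] at hw ⊢
  have h1 : z *ᵥ w = w := sub_eq_zero.1 hw
  show z *ᵥ (A *ᵥ w) - A *ᵥ w = 0
  rw [mulVec_mulVec, ← hc, ← mulVec_mulVec, h1, sub_self]

/-- Unipotent elements in dimension `3`. -/
theorem eig_of_unip {p : ℕ} [hp : Fact p.Prime] [CharP F p] {z A : Matrix (Fin 3) (Fin 3) F}
    (hz : z ^ p = 1) (hz1 : z ≠ 1) (hc : A * z = z * A) :
    ∃ (v : Fin 3 → F) (μ : F), v ≠ 0 ∧ A *ᵥ v = μ • v := by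
  set N : Module.End F (Fin 3 → F) := toLin' (z - 1) with hN
  have hNp : N ^ p = 0 := by
    rw [hN, toLin_pow, sub_pow_char_of_commute (R := Matrix (Fin 3) (Fin 3) F) p (Commute.one_right z), hz, one_pow,
      sub_self, map_zero]
  have hN0 : N ≠ 0 := by
    intro h
    apply hz1
    have : z - 1 = 0 := toLin'.injective (by rw [← hN, h, map_zero])
    exact sub_eq_zero.1 this
  have hcom : A * (z - 1) = (z - 1) * A := by rw [mul_sub, sub_mul, hc, mul_one, one_mul]
  have hsum := LinearMap.finrank_range_add_finrank_ker N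
  rw [finrank_fintype_fun_eq_card, Fintype.card_fin] at hsum
  have hker : finrank F (LinearMap.ker N) ≠ 0 := by
    intro h
    have h1 : LinearMap.ker N = ⊥ := Submodule.finrank_eq_zero.1 h
    have h2 : Function.Injective N := LinearMap.ker_eq_bot.1 h1
    have h3 : Function.Injective (N ^ p : Module.End F (Fin 3 → F)) := by
      rw [Module.End.coe_pow]
      exact h2.iterate p
    rw [hNp] at h3
    have h4 : (fun _ => 1 : Fin 3 → F) = 0 := h3 rfl
    exact one_ne_zero (congrFun h4 0)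
  have hran : finrank F (LinearMap.range N) ≠ 0 := by
    intro h
    exact hN0 (LinearMap.range_eq_bot.1 (Submodule.finrank_eq_zero.1 h))
  rcases (show finrank F (LinearMap.ker N) = 1 ∨ finrank F (LinearMap.range N) = 1 by omega) with h | h
  · refine eig_of_line hc _ h fun w hw => ?_
    rw [LinearMap.mem_ker] at hw ⊢
    show (z - 1) *ᵥ (A *ᵥ w) = 0
    rw [mulVec_mulVec, ← hcom, ← mulVec_mulVec, show (z - 1) *ᵥ w = 0 from hw, mulVec_zero]
  · refine eig_of_line hc _ h fun w hw => ?_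
    obtain ⟨u, rfl⟩ := hw
    refine ⟨A *ᵥ u, ?_⟩
    show (z - 1) *ᵥ (A *ᵥ u) = A *ᵥ ((z - 1) *ᵥ u)
    rw [mulVec_mulVec, ← hcom, ← mulVec_mulVec]

end

end Cfsg.Agent.H999.RowPSL
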