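import Cfsg.Agent.H999.RowPslC

/-!
# The row PSL of S4329 (helper999): linear automorphisms, `p` not the characteristic
-/

set_option autoImplicit false

namespace Cfsg.Agent.H999.RowPSL

open Matrix Module Cfsg.Agent.H568
open Cfsg.Agent.ClassicalGeometry.AutPSL.Root
open Cfsg.Agent.ClassicalGeometry.AutPSL.Auto
open Cfsg.Agent.ClassicalGeometry.AutPSL.Main
open Cfsg.Agent.CpAut.Psl
open Cfsg.Agent.LieExceptional.SingerCentralizer
open Cfsg.Agent.Lib.Zsigmondy

section

variable {F : Type*} [Field F] [Fintype F] {n : ℕ}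

/-- The conclusion of the third alternative of `row_of`. -/
def Good (p : ℕ) (a : MulAut (Matrix.ProjectiveSpecialLinearGroup (Fin n) F)) : Prop :=
  ∃ x : Matrix.ProjectiveSpecialLinearGroup (Fin n) F, ¬ p ∣ orderOf x ∧ PCent p x ∧
    ∀ g : MulAut (Matrix.ProjectiveSpecialLinearGroup (Fin n) F), (g * a * g⁻¹) x ≠ x

theorem dvd_card_SL {l j : ℕ} (hj : 2 ≤ j) (hjn : j ≤ n) (h : l ∣ Fintype.card F ^ j - 1) :
    l ∣ Nat.card (Matrix.SpecialLinearGroup (Fin n) F) := by
  rw [H953.card_SL n (by omega)]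
  exact ((h.trans (Finset.dvd_prod_of_mem (fun j => Fintype.card F ^ j - 1) (Finset.mem_Icc.2 ⟨hj, hjn⟩)))).mul_left _

theorem Prim.of_iff {q l m : ℕ} (hl : l.Prime) (h : ∀ k, l ∣ q ^ k - 1 ↔ m ∣ k) : Prim q l m where
  pr := hl
  dvd := (h m).2 (dvd_refl m)
  ndvd := fun d h0 h1 h2 => absurd (Nat.le_of_dvd h0 ((h d).1 h2)) (not_le.2 h1)

theorem Prim.not_dvd_base {q l m : ℕ} (h : Prim q l m) (hq : 0 < q) (hm : 0 < m) : ¬ l ∣ q := by
  intro hlq
  have h5 : l ∣ q ^ m := hlq.trans (dvd_pow_self _ (by omega))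
  have h6 : l ∣ 1 := by
    have h7 : 1 ≤ q ^ m := Nat.one_le_pow _ _ hq
    have := Nat.dvd_sub h5 h.dvd
    rwa [Nat.sub_sub_self h7] at this
  exact h.pr.one_lt.ne' (Nat.dvd_one.1 h6)

/-- the `p`-th power of `A` is scalar -/
theorem pow_scalar (hn : 2 ≤ n) {p : ℕ} {A : GL (Fin n) F} (h : lift (cj A) ^ p = 1) :
    ∃ r : F, r ≠ 0 ∧ (A : Matrix (Fin n) (Fin n) F) ^ p = scalar (Fin n) r := by
  have : Nontrivial (Fin n) := Fin.nontrivial_iff_two_le.2 hn
  have : Nonempty (Fin n) := inferInstance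
  have h1 : lift (cj (A ^ p) * fld (1 : F ≃+* F)) = lift (fld (1 : F ≃+* F)) := by
    rw [map_one, mul_one, map_pow, map_pow, h, map_one]
  obtain ⟨⟨r, hr⟩, -⟩ := injective_aux h1
  exact ⟨r, scalar_ne_zero hr, by rw [← Units.val_pow_eq_pow_val, ← hr]⟩

/-- If `lift (cj A)` is not good, some element of order `l` commutes with `A`. -/
theorem exists_comm {p l : ℕ} [hp : Fact p.Prime] (hp2 : p ≠ 2) (hpk : (p : F) ≠ 0) (hn : 1 ≤ n) (hl : l.Prime)
    (hlp : l ≠ p) (hlq : ¬ l ∣ Fintype.card F - 1)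
    (hd : l ∣ Nat.card (Matrix.SpecialLinearGroup (Fin n) F)) (hln : n < l) {A : GL (Fin n) F}
    (hng : ¬ Good p (lift (cj A))) : ∃ z : Matrix (Fin n) (Fin n) F, z ^ l = 1 ∧ z ≠ 1 ∧
      (A : Matrix (Fin n) (Fin n) F) * z = z * (A : Matrix (Fin n) (Fin n) F) := by
  by_contra hcon
  apply hng
  refine exists_of_lin hp2 hpk hl hlp (not_dvd_center hn hl hlq) hd hln A fun g hg hc => hcon ⟨g.1, ?_, ?_, hc⟩
  · have h1 : g ^ l = 1 := by rw [← hg, pow_orderOf_eq_one]
    have h2 := congrArg Subtype.val h1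
    rwa [Matrix.SpecialLinearGroup.coe_pow] at h2
  · intro h1
    have h2 : g = 1 := Subtype.ext h1
    rw [h2, orderOf_one] at hg
    exact hl.one_lt.ne hg

/-- `A` has no eigenvector when it commutes with an irreducible element. -/
theorem no_eig {p : ℕ} (hp : p.Prime) {A : GL (Fin n) F} (ho : orderOf (lift (cj A)) = p) {z : Matrix (Fin n) (Fin n) F}
    (hc : (A : Matrix (Fin n) (Fin n) F) * z = z * (A : Matrix (Fin n) (Fin n) F))
    (hirr : ∀ W : Submodule F (Fin n → F), (∀ w ∈ W, z *ᵥ w ∈ W) → W = ⊥ ∨ W = ⊤) (v : Fin n → F) (μ : F)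
    (hv : v ≠ 0) : (A : Matrix (Fin n) (Fin n) F) *ᵥ v ≠ μ • v := by
  intro h
  have h1 := scalar_of_eig hc hirr hv h
  rw [cj_eq_one_of_scalar h1, map_one, orderOf_one] at ho
  exact hp.one_lt.ne ho

theorem sum_dvd {p q n : ℕ} (hq : 1 ≤ q) (h : p ∣ ∑ i ∈ Finset.range n, q ^ i) : p ∣ q ^ n - 1 := by
  have h2 : (∑ i ∈ Finset.range n, q ^ i) * (q - 1) = q ^ n - 1 := by
    have h3 := Commute.geom_sum₂_mul (Commute.one_right (q : ℤ)) n
    have h4 : (∑ i ∈ Finset.range n, (q : ℤ) ^ i) * (q - 1) = (q : ℤ) ^ n - 1 := by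
      simpa using h3
    zify [hq, Nat.one_le_pow n q hq]
    exact h4
  rw [← h2]
  exact h.mul_right _

/-- The exceptional case `PSL_6(2)`. -/
theorem six (hq : Fintype.card F = 2) {p : ℕ} [hp : Fact p.Prime] (hp2 : p ≠ 2) (hpk : (p : F) ≠ 0) {A : GL (Fin 6) F}
    (ho : orderOf (lift (cj A)) = p) :
    ((∃ s : Matrix.ProjectiveSpecialLinearGroup (Fin 6) F, lift (cj A) = MulAut.conj s) ∧
      ∃ P : Sylow p (Matrix.ProjectiveSpecialLinearGroup (Fin 6) F),
        IsCyclic ↥(P : Subgroup (Matrix.ProjectiveSpecialLinearGroup (Fin 6) F))) ∨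
    Good p (lift (cj A)) := by
  have hpow : lift (cj A) ^ p = 1 := by rw [← ho, pow_orderOf_eq_one]
  by_cases h31 : p = 31
  · subst h31
    left
    refine ⟨inner_of_coprime (by norm_num) hpow, ?_⟩
    obtain ⟨P⟩ : Nonempty (Sylow 31 (Matrix.ProjectiveSpecialLinearGroup (Fin 6) F)) := inferInstance
    refine ⟨P, ?_⟩
    obtain ⟨k, hk⟩ := IsPGroup.iff_card.1 P.isPGroup'
    have h1 : 31 ^ k ∣ Nat.card (Matrix.SpecialLinearGroup (Fin 6) F) := by
      rw [← hk]
      refine (Subgroup.card_subgroup_dvd_card _).trans ?_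
      exact Subgroup.card_quotient_dvd_card _
    rw [H953.card_SL 6 (by norm_num), hq] at h1
    have h2 : k ≤ 1 := by
      by_contra hk1
      have h3 : 31 ^ 2 ∣ 2 ^ (∑ i ∈ Finset.range 6, i) * ∏ j ∈ Finset.Icc 2 6, (2 ^ j - 1) :=
        (pow_dvd_pow 31 (by omega)).trans h1
      revert h3
      decide
    have h4 : k = 0 ∨ k = 1 := by omega
    rcases h4 with rfl | rfl
    · rw [pow_zero, Subgroup.card_eq_one] at hk
      rw [hk]
      infer_instance
    · rw [pow_one] at hk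
      exact isCyclic_of_prime_card hk
  · right
    by_contra hng
    have hq' : Nat.card F = 2 := by rw [Nat.card_eq_fintype_card, hq]
    have hpr : Prim (Nat.card F) 31 (6 - 1) := by
      rw [hq']
      refine ⟨by norm_num, by norm_num, ?_⟩
      intro d h0 h1
      interval_cases d <;> norm_num
    obtain ⟨z, hz, hz1, hc⟩ := exists_comm hp2 hpk (by norm_num) (l := 31) (by norm_num) (Ne.symm h31)
      (by rw [hq]; norm_num) (dvd_card_SL (j := 5) (by norm_num) (by norm_num) (by rw [hq]; norm_num)) (by norm_num) hng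
    have hfr := finrank_fixed (by norm_num) hpr hz hz1
    obtain ⟨v, μ, hv, hμ⟩ := eig_of_fixed (by norm_num) hpr hz hz1 hc
    obtain ⟨r, hr0, hr⟩ := pow_scalar (by norm_num) hpow
    have hF : ∀ a : F, a ≠ 0 → a = 1 := by
      intro a ha
      have h1 := FiniteField.pow_card_sub_one_eq_one a ha
      rwa [hq, show 2 - 1 = 1 from rfl, pow_one] at h1
    have hAp : (A : Matrix (Fin 6) (Fin 6) F) ^ p = 1 := by rw [hr, hF r hr0, map_one]
    -- the fixed space of `A`
    set W : Submodule F (Fin 6 → F) := LinearMap.ker (toLin' (A : Matrix (Fin 6) (Fin 6) F) - 1) with hW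
    have hWm : ∀ w, w ∈ W ↔ (A : Matrix (Fin 6) (Fin 6) F) *ᵥ w = w := by
      intro w
      rw [hW, LinearMap.mem_ker]
      exact sub_eq_zero
    have hUm : ∀ w, w ∈ LinearMap.ker (toLin' z - 1) ↔ z *ᵥ w = w := by
      intro w
      rw [LinearMap.mem_ker]
      exact sub_eq_zero
    have hAinj : ∀ w, (A : Matrix (Fin 6) (Fin 6) F) *ᵥ w = 0 → w = 0 := by
      intro w hw
      have h1 : ((A⁻¹ : GL (Fin 6) F) : Matrix (Fin 6) (Fin 6) F) *ᵥ ((A : Matrix (Fin 6) (Fin 6) F) *ᵥ w) = w := by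
        rw [mulVec_mulVec, ← Units.val_mul, inv_mul_cancel, Units.val_one, one_mulVec]
      rw [← h1, hw, mulVec_zero]
    -- `ker (z - 1) ≤ W`
    have hUW : LinearMap.ker (toLin' z - 1) ≤ W := by
      obtain ⟨⟨u, huU⟩, hu0, hu⟩ := finrank_eq_one_iff'.1 hfr
      have hune : u ≠ 0 := fun h => hu0 (Subtype.ext h)
      have hAu : (A : Matrix (Fin 6) (Fin 6) F) *ᵥ u ∈ LinearMap.ker (toLin' z - 1) := by
        rw [hUm, mulVec_mulVec, ← hc, ← mulVec_mulVec, (hUm u).1 huU]
      obtain ⟨ν, hν⟩ := hu ⟨_, hAu⟩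
      have hν' : ν • u = (A : Matrix (Fin 6) (Fin 6) F) *ᵥ u := congrArg Subtype.val hν
      have hν0 : ν ≠ 0 := by
        rintro rfl
        rw [zero_smul] at hν'
        exact hune (hAinj u hν'.symm)
      rw [hF ν hν0, one_smul] at hν'
      intro w hw
      obtain ⟨c, hcw⟩ := hu ⟨w, hw⟩
      have hcw' : c • u = w := congrArg Subtype.val hcw
      rw [hWm, ← hcw', mulVec_smul, ← hν']
    have hzW : ∀ w ∈ W, toLin' z w ∈ W := by
      intro w hw
      rw [hWm] at hw ⊢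
      show (A : Matrix (Fin 6) (Fin 6) F) *ᵥ (z *ᵥ w) = z *ᵥ w
      rw [mulVec_mulVec, hc, ← mulVec_mulVec, hw]
    have hf31 : Fact (Nat.Prime 31) := ⟨by norm_num⟩
    have h1 := card_modEq_fixed (F := F) (toLin' z) (p := 31) (by rw [toLin_pow, hz, toLin'_one]; rfl) W hzW
    rw [inf_eq_right.2 hUW, hfr, hq'] at h1
    have h2 := card_modEq_fixed (F := F) (toLin' (A : Matrix (Fin 6) (Fin 6) F)) (p := p)
      (by rw [toLin_pow, hAp, toLin'_one]; rfl) ⊤ (fun w _ => Submodule.mem_top)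
    rw [top_inf_eq, ← hW, finrank_top, finrank_fintype_fun_eq_card, Fintype.card_fin, hq'] at h2
    have hd6 : finrank F W ≤ 6 := by
      refine (Submodule.finrank_le _).trans ?_
      rw [finrank_fintype_fun_eq_card, Fintype.card_fin]
    have hd6' : finrank F W ≠ 6 := by
      intro h6
      have h3 : W = ⊤ := by
        apply Submodule.eq_top_of_finrank_eq
        rw [h6, finrank_fintype_fun_eq_card, Fintype.card_fin]
      have h4 : scalar (Fin 6) (1 : F) = (A : Matrix (Fin 6) (Fin 6) F) := by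
        rw [map_one]
        rw [← mulVec_injective.eq_iff]
        funext w
        rw [one_mulVec, (hWm w).1 (h3 ▸ Submodule.mem_top)]
      rw [cj_eq_one_of_scalar h4, map_one, orderOf_one] at ho
      exact hp.1.one_lt.ne ho
    set d := finrank F W with hd
    have hd1 : d = 1 := by
      have h3 : d < 6 := lt_of_le_of_ne hd6 hd6'
      interval_cases d
      · exact absurd h1 (by decide)
      · rfl
      · exact absurd h1 (by decide)
      · exact absurd h1 (by decide)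
      · exact absurd h1 (by decide)
      · exact absurd h1 (by decide)
    rw [hd1] at h2
    have h3 : p ∣ 2 ^ 6 - 2 ^ 1 := (Nat.modEq_iff_dvd' (by norm_num)).1 h2.symm
    have h4 : p ∣ 2 * 31 := by
      have : 2 ^ 6 - 2 ^ 1 = 2 * 31 := by norm_num
      rwa [this] at h3
    rcases hp.1.dvd_mul.1 h4 with h5 | h5
    · exact hp2 ((Nat.prime_dvd_prime_iff_eq hp.1 Nat.prime_two).1 h5)
    · exact h31 ((Nat.prime_dvd_prime_iff_eq hp.1 (by norm_num)).1 h5)

end

end Cfsg.Agent.H999.RowPSL
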